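/-
Finite abelian groups acting on finite abelian groups.

Main results: `stabilizer_eq_of_antichain` (orbit sizes forming an antichain are all equal, and so
are the stabilizers), `card_sub_one` (counting orbits with a fixed point), `card_eq_of_ratio`.
-/
import Mathlib

set_option autoImplicit false

namespace Cfsg.Agent.NoDivDeg

open MulAction

variable {A V : Type*} [CommGroup A] [Finite A] [CommGroup V] [Finite V] [MulDistribMulAction A V]

theorem eq_of_le_of_index_dvd {S T : Subgroup A} (hle : S ≤ T)
    (h : S.index = T.index) : S = T := by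
  refine Subgroup.eq_of_le_of_card_ge hle ?_
  have h1 := S.card_mul_index
  rw [← T.card_mul_index, h] at h1
  exact (Nat.eq_of_mul_eq_mul_right (Nat.pos_of_ne_zero Subgroup.index_ne_zero_of_finite) h1).ge

/-- An element is in a subgroup if two coprime powers are. -/
theorem mem_of_coprime_pow {G : Type*} [Group G] (S : Subgroup G) {a : G} {m n : ℕ}
    (h : Nat.Coprime m n) (hm : a ^ m ∈ S) (hn : a ^ n ∈ S) : a ∈ S := by
  have e : a = (a ^ m) ^ (Nat.gcdA m n) * (a ^ n) ^ (Nat.gcdB m n) := by
    rw [← zpow_natCast a m, ← zpow_natCast a n, ← zpow_mul, ← zpow_mul, ← zpow_add,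
      ← Nat.gcd_eq_gcd_ab, h.gcd_eq_one, Nat.cast_one, zpow_one]
  rw [e]
  exact S.mul_mem (S.zpow_mem hm _) (S.zpow_mem hn _)

/-- Comparable stabilizers of nontrivial elements being equal, all of them are equal. -/
theorem stabilizer_eq_of_le
    (hle : ∀ a b : V, a ≠ 1 → b ≠ 1 → stabilizer A a ≤ stabilizer A b →
      stabilizer A a = stabilizer A b) {v w : V} (hv : v ≠ 1) (hw : w ≠ 1) :
    stabilizer A v = stabilizer A w := by
  classical
  have hpow : ∀ (a : V) (k : ℕ), stabilizer A a ≤ stabilizer A (a ^ k) := fun a k x hx => by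
    rw [mem_stabilizer_iff] at hx ⊢
    rw [smul_pow', hx]
  -- reduce to elements of prime order
  have hred : ∀ a : V, a ≠ 1 → ∃ b : V, (orderOf b).Prime ∧ stabilizer A a = stabilizer A b := by
    intro a ha
    obtain ⟨r, hr, hd⟩ := Nat.exists_prime_and_dvd (fun e => ha (orderOf_eq_one_iff.1 e))
    have ho : orderOf (a ^ (orderOf a / r)) = r := orderOf_pow_orderOf_div (orderOf_pos a).ne' hd
    exact ⟨_, by rw [ho]; exact hr, hle a _ ha (fun e => hr.ne_one (by rw [← ho, e, orderOf_one]))
      (hpow a _)⟩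
  obtain ⟨b, hb, eb⟩ := hred v hv
  obtain ⟨c, hc, ec⟩ := hred w hw
  rw [eb, ec]
  have hne : ∀ {x : V}, (orderOf x).Prime → x ≠ 1 := fun {x} hx e => hx.ne_one (by rw [e, orderOf_one])
  by_cases hord : orderOf b = orderOf c
  swap
  · -- different primes
    have hco : (orderOf b).Coprime (orderOf c) := (Nat.coprime_primes hb hc).2 hord
    have hbc : b * c ≠ 1 := fun e => hord (by rw [eq_inv_of_mul_eq_one_left e, orderOf_inv])
    have key : ∀ x y : V, (orderOf x).Coprime (orderOf y) → stabilizer A (x * y) ≤ stabilizer A x := by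
      intro x y hxy s hs
      rw [mem_stabilizer_iff] at hs ⊢
      have h1 : x ^ orderOf y = (x * y) ^ orderOf y := by
        rw [mul_pow, pow_orderOf_eq_one, mul_one]
      obtain ⟨k, hk⟩ := exists_pow_eq_self_of_coprime (x := x) hxy.symm
      rw [← hk, h1, smul_pow', smul_pow', hs]
    rw [← hle _ b hbc (hne hb) (key b c hco),
      hle _ c hbc (hne hc) (mul_comm b c ▸ key c b hco.symm)]
  -- one prime `r`
  set r := orderOf b with hr
  haveI := Fact.mk hb
  obtain ⟨k, m, hcardA, hrm⟩ : ∃ k m : ℕ, Nat.card A = r ^ k * m ∧ ¬ r ∣ m := by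
    obtain ⟨k, m, hm, he⟩ := Nat.exists_eq_pow_mul_and_not_dvd (Nat.card_pos (α := A)).ne' r hb.ne_one
    exact ⟨k, m, he, hm⟩
  -- elements of `r`-power order act trivially
  have hP : ∀ x : V, x ^ r = 1 → ∀ a : A, a ^ (r ^ k) = 1 → a • x = x := by
    intro x hx a ha
    by_cases hx1 : x = 1
    · rw [hx1, smul_one]
    let P : Subgroup A := Subgroup.zpowers a
    let F : Subgroup V :=
      { carrier := {y | y ^ r = 1 ∧ ∀ s ∈ stabilizer A x, s • y = y}
        one_mem' := ⟨one_pow _, fun s _ => smul_one s⟩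
        mul_mem' := fun {p q} hp hq => ⟨by rw [mul_pow, hp.1, hq.1, one_mul],
          fun s hs => by rw [smul_mul', hp.2 s hs, hq.2 s hs]⟩
        inv_mem' := fun {p} hp => ⟨by rw [inv_pow, hp.1, inv_one],
          fun s hs => by rw [smul_inv', hp.2 s hs]⟩ }
    have hsm : ∀ (s : A) (y : V), y ∈ F → s • y ∈ F := fun s y hy =>
      ⟨by rw [← smul_pow', hy.1, smul_one], fun t ht => by rw [smul_comm, hy.2 t ht]⟩
    letI : MulAction P F :=
      { smul := fun s y => ⟨(s : A) • (y : V), hsm _ _ y.2⟩
        one_smul := fun y => Subtype.ext (one_smul A (y : V))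
        mul_smul := fun s t y => Subtype.ext (mul_smul (s : A) (t : A) (y : V)) }
    have hPp : IsPGroup r P := by
      obtain ⟨j, -, hj⟩ := (Nat.dvd_prime_pow hb).1 (orderOf_dvd_of_pow_eq_one ha)
      exact IsPGroup.of_card (n := j) (by rw [Nat.card_zpowers, hj])
    have hdvd : r ∣ Nat.card F := by
      have h1 : orderOf (⟨x, hx, fun s hs => hs⟩ : F) = r := by
        rw [← Subgroup.orderOf_coe]
        exact orderOf_eq_prime hx hx1
      exact h1 ▸ orderOf_dvd_natCard _
    obtain ⟨y, hy, hy1⟩ := hPp.exists_fixed_point_of_prime_dvd_card_of_fixed_point (α := F) hdvd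
      (a := 1) (fun s => Subtype.ext (smul_one (s : A)))
    have hyne : (y : V) ≠ 1 := fun e => hy1 (Subtype.ext e.symm)
    have := hle x y hx1 hyne (fun s hs => y.2.2 s hs)
    have hmem : a ∈ stabilizer A (y : V) :=
      congrArg Subtype.val (hy ⟨a, Subgroup.mem_zpowers a⟩)
    rw [← this] at hmem
    exact hmem
  -- the stabilizer of `c` fixes `b`
  refine (hle c b (hne hc) (hne hb) ?_).symm
  have hbr : b ^ r = 1 := pow_orderOf_eq_one b
  have hcr : c ^ r = 1 := hord ▸ pow_orderOf_eq_one c
  let E : Subgroup A := (stabilizer A c).map (powMonoidHom (r ^ k))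
  have hEc : ∀ e ∈ E, e • c = c := by
    rintro _ ⟨s, hs, rfl⟩
    exact mem_stabilizer_iff.1 ((stabilizer A c).pow_mem hs _)
  have hEcop : (Nat.card E).Coprime r := by
    refine (Nat.Coprime.symm (hb.coprime_iff_not_dvd.2 fun hd => ?_))
    obtain ⟨e, hord'⟩ := exists_prime_orderOf_dvd_card' (G := E) r hd
    obtain ⟨s, -, hse⟩ := Subgroup.mem_map.1 e.2
    refine hrm (hord' ▸ Subgroup.orderOf_coe e ▸ orderOf_dvd_of_pow_eq_one ?_)
    rw [← hse, powMonoidHom_apply, ← pow_mul, ← hcardA, pow_card_eq_one']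
  haveI := Fintype.ofFinite E
  let norm : V → V := fun x => ∏ e : E, (e : A) • x
  have hnorm_inv : ∀ (e : A), e ∈ E → ∀ x : V, e • norm x = norm x := fun e he x => by
    simp only [norm, Finset.smul_prod', smul_smul]
    exact Fintype.prod_equiv (Equiv.mulLeft (⟨e, he⟩ : E)) _ _ fun _ => rfl
  have hnorm_fix : ∀ x : V, (∀ e ∈ E, e • x = x) → norm x = x ^ Nat.card E := fun x hx => by
    simp only [norm, hx _ (Subtype.prop _), Finset.prod_const, Finset.card_univ,
      Nat.card_eq_fintype_card]
  have hnorm_smul : ∀ (s : A) (x : V), norm (s • x) = s • norm x := fun s x => by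
    simp only [norm, Finset.smul_prod', smul_smul]
    exact Finset.prod_congr rfl fun e _ => by rw [mul_comm]
  have hnorm_mul : ∀ x y : V, norm (x * y) = norm x * norm y := fun x y => by
    simp only [norm, smul_mul', Finset.prod_mul_distrib]
  have hcoV : ∀ x : V, x ^ r = 1 → ∀ s : A, s • (x ^ Nat.card E) = x ^ Nat.card E → s • x = x := by
    intro x hx s hs
    obtain ⟨j, hj⟩ := exists_pow_eq_self_of_coprime (x := x)
      (hEcop.coprime_dvd_right (orderOf_dvd_of_pow_eq_one hx))
    rw [← hj, smul_pow', hs]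
  -- the part of `b` of trivial norm
  set u := b ^ Nat.card E * (norm b)⁻¹ with hu
  have hnu : norm u = 1 := by
    have h1 : norm (b ^ Nat.card E) = norm b ^ Nat.card E := by
      simp only [norm, smul_pow', Finset.prod_pow]
    have h2 : norm (norm b)⁻¹ = ((norm b) ^ Nat.card E)⁻¹ := by
      rw [hnorm_fix _ fun e he => by rw [smul_inv', hnorm_inv e he], inv_pow]
    rw [hu, hnorm_mul, h1, h2, mul_inv_cancel]
  have hu1 : u = 1 := by
    by_contra hu1
    have hsu : stabilizer A b = stabilizer A u := by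
      refine hle b u (hne hb) hu1 fun s hs => ?_
      rw [mem_stabilizer_iff] at hs ⊢
      rw [hu, smul_mul', smul_inv', smul_pow', ← hnorm_smul, hs]
    have hur : u ^ r = 1 := by
      have h1 : norm b ^ r = 1 := by
        simp only [norm, ← Finset.prod_pow, ← smul_pow', hbr, smul_one, Finset.prod_const_one]
      rw [hu, mul_pow, inv_pow, h1, inv_one, mul_one, ← pow_mul, mul_comm, pow_mul, hbr, one_pow]
    have huc : stabilizer A (u * c) ≤ stabilizer A c ⊓ stabilizer A u := by
      intro s hs
      rw [mem_stabilizer_iff] at hs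
      have h1 : s • norm (u * c) = norm (u * c) := by rw [← hnorm_smul, hs]
      rw [hnorm_mul, hnu, one_mul, hnorm_fix c hEc] at h1
      have hsc : s • c = c := hcoV c hcr s h1
      refine ⟨hsc, ?_⟩
      rw [smul_mul', hsc] at hs
      exact mul_right_cancel hs
    have huc1 : u * c ≠ 1 := fun e => by
      have h1 := hnorm_mul u c
      rw [e, hnu, one_mul, hnorm_fix c hEc, hnorm_fix 1 fun x _ => smul_one x, one_pow] at h1
      obtain ⟨j, hj⟩ := exists_pow_eq_self_of_coprime (x := c)
        (hEcop.coprime_dvd_right (orderOf_dvd_of_pow_eq_one hcr))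
      exact hne hc (by rw [← hj, ← h1, one_pow])
    have h3 : stabilizer A u = stabilizer A c :=
      ((hle _ u huc1 hu1 (huc.trans inf_le_right)).symm.trans
        (hle _ c huc1 (hne hc) (huc.trans inf_le_left)))
    have h4 : u ^ Nat.card E = 1 := by
      rw [← hnorm_fix u fun e he => mem_stabilizer_iff.1 (h3 ▸ mem_stabilizer_iff.2 (hEc e he)), hnu]
    obtain ⟨j, hj⟩ := exists_pow_eq_self_of_coprime (x := u)
      (hEcop.coprime_dvd_right (orderOf_dvd_of_pow_eq_one hur))
    exact hu1 (by rw [← hj, h4, one_pow])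
  have hEb : ∀ e ∈ E, e • b = b := fun e he => by
    refine hcoV b hbr e ?_
    rw [mul_inv_eq_one.1 hu1, hnorm_inv e he]
  intro s hs
  refine mem_of_coprime_pow _ (m := r ^ k) (n := m) ((hb.coprime_iff_not_dvd.2 hrm).pow_left k)
    (hEb _ ⟨s, hs, rfl⟩) (hP b hbr _ ?_)
  rw [← pow_mul, mul_comm, ← hcardA, pow_card_eq_one']

/-- Orbit sizes of nontrivial elements forming an antichain: the stabilizers are all equal. -/
theorem stabilizer_eq_of_antichain
    (hanti : ∀ v w : V, v ≠ 1 → w ≠ 1 → (stabilizer A v).index ∣ (stabilizer A w).index →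
      (stabilizer A v).index = (stabilizer A w).index) {v w : V} (hv : v ≠ 1) (hw : w ≠ 1) :
    stabilizer A v = stabilizer A w :=
  stabilizer_eq_of_le (fun a b ha hb h =>
    eq_of_le_of_index_dvd h (hanti b a hb ha (Subgroup.index_dvd_of_le h)).symm) hv hw

/-- A semilinear map fixing every orbit: nontrivial elements are counted by fixed ones. -/
theorem card_sub_one (σA : MulAut A) (σV : MulAut V) (f : ℕ)
    (hsemi : ∀ (a : A) (v : V), σV (a • v) = σA a • σV v)
    (hAf : σA ^ f = 1) (hVf : σV ^ f = 1)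
    (hfpf : ∀ a : A, σA a ≠ a → ∀ v : V, v ≠ 1 → a • v ≠ v)
    (horb : ∀ v : V, v ≠ 1 → ∃ a : A, σV v = a • v)
    (hco : ∀ v : V, v ≠ 1 → (stabilizer A v).index.Coprime f) :
    Nat.card V - 1 = (σA.toMonoidHom.eqLocus (MonoidHom.id A)).index *
      (Nat.card (σV.toMonoidHom.eqLocus (MonoidHom.id V)) - 1) := by
  classical
  set C := σA.toMonoidHom.eqLocus (MonoidHom.id A)
  set F := σV.toMonoidHom.eqLocus (MonoidHom.id V)
  haveI := Fintype.ofFinite V
  haveI := Fintype.ofFinite A
  haveI := Fintype.ofFinite F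
  haveI := Fintype.ofFinite (A ⧸ C)
  have hout : ∀ a : A, ∃ c ∈ C, a = ((a : A ⧸ C)).out * c := fun a => by
    obtain ⟨c, hc⟩ := QuotientGroup.mk_out_eq_mul C a
    exact ⟨(c : A)⁻¹, C.inv_mem c.2, by rw [hc]; group⟩
  let Φ : (A ⧸ C) × {w : F // w ≠ 1} → {v : V // v ≠ 1} := fun p =>
    ⟨p.1.out • ((p.2 : F) : V), fun h => p.2.2 (Subtype.ext (by
      have := congrArg (fun x => (p.1.out)⁻¹ • x) h
      simpa [smul_smul] using this))⟩
  have hσit : ∀ (c z : A), σA c = c * z → σA z = z → ∀ i : ℕ, (σA ^ i) c = c * z ^ i := by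
    intro c z hc hz i
    induction i with
    | zero => simp
    | succ i ih => rw [pow_succ', MulAut.mul_apply, ih, map_mul, map_pow, hc, hz, mul_assoc, ← pow_succ']
  have hΦ : Function.Bijective Φ := by
    constructor
    · rintro ⟨p, ⟨w, hw⟩⟩ ⟨p', ⟨w', hw'⟩⟩ h
      have h' : p.out • (w : V) = p'.out • (w' : V) := congrArg Subtype.val h
      set c := p'.out⁻¹ * p.out with hc
      have hcw : c • (w : V) = (w' : V) := by rw [hc, mul_smul, h', inv_smul_smul]
      have hwf : σV (w : V) = w := w.2
      have hw'f : σV (w' : V) = w' := w'.2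
      have hw1 : (w : V) ≠ 1 := fun e => hw (Subtype.ext e)
      set z := c⁻¹ * σA c with hz
      have hzs : z • (w : V) = w := by
        have := hsemi c w
        rw [hcw, hw'f, hwf] at this
        rw [hz, mul_smul, ← this, ← hcw, inv_smul_smul]
      have hzC : σA z = z := by
        by_contra hne
        exact hfpf z hne _ hw1 hzs
      have hzf : z ^ f = 1 := by
        have := hσit c z (by rw [hz, mul_inv_cancel_left]) hzC f
        rw [hAf, MulAut.one_apply] at this
        exact mul_left_cancel (a := c) (this.symm.trans (mul_one c).symm)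
      have hzn : z ^ (stabilizer A (w : V)).index = 1 := by
        have h1 : σA (c ^ (stabilizer A (w : V)).index) = c ^ (stabilizer A (w : V)).index := by
          by_contra hne
          exact hfpf _ hne _ hw1 (mem_stabilizer_iff.1 (Subgroup.pow_index_mem _ c))
        rw [map_pow] at h1
        rw [hz, mul_pow, inv_pow, h1, inv_mul_cancel]
      have hz1 : z = 1 := by
        have := (hco _ hw1).gcd_eq_one ▸ pow_gcd_eq_one.2 ⟨hzn, hzf⟩
        simpa using this
      have hcC : c ∈ C := by
        show σA c = c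
        rw [hz, inv_mul_eq_one] at hz1
        exact hz1.symm
      have hpp : p = p' := by
        have := (QuotientGroup.eq (s := C)).2 hcC
        simpa using this.symm
      subst hpp
      have hww : (w : V) = w' := smul_left_cancel _ h'
      exact Prod.ext rfl (Subtype.ext (Subtype.ext hww))
    · rintro ⟨v, hv⟩
      obtain ⟨a, ha⟩ := horb v hv
      set n := (stabilizer A v).index
      have hσpow : ∀ i : ℕ, (σV ^ i) v = (∏ j ∈ Finset.range i, (σA ^ j) a) • v := by
        intro i
        induction i with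
        | zero => simp
        | succ i ih =>
          have h1 : ∀ j x, (σA ^ j) (σA x) = (σA ^ (j + 1)) x := fun j x => by
            rw [pow_succ, MulAut.mul_apply]
          rw [pow_succ', MulAut.mul_apply, ih, hsemi, ha, smul_smul, map_prod,
            Finset.prod_range_succ' (fun j => (σA ^ j) a) i]
          simp only [pow_zero, MulAut.one_apply, pow_succ', MulAut.mul_apply]
      have hNmem : (∏ j ∈ Finset.range f, (σA ^ j) a) ∈ stabilizer A v := by
        rw [mem_stabilizer_iff, ← hσpow, hVf, MulAut.one_apply]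
      set Nm := ∏ j ∈ Finset.range f, (σA ^ j) a
      set P := ∏ j ∈ Finset.range f, ((σA ^ j) a) ^ j with hP
      have hPeq : σA P * Nm = P * a ^ f := by
        have h2 : ∀ g : ℕ → A, (∏ j ∈ Finset.range f, g (j + 1)) * g 0 =
            (∏ j ∈ Finset.range f, g j) * g f := fun g => by
          rw [← Finset.prod_range_succ', Finset.prod_range_succ]
        have h3 := h2 fun j => ((σA ^ j) a) ^ j
        simp only [pow_zero, mul_one, hAf, MulAut.one_apply] at h3
        have h4 : (∏ j ∈ Finset.range f, ((σA ^ (j + 1)) a) ^ (j + 1)) =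
            σA P * σA Nm := by
          simp only [hP, Nm, map_prod, map_pow, ← Finset.prod_mul_distrib]
          refine Finset.prod_congr rfl fun j _ => ?_
          rw [pow_succ' σA j, MulAut.mul_apply, pow_succ]
        have h5 : σA Nm = Nm := by
          have h6 := h2 fun j => (σA ^ j) a
          simp only [pow_zero, hAf, MulAut.one_apply] at h6
          have h7 : σA Nm = ∏ j ∈ Finset.range f, (σA ^ (j + 1)) a := by
            simp only [Nm, map_prod]
            exact Finset.prod_congr rfl fun j _ => by rw [pow_succ' σA j, MulAut.mul_apply]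
          rw [h7]
          exact mul_right_cancel h6
        rw [h4, h5] at h3
        exact h3
      obtain ⟨k, hk⟩ : ∃ k : ℕ, a ^ (f * k) * a⁻¹ ∈ stabilizer A v := by
        rcases Nat.lt_or_ge n 2 with hn | hn
        · refine ⟨0, ?_⟩
          have hn1 : n = 1 := by
            have : n ≠ 0 := Subgroup.index_ne_zero_of_finite
            omega
          rw [Subgroup.index_eq_one.1 hn1]
          exact Subgroup.mem_top _
        · obtain ⟨k, -, hk⟩ := Nat.exists_mul_mod_eq_one_of_coprime (hco v hv).symm (by omega)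
          refine ⟨k, ?_⟩
          rw [← Nat.div_add_mod (f * k) n, hk, pow_add, pow_mul, pow_one, mul_inv_cancel_right]
          exact Subgroup.pow_mem _ (Subgroup.pow_index_mem _ a) _
      set c := (P ^ k)⁻¹ with hc
      have hfix : σV (c • v) = c • v := by
        have h1 : σA c * a * c⁻¹ = Nm ^ k * (a ^ (f * k) * a⁻¹)⁻¹ := by
          have h2 : σA P = P * a ^ f * Nm⁻¹ := by rw [← hPeq, mul_inv_cancel_right]
          rw [hc, map_inv, map_pow, h2, pow_mul]
          simp only [mul_inv_rev, inv_inv, mul_pow, inv_pow]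
          generalize P ^ k = X
          generalize (a ^ f) ^ k = Y
          generalize Nm ^ k = Z
          apply Additive.ofMul.injective
          simp only [ofMul_mul, ofMul_inv]
          abel
        have h3 : σA c * a * c⁻¹ ∈ stabilizer A v :=
          h1 ▸ Subgroup.mul_mem _ (Subgroup.pow_mem _ hNmem _) (Subgroup.inv_mem _ hk)
        rw [mem_stabilizer_iff] at h3
        rw [hsemi, ha, smul_smul]
        calc (σA c * a) • v = c • ((σA c * a * c⁻¹) • v) := by
              rw [smul_smul]
              congr 1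
              rw [mul_comm c, inv_mul_cancel_right]
          _ = c • v := by rw [h3]
      obtain ⟨e, he, hce⟩ := hout c⁻¹
      refine ⟨(((c⁻¹ : A) : A ⧸ C), ⟨⟨e • (c • v), ?_⟩, ?_⟩), Subtype.ext ?_⟩
      · show σV (e • c • v) = e • c • v
        rw [hsemi, hfix, show σA e = e from he]
      · intro h
        apply hv
        have := congrArg Subtype.val h
        simp only [OneMemClass.coe_one] at this
        have h' := congrArg (fun x => (e * c)⁻¹ • x) this
        simpa [smul_smul, mul_assoc] using h'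
      · show _ • (e • c • v) = v
        rw [smul_smul, ← hce, inv_smul_smul]
  have h1 := Fintype.card_of_bijective hΦ
  rw [Fintype.card_prod, Fintype.card_subtype_compl, Fintype.card_subtype_compl] at h1
  simp only [Fintype.card_unique, ← Nat.card_eq_fintype_card, ← Subgroup.index_eq_card] at h1
  exact h1.symm

/-- Two powers of one number with the same ratio. -/
theorem pow_eq_of_ratio {r : ℕ} (hr : 2 ≤ r) {a b c e k : ℕ} (hk : 2 ≤ k)
    (h1 : r ^ a - 1 = k * (r ^ b - 1)) (h2 : r ^ c - 1 = k * (r ^ e - 1)) (hb : b ≠ 0) (he : e ≠ 0) :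
    a = c := by
  have key : ∀ {a b c e : ℕ}, r ^ a - 1 = k * (r ^ b - 1) → r ^ c - 1 = k * (r ^ e - 1) →
      e ≠ 0 → b ≠ 0 → e < b → False := by
    intro a b c e h1 h2 he hb heb
    have hpb : 2 ≤ r ^ b := le_trans hr (Nat.le_self_pow hb r)
    have hpe : 2 ≤ r ^ e := le_trans hr (Nat.le_self_pow he r)
    have hec : e < c := by
      by_contra hh
      have := Nat.pow_le_pow_right (by omega : 0 < r) (Nat.le_of_not_lt hh)
      have := Nat.mul_le_mul_right (r ^ e - 1) hk
      omega
    have hba : b < a := by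
      by_contra hh
      have := Nat.pow_le_pow_right (by omega : 0 < r) (Nat.le_of_not_lt hh)
      have := Nat.mul_le_mul_right (r ^ b - 1) hk
      omega
    have hpa : 1 ≤ r ^ a := Nat.one_le_pow _ _ (by omega)
    have hpc : 1 ≤ r ^ c := Nat.one_le_pow _ _ (by omega)
    have hz : ((r : ℤ) ^ a - 1) * ((r : ℤ) ^ e - 1) = ((r : ℤ) ^ c - 1) * ((r : ℤ) ^ b - 1) := by
      have e1 : (r : ℤ) ^ a - 1 = k * ((r : ℤ) ^ b - 1) := by
        have := congrArg (fun n : ℕ => (n : ℤ)) h1
        push_cast [Nat.cast_sub hpa, Nat.cast_sub (show 1 ≤ r ^ b by omega)] at this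
        exact this
      have e2 : (r : ℤ) ^ c - 1 = k * ((r : ℤ) ^ e - 1) := by
        have := congrArg (fun n : ℕ => (n : ℤ)) h2
        push_cast [Nat.cast_sub hpc, Nat.cast_sub (show 1 ≤ r ^ e by omega)] at this
        exact this
      rw [e1, e2]; ring
    have hd : (r : ℤ) ^ (e + 1) ∣ (r : ℤ) ^ e := by
      have hA : (r : ℤ) ^ (e + 1) ∣ (r : ℤ) ^ a := pow_dvd_pow _ (by omega)
      have hB : (r : ℤ) ^ (e + 1) ∣ (r : ℤ) ^ b := pow_dvd_pow _ (by omega)
      have hC : (r : ℤ) ^ (e + 1) ∣ (r : ℤ) ^ c := pow_dvd_pow _ (by omega)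
      have : (r : ℤ) ^ e = (r : ℤ) ^ a * ((r : ℤ) ^ e - 1) - (r : ℤ) ^ c * ((r : ℤ) ^ b - 1) +
          (r : ℤ) ^ b := by linear_combination -hz
      rw [this]
      exact dvd_add (dvd_sub (hA.mul_right _) (hC.mul_right _)) hB
    have hd' : r ^ (e + 1) ∣ r ^ e := by exact_mod_cast hd
    have := Nat.le_of_dvd (pow_pos (by omega) e) hd'
    have := Nat.pow_lt_pow_right (show 1 < r by omega) (show e < e + 1 by omega)
    omega
  rcases lt_trichotomy e b with h | h | h
  · exact (key h1 h2 he hb h).elim
  · subst h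
    have h3 : r ^ a - 1 = r ^ c - 1 := h1.trans h2.symm
    refine Nat.pow_right_injective hr ?_
    have := Nat.one_le_pow a r (by omega)
    have := Nat.one_le_pow c r (by omega)
    show r ^ a = r ^ c
    omega
  · exact (key h2 h1 hb he h).elim

end Cfsg.Agent.NoDivDeg
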