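/-
An automorphism fixing every nonlinear irreducible character: the derived subgroup has an abelian
complement on which most elements are fixed point free.

Main results: `Data`, `apply_eq_zero`, `card_centralizer`, `exists_complement`, `isNilpotent_commutator`.
-/
import Cfsg.Agent.Lib.CharApp.ThreeDegrees.DerivedLength
import Cfsg.Agent.Lib.FPF.Kernel

set_option autoImplicit false
set_option linter.style.haveILetI false

namespace Cfsg.Agent.NoDivDeg

open Cfsg Cfsg.Agent.Char Cfsg.Agent.CharApp Cfsg.Agent.CharApp.DegreeSets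
open scoped ComplexConjugate

universe u

/-- An automorphism `σ` of period `f` modulo inner automorphisms fixing every nonlinear irreducible
character, all of whose degrees are prime to `f`, divisible by `q` and an antichain for divisibility. -/
structure Data (X : Type u) [Group X] [Finite X] (σ : MulAut X) (f q : ℕ) : Prop where
  prime : q.Prime
  inv : ∀ θ : IrrCharacter X, charDegree (θ : X → ℂ) ≠ 1 → ∀ x, (θ : X → ℂ) (σ x) = (θ : X → ℂ) x
  cop : ∀ θ : IrrCharacter X, charDegree (θ : X → ℂ) ≠ 1 → (charDegree (θ : X → ℂ)).Coprime f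
  anti : ∀ θ θ' : IrrCharacter X, charDegree (θ : X → ℂ) ≠ 1 → charDegree (θ' : X → ℂ) ≠ 1 →
    charDegree (θ : X → ℂ) ∣ charDegree (θ' : X → ℂ) →
    charDegree (θ : X → ℂ) = charDegree (θ' : X → ℂ)
  dvd : ∀ θ : IrrCharacter X, charDegree (θ : X → ℂ) ≠ 1 → q ∣ charDegree (θ : X → ℂ)
  pow : ∃ n : X, σ n = n ∧ (∃ k, n ^ (f ^ k) = 1) ∧ ∀ x, (σ ^ f) x = n * x * n⁻¹
  moved : ∃ x : X, (∃ j, x ^ (q ^ j) = 1) ∧ σ x * x⁻¹ ∉ commutator X

variable {X : Type u} [Group X] [Finite X] {σ : MulAut X} {f q : ℕ}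

/-- The induced automorphism of the abelianization. -/
noncomputable def abAut (σ : MulAut X) : MulAut (Abelianization X) :=
  MulEquiv.abelianizationCongr σ

theorem abAut_of (σ : MulAut X) (x : X) : abAut σ (Abelianization.of x) = Abelianization.of (σ x) :=
  rfl

theorem of_surjective (a : Abelianization X) : ∃ x : X, Abelianization.of x = a :=
  QuotientGroup.mk_surjective a

theorem of_eq_of_iff {x y : X} :
    Abelianization.of x = Abelianization.of y ↔ x⁻¹ * y ∈ commutator X :=
  QuotientGroup.eq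

theorem moved_iff {x : X} :
    σ x * x⁻¹ ∈ commutator X ↔ Abelianization.of (σ x) = Abelianization.of x := by
  rw [← mul_inv_eq_one, ← map_inv, ← map_mul]
  exact (QuotientGroup.eq_one_iff _).symm

/-- Nonlinear characters vanish at elements moved modulo the derived subgroup. -/
theorem Data.apply_eq_zero (h : Data X σ f q) {θ : IrrCharacter X}
    (hθ : charDegree (θ : X → ℂ) ≠ 1) {x : X} (hx : σ x * x⁻¹ ∉ commutator X) :
    (θ : X → ℂ) x = 0 := by
  haveI := Fintype.ofFinite X
  obtain ⟨l₀, hl₀⟩ := TwoDegrees.exists_linear_sep (A := Abelianization X) mul_comm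
    (y := Abelianization.of (σ x * x⁻¹)) fun e => hx ((QuotientGroup.eq_one_iff _).1 e)
  set l : X →* ℂ := l₀.comp Abelianization.of
  have hirr : IsIrrCharacter X (fun g => (θ : X → ℂ) g * l g) := IsIrrCharacter.mul_linear θ.2 l
  have hdeg : charDegree (fun g => (θ : X → ℂ) g * l g) = charDegree (θ : X → ℂ) := by
    simp [charDegree]
  have h1 := h.inv ⟨_, hirr⟩ (by rw [hdeg]; exact hθ) x
  change (θ : X → ℂ) (σ x) * l (σ x) = (θ : X → ℂ) x * l x at h1
  rw [h.inv θ hθ x] at h1
  by_contra hne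
  apply hl₀
  show l (σ x * x⁻¹) = 1
  rw [map_mul, mul_left_cancel₀ hne h1, ← map_mul, mul_inv_cancel, map_one]

theorem Data.card_centralizer (h : Data X σ f q) {x : X} (hx : σ x * x⁻¹ ∉ commutator X) :
    Nat.card (Subgroup.centralizer ({x} : Set X)) = (commutator X).index := by
  classical
  haveI := Fintype.ofFinite X
  haveI := Fintype.ofFinite (IrrCharacter X)
  have h1 := Char.column_orth x x
  rw [if_pos (IsConj.refl x)] at h1
  have h2 : ∀ χ : IrrCharacter X, (χ : X → ℂ) x * conj ((χ : X → ℂ) x) =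
      if (χ : X → ℂ) 1 = 1 then 1 else 0 := by
    intro χ
    split_ifs with hc
    · obtain ⟨l, hl⟩ := exists_hom_of_degree_one (IsIrrCharacter.isCharacter χ.2) hc
      rw [← hl, ← IsCharacter.apply_inv (isCharacter_of_hom l), ← map_mul, mul_inv_cancel, map_one]
    · rw [h.apply_eq_zero (fun e => hc (by rw [apply_one χ.2, e, Nat.cast_one])) hx, zero_mul]
  rw [Finset.sum_congr rfl fun χ _ => h2 χ, Finset.sum_boole, Nat.cast_inj] at h1
  rw [← h1, ← Char.card_linear_irr (G := X), Nat.card_eq_fintype_card, Fintype.card_subtype]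

/-- Moved elements are conjugate to their whole coset of the derived subgroup. -/
theorem Data.isConj_of_of_eq (h : Data X σ f q) {x y : X} (hx : σ x * x⁻¹ ∉ commutator X)
    (hy : Abelianization.of x = Abelianization.of y) : IsConj x y := by
  classical
  have h1 := Char.card_conjugates_mul_card_centralizer x
  rw [h.card_centralizer hx, ← (commutator X).card_mul_index] at h1
  have h2 := Nat.eq_of_mul_eq_mul_right
    (Nat.pos_of_ne_zero Subgroup.index_ne_zero_of_finite) h1
  have hsub : {z : X | IsConj x z} ⊆ {z : X | x⁻¹ * z ∈ commutator X} := by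
    rintro z hz
    obtain ⟨c, rfl⟩ := isConj_iff.1 hz
    refine of_eq_of_iff.1 ?_
    rw [map_mul, map_mul, map_inv, mul_comm (Abelianization.of c), mul_inv_cancel_right]
  have hcard : Nat.card {z : X | x⁻¹ * z ∈ commutator X} = Nat.card (commutator X) :=
    Nat.card_congr ((Equiv.mulLeft x⁻¹).subtypeEquiv fun _ => Iff.rfl)
  have := Set.eq_of_subset_of_ncard_le hsub (by
    rw [← Nat.card_coe_set_eq, ← Nat.card_coe_set_eq, hcard, h2]) (Set.toFinite _)
  have hmem : y ∈ {z : X | x⁻¹ * z ∈ commutator X} := of_eq_of_iff.1 hy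
  rw [← this] at hmem
  exact hmem

/-- A retraction onto an abelian complement of the derived subgroup. -/
theorem Data.exists_complement (h : Data X σ f q) (hD : ¬ q ∣ Nat.card (commutator X)) :
    ∃ π : X →* X, (∀ x, Abelianization.of (π x) = Abelianization.of x) ∧
      (∀ x ∈ commutator X, π x = 1) ∧
      (∀ x y, π x * π y = π y * π x) ∧
      ∀ x : X, σ x * x⁻¹ ∉ commutator X → ∀ d ∈ commutator X, x * d = d * x → d = 1 := by
  classical
  obtain ⟨x₀, ⟨j, hj⟩, hx₀⟩ := h.moved
  haveI := Fact.mk h.prime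
  set C := Subgroup.centralizer ({x₀} : Set X)
  let f₀ : C →* Abelianization X := Abelianization.of.comp C.subtype
  have hP : IsPGroup q (Subgroup.zpowers x₀) := by
    obtain ⟨i, -, hi⟩ := (Nat.dvd_prime_pow h.prime).1 (orderOf_dvd_of_pow_eq_one hj)
    exact IsPGroup.of_card (n := i) (by rw [Nat.card_zpowers, hi])
  have hsurj : Function.Surjective f₀ := by
    intro a
    obtain ⟨n, rfl⟩ := of_surjective a
    let Ω := {y : X // n⁻¹ * y ∈ commutator X}
    have hΩ : ∀ (s : X) (y : X), n⁻¹ * y ∈ commutator X → n⁻¹ * (s * y * s⁻¹) ∈ commutator X := by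
      intro s y hy
      refine of_eq_of_iff.1 ?_
      rw [of_eq_of_iff.2 hy, map_mul, map_mul, map_inv, mul_comm (Abelianization.of s),
        mul_inv_cancel_right]
    letI : MulAction (Subgroup.zpowers x₀) Ω :=
      { smul := fun s y => ⟨(s : X) * y.1 * (s : X)⁻¹, hΩ _ _ y.2⟩
        one_smul := fun y => Subtype.ext (by show (1 : X) * y.1 * (1 : X)⁻¹ = y.1; simp)
        mul_smul := fun s t y => Subtype.ext (by
          show ((s : X) * t) * y.1 * ((s : X) * t)⁻¹ = (s : X) * ((t : X) * y.1 * (t : X)⁻¹) * (s : X)⁻¹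
          group) }
    have hcard : Nat.card Ω = Nat.card (commutator X) :=
      Nat.card_congr ((Equiv.mulLeft n⁻¹).subtypeEquiv fun _ => Iff.rfl)
    obtain ⟨y, hy⟩ := hP.nonempty_fixed_point_of_prime_not_dvd_card (α := Ω) (by rw [hcard]; exact hD)
    have hy' : x₀ * y.1 * x₀⁻¹ = y.1 := congrArg Subtype.val (hy ⟨x₀, Subgroup.mem_zpowers x₀⟩)
    refine ⟨⟨y.1, Subgroup.mem_centralizer_singleton_iff.2 ?_⟩, (of_eq_of_iff.2 y.2).symm⟩
    calc y.1 * x₀ = (x₀ * y.1 * x₀⁻¹) * x₀ := by rw [hy']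
      _ = x₀ * y.1 := by group
  have hbij : Function.Bijective f₀ := by
    refine (Nat.bijective_iff_surjective_and_card f₀).2 ⟨hsurj, ?_⟩
    rw [h.card_centralizer hx₀, Subgroup.index_eq_card]
    rfl
  let e : C ≃* Abelianization X := MulEquiv.ofBijective f₀ hbij
  let π : X →* X := C.subtype.comp (e.symm.toMonoidHom.comp Abelianization.of)
  have hofπ : ∀ x, Abelianization.of (π x) = Abelianization.of x := fun x =>
    e.apply_symm_apply (Abelianization.of x)
  have hCD : ∀ c ∈ C, c ∈ commutator X → c = 1 := fun c hc hcD => by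
    have : f₀ ⟨c, hc⟩ = f₀ 1 := by
      rw [map_one]
      exact (QuotientGroup.eq_one_iff c).2 hcD
    exact congrArg Subtype.val (hbij.1 this)
  have hcomm : ∀ a ∈ C, ∀ b ∈ C, a * b = b * a := fun a ha b hb => by
    have : f₀ (⟨a, ha⟩ * ⟨b, hb⟩) = f₀ (⟨b, hb⟩ * ⟨a, ha⟩) := by rw [map_mul, map_mul, mul_comm]
    exact congrArg Subtype.val (hbij.1 this)
  have hπC : ∀ x, π x ∈ C := fun x => (e.symm (Abelianization.of x)).2
  refine ⟨π, hofπ, fun x hx => ?_, fun x y => hcomm _ (hπC x) _ (hπC y), ?_⟩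
  · show ((e.symm (Abelianization.of x) : C) : X) = 1
    rw [show Abelianization.of x = 1 from (QuotientGroup.eq_one_iff x).2 hx, map_one]
    rfl
  intro x hx d hd hxd
  obtain ⟨u, hu⟩ := isConj_iff.1 (h.isConj_of_of_eq hx (hofπ x).symm)
  have hx' : σ (π x) * (π x)⁻¹ ∉ commutator X := by
    intro hm
    apply hx
    rw [moved_iff] at hm ⊢
    rwa [← abAut_of, hofπ, abAut_of] at hm
  set C' := Subgroup.centralizer ({π x} : Set X)
  have hCC : C = C' := by
    refine Subgroup.eq_of_le_of_card_ge (fun c hc => Subgroup.mem_centralizer_singleton_iff.2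
      (hcomm c hc _ (hπC x))) ?_
    rw [h.card_centralizer hx', h.card_centralizer hx₀]
  have hmem : u * d * u⁻¹ ∈ C' := Subgroup.mem_centralizer_singleton_iff.2 (by
    rw [← hu]
    calc u * d * u⁻¹ * (u * x * u⁻¹) = u * (d * x) * u⁻¹ := by group
      _ = u * (x * d) * u⁻¹ := by rw [hxd]
      _ = u * x * u⁻¹ * (u * d * u⁻¹) := by group)
  have := hCD _ (hCC ▸ hmem) ((inferInstance : (commutator X).Normal).conj_mem d hd u)
  exact conj_eq_one_iff.1 this

/-- The period is prime to `q` once a nonlinear character exists. -/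
theorem Data.not_dvd (h : Data X σ f q) (θ : IrrCharacter X) (hθ : charDegree (θ : X → ℂ) ≠ 1) :
    ¬ q ∣ f := fun hd =>
  h.prime.not_dvd_one ((h.cop θ hθ).gcd_eq_one ▸ Nat.dvd_gcd (h.dvd θ hθ) hd)

theorem Data.abAut_pow (h : Data X σ f q) : abAut σ ^ f = 1 := by
  obtain ⟨n, -, -, hn⟩ := h.pow
  refine MulEquiv.ext fun a => ?_
  obtain ⟨x, rfl⟩ := of_surjective a
  have hit : ∀ i : ℕ, (abAut σ ^ i) (Abelianization.of x) = Abelianization.of ((σ ^ i) x) := by
    intro i
    induction i with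
    | zero => rfl
    | succ i ih => rw [pow_succ', MulAut.mul_apply, ih, abAut_of, pow_succ', MulAut.mul_apply]
  rw [hit, hn, map_mul, map_mul, map_inv, mul_comm (Abelianization.of n), mul_inv_cancel_right]
  rfl

/-- The derived subgroup is nilpotent. -/
theorem Data.isNilpotent_commutator (h : Data X σ f q) (hqf : ¬ q ∣ f)
    (π : X →* X) (hofπ : ∀ x, Abelianization.of (π x) = Abelianization.of x)
    (hker : ∀ x ∈ commutator X, π x = 1)
    (hfpf : ∀ x : X, σ x * x⁻¹ ∉ commutator X → ∀ d ∈ commutator X, x * d = d * x → d = 1) :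
    Group.IsNilpotent (commutator X) := by
  classical
  haveI := Fact.mk h.prime
  obtain ⟨x₀, ⟨j, hj⟩, hx₀⟩ := h.moved
  set s := abAut σ
  set a₀ := Abelianization.of x₀
  set b := s a₀ * a₀⁻¹ with hb
  have hb1 : b ≠ 1 := fun e => hx₀ (moved_iff.2 (mul_inv_eq_one.1 e))
  have hbq : b ^ (q ^ j) = 1 := by
    rw [hb, mul_pow, inv_pow, ← map_pow, show a₀ ^ (q ^ j) = 1 by rw [← map_pow, hj, map_one],
      map_one, inv_one, mul_one]
  obtain ⟨i, -, hi⟩ := (Nat.dvd_prime_pow h.prime).1 (orderOf_dvd_of_pow_eq_one hbq)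
  obtain ⟨i, rfl⟩ : ∃ i', i = i' + 1 := by
    refine ⟨i - 1, ?_⟩
    rcases Nat.eq_zero_or_pos i with rfl | hpos
    · exact absurd (orderOf_eq_one_iff.1 (by simpa using hi)) hb1
    · omega
  set b₁ := b ^ (q ^ i) with hb₁
  have hob : orderOf b₁ = q := by
    rw [hb₁, orderOf_pow' b (pow_ne_zero _ h.prime.ne_zero), hi,
      Nat.gcd_eq_right (pow_dvd_pow q (Nat.le_succ i)), pow_succ,
      Nat.mul_div_cancel_left _ (pow_pos h.prime.pos i)]
  have hb1' : b₁ ≠ 1 := fun e => h.prime.ne_one (by rw [← hob, e, orderOf_one])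
  have hmv : s b₁ ≠ b₁ := by
    intro e
    set a₁ := a₀ ^ (q ^ i)
    have h1 : s a₁ = a₁ * b₁ := by
      rw [hb₁, hb, mul_pow, inv_pow, map_pow, mul_comm, inv_mul_cancel_right]
    have hit : ∀ k : ℕ, (s ^ k) a₁ = a₁ * b₁ ^ k := by
      intro k
      induction k with
      | zero => simp
      | succ k ih =>
        rw [pow_succ' s, MulAut.mul_apply, ih, map_mul, h1, map_pow, e, mul_assoc, ← pow_succ']
    have h2 := hit f
    rw [h.abAut_pow, MulAut.one_apply] at h2
    have h3 : b₁ ^ f = 1 := mul_left_cancel (a := a₁) (h2.symm.trans (mul_one a₁).symm)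
    exact hqf (hob ▸ orderOf_dvd_of_pow_eq_one h3)
  obtain ⟨z, hz⟩ := of_surjective b₁
  set y := π z
  have hyq : y ^ q = 1 := by
    rw [← map_pow]
    refine hker _ ((QuotientGroup.eq_one_iff _).1 ?_)
    show Abelianization.of (z ^ q) = 1
    rw [map_pow, hz, ← hob, pow_orderOf_eq_one]
  have hym : σ y * y⁻¹ ∉ commutator X := fun hm => hmv (by
    have := moved_iff.1 hm
    rwa [← abAut_of, hofπ, hz] at this)
  have hy1 : y ≠ 1 := fun e => hb1' (by rw [← hz, ← hofπ z]; rw [show π z = 1 from e, map_one])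
  refine FPF.isNilpotent_of_fpf_subgroup (A := Subgroup.zpowers y)
    (Subgroup.zpowers_ne_bot.2 hy1) fun a ha ha1 d hd hc => hfpf y hym d hd ?_
  have hoy : orderOf y = q := orderOf_eq_prime hyq hy1
  obtain ⟨k, hk⟩ := Subgroup.mem_zpowers_iff.1 (mem_zpowers_of_prime_card (p := q)
    (by rw [Nat.card_zpowers, hoy]) (g := (⟨a, ha⟩ : Subgroup.zpowers y))
    (g' := ⟨y, Subgroup.mem_zpowers y⟩) (fun e => ha1 (congrArg Subtype.val e)))
  have hk' : a ^ k = y := by simpa using congrArg Subtype.val hk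
  rw [← hk']
  exact (Commute.zpow_left hc k).eq

end Cfsg.Agent.NoDivDeg
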