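/-
The abelianization acting on the invariant linear characters of a normal subgroup inside the
derived subgroup.

Main results: `invChars`, `inertia_cfun`, `exists_over_invChar`, `card_invChars`.
-/
import Cfsg.Agent.Lib.NoDivDeg.Split
import Cfsg.Agent.Lib.NoDivDeg.Orbits

set_option autoImplicit false
set_option linter.style.haveILetI false

namespace Cfsg.Agent.NoDivDeg

open Cfsg Cfsg.Agent.Char Cfsg.Agent.CharApp Cfsg.Agent.CharApp.DegreeSets
open MulAction
open scoped ComplexConjugate

universe u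

variable {X : Type u} [Group X] [Finite X] (J : Subgroup X) [hJn : J.Normal]

/-- The linear characters of `J` fixed by the derived subgroup. -/
def invChars : Subgroup (J →* ℂˣ) where
  carrier := {μ | ∀ d ∈ commutator X, ∀ j : J, μ (MulAut.conjNormal d⁻¹ j) = μ j}
  one_mem' := fun d _ j => rfl
  mul_mem' := fun {a b} ha hb d hd j => by rw [MonoidHom.mul_apply, MonoidHom.mul_apply, ha d hd, hb d hd]
  inv_mem' := fun {a} ha d hd j => by rw [MonoidHom.inv_apply, MonoidHom.inv_apply, ha d hd]

theorem comp_conj_mem (x : X) {μ : J →* ℂˣ} (hμ : μ ∈ invChars J) :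
    μ.comp (MulAut.conjNormal x⁻¹).toMonoidHom ∈ invChars J := fun d hd j => by
  show μ (MulAut.conjNormal x⁻¹ (MulAut.conjNormal d⁻¹ j)) = μ (MulAut.conjNormal x⁻¹ j)
  have h := hμ (x⁻¹ * d * x) (by simpa using (inferInstance : (commutator X).Normal).conj_mem d hd x⁻¹)
    (MulAut.conjNormal x⁻¹ j)
  rw [← h]
  congr 1
  apply Subtype.ext
  simp only [MulAut.conjNormal_apply]
  group

/-- Conjugation on invariant linear characters. -/
noncomputable def conjAct : X →* MulAut (invChars J) where
  toFun x :=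
    { toFun := fun μ => ⟨_, comp_conj_mem J x μ.2⟩
      invFun := fun μ => ⟨_, comp_conj_mem J x⁻¹ μ.2⟩
      left_inv := fun μ => by
        apply Subtype.ext
        refine MonoidHom.ext fun j => congrArg (μ : J →* ℂˣ) (Subtype.ext ?_)
        simp only [MulEquiv.coe_toMonoidHom, MulAut.conjNormal_apply]
        group
      right_inv := fun μ => by
        apply Subtype.ext
        refine MonoidHom.ext fun j => congrArg (μ : J →* ℂˣ) (Subtype.ext ?_)
        simp only [MulEquiv.coe_toMonoidHom, MulAut.conjNormal_apply]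
        group
      map_mul' := fun μ ν => rfl }
  map_one' := by
    refine MulEquiv.ext fun μ => Subtype.ext (MonoidHom.ext fun j => congrArg (μ : J →* ℂˣ) ?_)
    apply Subtype.ext
    simp
  map_mul' x y := by
    refine MulEquiv.ext fun μ => Subtype.ext (MonoidHom.ext fun j => congrArg (μ : J →* ℂˣ) ?_)
    apply Subtype.ext
    simp only [MulEquiv.coe_toMonoidHom, MulAut.conjNormal_apply]
    group

theorem commutator_le_ker : commutator X ≤ (conjAct J).ker := fun d hd =>
  MulEquiv.ext fun μ => Subtype.ext (MonoidHom.ext fun j => μ.2 d hd j)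

/-- The action of the abelianization. -/
noncomputable def abAct : Abelianization X →* MulAut (invChars J) :=
  QuotientGroup.lift (commutator X) (conjAct J) (commutator_le_ker J)

noncomputable instance : MulDistribMulAction (Abelianization X) (invChars J) :=
  MulDistribMulAction.compHom (invChars J) (abAct J)

theorem of_smul_apply (x : X) (μ : invChars J) (j : J) :
    ((Abelianization.of x • μ : invChars J) : J →* ℂˣ) j = (μ : J →* ℂˣ) (MulAut.conjNormal x⁻¹ j) :=
  rfl

/-- The character of an invariant linear character. -/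
def cfun (μ : invChars J) : J → ℂ := fun j => (((μ : J →* ℂˣ) j : ℂˣ) : ℂ)

theorem cfun_injective : Function.Injective (cfun J) := fun _ _ e =>
  Subtype.ext (MonoidHom.ext fun j => Units.ext (congrFun e j))

theorem isIrr_cfun (μ : invChars J) : IsIrrCharacter J (cfun J μ) := by
  haveI := Fintype.ofFinite J
  have := IsIrrCharacter.mul_linear (isIrrCharacter_one (G := J))
    ((Units.coeHom ℂ).comp (μ : J →* ℂˣ))
  simp only [Pi.one_apply, one_mul] at this
  exact this

theorem charDegree_cfun (μ : invChars J) : charDegree (cfun J μ) = 1 := by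
  simp [charDegree, cfun]

theorem conjFun_cfun (x : X) (μ : invChars J) :
    CliffordChar.conjFun J x (cfun J μ) = cfun J (Abelianization.of x • μ) := by
  funext j
  rw [CliffordChar.conjFun_apply]
  show _ = (((Abelianization.of x • μ : invChars J) : J →* ℂˣ) j : ℂ)
  rw [of_smul_apply]
  refine congrArg (fun y => (((μ : J →* ℂˣ) y : ℂˣ) : ℂ)) (Subtype.ext ?_)
  simp [MulAut.conjNormal_apply]

theorem inertia_cfun (μ : invChars J) :
    inertia J (cfun J μ) = (stabilizer (Abelianization X) μ).comap Abelianization.of := by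
  ext x
  rw [mem_inertia, conjFun_cfun, Subgroup.mem_comap, mem_stabilizer_iff]
  exact ⟨fun e => cfun_injective J e, fun e => by rw [e]⟩

theorem index_inertia_cfun (μ : invChars J) :
    (inertia J (cfun J μ)).index = (stabilizer (Abelianization X) μ).index := by
  rw [inertia_cfun]
  exact Subgroup.index_comap_of_surjective _ fun a => of_surjective a

instance : Finite (J →* ℂˣ) := inferInstance

/-- A nonlinear character lies over every nontrivial invariant linear character. -/
theorem exists_over_invChar [Fintype X] [Fintype J] (hJ : J ≤ commutator X) {μ : invChars J}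
    (hμ : μ ≠ 1) : ∃ θ : IrrCharacter X,
      classInner (fun j : J => (θ : X → ℂ) j) (cfun J μ) ≠ 0 ∧ charDegree (θ : X → ℂ) ≠ 1 ∧
      (stabilizer (Abelianization X) μ).index ∣ charDegree (θ : X → ℂ) := by
  obtain ⟨θ, hθ, hover⟩ := exists_over J (isIrr_cfun J μ)
  obtain ⟨e, -, -, hdeg, -⟩ := degree_over J hθ (isIrr_cfun J μ) hover
  refine ⟨⟨θ, hθ⟩, hover, fun e1 => hover ?_, ?_⟩
  · have hres : (fun j : J => θ j) = cfun J 1 := funext fun j => by
      rw [apply_commutator_of_linear hθ e1 (hJ j.2), apply_one hθ,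
        show charDegree θ = 1 from e1]
      simp [cfun]
    rw [hres]
    exact classInner_irr_of_ne (isIrr_cfun J 1) (isIrr_cfun J μ)
      fun e => hμ (cfun_injective J e).symm
  · show _ ∣ charDegree θ
    rw [hdeg, charDegree_cfun, mul_one, index_inertia_cfun]
    exact dvd_mul_left _ _

variable {J} {σ : MulAut X} {f q : ℕ}

/-- The restriction of `σ` to an invariant subgroup. -/
noncomputable def restrictAut (hσJ : J.map σ.toMonoidHom = J) : MulAut J :=
  (σ.subgroupMap J).trans (MulEquiv.subgroupCongr hσJ)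

theorem restrictAut_apply (hσJ : J.map σ.toMonoidHom = J) (j : J) :
    ((restrictAut hσJ j : J) : X) = σ (j : X) := rfl

theorem sigma_mem_commutator (σ : MulAut X) {d : X} (hd : d ∈ commutator X) : σ d ∈ commutator X := by
  have h : (commutator X).map σ.toMonoidHom = commutator X := by
    rw [commutator_def, Subgroup.map_commutator, Subgroup.map_top_of_surjective _ σ.surjective]
  exact h ▸ Subgroup.mem_map_of_mem _ hd

theorem comp_sigma_mem (hσJ : J.map σ.toMonoidHom = J) {μ : J →* ℂˣ} (hμ : μ ∈ invChars J)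
    (τ : MulAut J) (σ' : MulAut X) (hτ : ∀ j : J, ((τ j : J) : X) = σ' (j : X)) :
    μ.comp τ.toMonoidHom ∈ invChars J := fun d hd j => by
  show μ (τ (MulAut.conjNormal d⁻¹ j)) = μ (τ j)
  rw [← hμ (σ' d) (sigma_mem_commutator σ' hd) (τ j)]
  refine congrArg μ (Subtype.ext ?_)
  simp [hτ, MulAut.conjNormal_apply]

theorem restrictAut_symm_apply (hσJ : J.map σ.toMonoidHom = J) (j : J) :
    (((restrictAut hσJ)⁻¹ j : J) : X) = σ⁻¹ (j : X) := by
  have h := restrictAut_apply hσJ ((restrictAut hσJ)⁻¹ j)
  rw [MulAut.apply_inv_self] at h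
  rw [h, MulAut.inv_apply_self]

/-- The action of `σ` on invariant linear characters. -/
noncomputable def sigmaW (hσJ : J.map σ.toMonoidHom = J) : MulAut (invChars J) where
  toFun μ := ⟨_, comp_sigma_mem hσJ μ.2 (restrictAut hσJ)⁻¹ σ⁻¹ (restrictAut_symm_apply hσJ)⟩
  invFun μ := ⟨_, comp_sigma_mem hσJ μ.2 (restrictAut hσJ) σ (restrictAut_apply hσJ)⟩
  left_inv μ := Subtype.ext (MonoidHom.ext fun j => congrArg (μ : J →* ℂˣ)
    (MulAut.inv_apply_self _ _ j))
  right_inv μ := Subtype.ext (MonoidHom.ext fun j => congrArg (μ : J →* ℂˣ)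
    (MulAut.apply_inv_self _ _ j))
  map_mul' _ _ := rfl

theorem sigmaW_apply (hσJ : J.map σ.toMonoidHom = J) (μ : invChars J) (j : J) :
    ((sigmaW hσJ μ : invChars J) : J →* ℂˣ) (restrictAut hσJ j) = (μ : J →* ℂˣ) j :=
  congrArg (μ : J →* ℂˣ) (MulAut.inv_apply_self _ _ j)

/-- An element moved by `σ` fixes no nontrivial invariant linear character. -/
theorem smul_ne_of_moved (hJ : J ≤ commutator X)
    (hfpf : ∀ x : X, σ x * x⁻¹ ∉ commutator X → ∀ d ∈ commutator X, x * d = d * x → d = 1)
    {a : Abelianization X} (ha : abAut σ a ≠ a) {μ : invChars J} (hμ : μ ≠ 1) : a • μ ≠ μ := by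
  intro hfix
  obtain ⟨x, rfl⟩ := of_surjective a
  rw [abAut_of] at ha
  have hx : σ x * x⁻¹ ∉ commutator X := fun hm => ha (moved_iff.1 hm)
  apply hμ
  refine Subtype.ext (MonoidHom.ext fun i => ?_)
  let φ : J → J := fun j => MulAut.conjNormal x⁻¹ j * j⁻¹
  have hφ : Function.Injective φ := by
    intro j k e
    have e' : x⁻¹ * (j : X) * x⁻¹⁻¹ * (j : X)⁻¹ = x⁻¹ * (k : X) * x⁻¹⁻¹ * (k : X)⁻¹ := by
      simpa [φ, MulAut.conjNormal_apply] using congrArg Subtype.val e
    have e2 : x * ((k : X)⁻¹ * j) = (k : X)⁻¹ * j * x := by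
      calc x * ((k : X)⁻¹ * j)
          = (k : X)⁻¹ * (x * (x⁻¹ * (k : X) * x⁻¹⁻¹ * (k : X)⁻¹)) * j := by group
        _ = (k : X)⁻¹ * (x * (x⁻¹ * (j : X) * x⁻¹⁻¹ * (j : X)⁻¹)) * j := by rw [e']
        _ = (k : X)⁻¹ * j * x := by group
    exact Subtype.ext (inv_mul_eq_one.1
      (hfpf x hx _ (hJ (J.mul_mem (J.inv_mem k.2) j.2)) e2)).symm
  obtain ⟨j, rfl⟩ := Finite.injective_iff_surjective.1 hφ i
  rw [map_mul, ← of_smul_apply, hfix, ← map_mul, mul_inv_cancel, map_one]
  rfl

/-- The count of invariant linear characters by those fixed by `σ`. -/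
theorem card_invChars [Fintype X] [Fintype J] (h : Data X σ f q) (hJ : J ≤ commutator X)
    (hσJ : J.map σ.toMonoidHom = J)
    (hfpf : ∀ x : X, σ x * x⁻¹ ∉ commutator X → ∀ d ∈ commutator X, x * d = d * x → d = 1) :
    Nat.card (invChars J) - 1 =
      ((abAut σ).toMonoidHom.eqLocus (MonoidHom.id _)).index *
        (Nat.card ((sigmaW hσJ).toMonoidHom.eqLocus (MonoidHom.id _)) - 1) := by
  have hco : ∀ μ : invChars J, μ ≠ 1 →
      (stabilizer (Abelianization X) μ).index.Coprime f := fun μ hμ => by
    obtain ⟨θ, -, hθ, hd⟩ := exists_over_invChar J hJ hμ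
    exact (h.cop θ hθ).coprime_dvd_left hd
  refine card_sub_one (abAut σ) (sigmaW hσJ) f (fun a μ => ?_) h.abAut_pow ?_ ?_ ?_ hco
  · obtain ⟨x, rfl⟩ := of_surjective a
    refine Subtype.ext (MonoidHom.ext fun j => ?_)
    obtain ⟨j, rfl⟩ := (restrictAut hσJ).surjective j
    rw [sigmaW_apply, abAut_of, of_smul_apply, of_smul_apply,
      ← sigmaW_apply hσJ μ (MulAut.conjNormal x⁻¹ j)]
    refine congrArg _ (Subtype.ext ?_)
    simp [restrictAut_apply, MulAut.conjNormal_apply]
  · obtain ⟨n, -, ⟨k, hk⟩, hn⟩ := h.pow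
    refine MulEquiv.ext fun μ => ?_
    have hfix : Abelianization.of n • μ = μ := by
      rcases eq_or_ne μ 1 with rfl | hμ
      · exact smul_one _
      refine mem_stabilizer_iff.1 (mem_of_coprime_pow _ ((hco μ hμ).pow_right k)
        (Subgroup.pow_index_mem _ _) ?_)
      rw [← map_pow, hk, map_one]
      exact one_mem _
    have hit : ∀ (i : ℕ) (j : J), ((((sigmaW hσJ) ^ i) μ : invChars J) : J →* ℂˣ)
        ((restrictAut hσJ ^ i) j) = (μ : J →* ℂˣ) j := by
      intro i
      induction i with
      | zero => intro j; rfl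
      | succ i ih => intro j; rw [pow_succ', pow_succ', MulAut.mul_apply, MulAut.mul_apply, sigmaW_apply, ih]
    have hval : ∀ (i : ℕ) (j : J), (((restrictAut hσJ ^ i) j : J) : X) = (σ ^ i) (j : X) := by
      intro i
      induction i with
      | zero => intro j; rfl
      | succ i ih => intro j; rw [pow_succ', pow_succ', MulAut.mul_apply, MulAut.mul_apply, restrictAut_apply, ih]
    refine Subtype.ext (MonoidHom.ext fun j => ?_)
    have h1 := hit f (MulAut.conjNormal n⁻¹ j)
    rw [show (restrictAut hσJ ^ f) (MulAut.conjNormal n⁻¹ j) = j from Subtype.ext (by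
      rw [hval, hn, MulAut.conjNormal_apply]; group)] at h1
    rw [h1, ← of_smul_apply, hfix]
    rfl
  · intro a ha μ hμ
    exact smul_ne_of_moved hJ hfpf ha hμ
  · intro μ hμ
    obtain ⟨θ, hover, hθ, -⟩ := exists_over_invChar J hJ hμ
    have h2 : classInner (fun j : J => (θ : X → ℂ) j) (cfun J (sigmaW hσJ μ)) ≠ 0 := by
      have h3 := classInner_comp_equiv ((restrictAut hσJ)⁻¹ : J ≃* J)
        (fun j : J => (θ : X → ℂ) j) (cfun J μ)
      have e : (fun j : J => (θ : X → ℂ) (((restrictAut hσJ)⁻¹ j : J) : X)) =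
          fun j : J => (θ : X → ℂ) j := funext fun j => by
        rw [restrictAut_symm_apply, ← h.inv θ hθ, MulAut.apply_inv_self]
      rw [e] at h3
      show classInner _ (fun j => cfun J μ ((restrictAut hσJ)⁻¹ j)) ≠ 0
      rw [h3]
      exact hover
    obtain ⟨x, hx⟩ := CliffordChar.constituents_conjugate J θ.2 (isIrr_cfun J μ) (isIrr_cfun J _)
      hover h2
    exact ⟨Abelianization.of x, cfun_injective J (by rw [← hx, conjFun_cfun])⟩

end Cfsg.Agent.NoDivDeg
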