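/-
A space of alternating forms all of whose nonzero members are nondegenerate has dimension at most
half the dimension of the underlying space (Pfaffian and Chevalley–Warning).

Main results: `pencil_finrank`, `pencil_card`.
-/
import Cfsg.Agent.Lib.Forms.Symplectic

set_option autoImplicit false
set_option linter.style.haveILetI false

namespace Cfsg.Agent.NoDivDeg.Pencil

open Matrix MvPolynomial

theorem toBilin'_isAlt {L : Type*} [CommRing L] {n : ℕ} (M : Matrix (Fin n) (Fin n) L)
    (hd : ∀ a, M a a = 0) (hs : ∀ a b, M a b + M b a = 0) : (Matrix.toBilin' M).IsAlt := by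
  intro x
  rw [Matrix.toBilin'_apply, ← Finset.sum_product']
  refine Finset.sum_involution (fun p _ => (p.2, p.1)) (fun p _ => ?_) (fun p _ hp e => ?_)
    (fun p _ => by simp) (fun p _ => by simp)
  · linear_combination (x p.1 * x p.2) * hs p.1 p.2
  · obtain ⟨a, b⟩ := p
    have : b = a := congrArg Prod.fst e
    subst this
    exact hp (by simp [hd])

/-- The determinant of a nondegenerate alternating matrix over a field is a square up to sign. -/
theorem det_eq_sq {L : Type*} [Field L] {n : ℕ} (M : Matrix (Fin n) (Fin n) L)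
    (hd : ∀ a, M a a = 0) (hs : ∀ a b, M a b + M b a = 0) (hne : M.det ≠ 0) :
    ∃ s : L, M.det = s ^ 2 ∨ M.det = -s ^ 2 := by
  classical
  obtain ⟨m, k, e, he⟩ := Forms.exists_symplectic_equiv (Matrix.toBilin' M) (toBilin'_isAlt M hd hs)
  have hk : k = 0 := by
    by_contra hk
    let j : Fin k := ⟨0, Nat.pos_of_ne_zero hk⟩
    have hzero : ∀ w, Matrix.toBilin' M (e (Pi.single (.inr j) 1)) w = 0 := by
      intro w
      obtain ⟨y, rfl⟩ := e.surjective w
      rw [he]
      simp [Forms.altStd]
    have h2 : e (Pi.single (.inr j) 1) = 0 :=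
      (LinearMap.BilinForm.nondegenerate_toBilin'_iff_det_ne_zero.2 hne).1 _ hzero
    rw [e.map_eq_zero_iff] at h2
    simpa using congrFun h2 (.inr j)
  subst hk
  have hcard : Fintype.card ((Fin m ⊕ Fin m) ⊕ Fin 0) = n := by
    have := e.finrank_eq
    rwa [Module.finrank_fintype_fun_eq_card, Module.finrank_fintype_fun_eq_card,
      Fintype.card_fin] at this
  let σ : Fin n ≃ (Fin m ⊕ Fin m) ⊕ Fin 0 := (Fintype.equivFinOfCardEq hcard).symm
  let T : Matrix (Fin n) (Fin n) L := Matrix.of fun a j => e (Pi.single (σ j) 1) a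
  let τ : Fin n ≃ Fin m ⊕ Fin m := σ.trans (Equiv.sumEmpty _ _)
  have hprod : Tᵀ * M * T = ((-(Matrix.J (Fin m) L)).submatrix τ τ) := by
    ext j l
    have h1 := he (Pi.single (σ j) 1) (Pi.single (σ l) 1)
    rw [Matrix.toBilin'_apply] at h1
    have h2 : (Tᵀ * M * T) j l = ∑ a, ∑ b, T a j * M a b * T b l := by
      simp only [Matrix.mul_apply, Matrix.transpose_apply, Finset.sum_mul]
      exact Finset.sum_comm
    rw [h2, show (∑ a, ∑ b, T a j * M a b * T b l) = _ from h1]
    have hτ : ∀ i, τ i = Equiv.sumEmpty (Fin m ⊕ Fin m) (Fin 0) (σ i) := fun _ => rfl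
    rw [Matrix.submatrix_apply, hτ, hτ]
    rcases σ j with (a | a) | a <;> rcases σ l with (b | b) | b <;>
      first
      | exact a.elim0
      | exact b.elim0
      | simp [Forms.altStd, Matrix.J, Matrix.one_apply, Pi.single_apply, eq_comm]
  have hdet := congrArg Matrix.det hprod
  rw [Matrix.det_submatrix_equiv_self, Matrix.det_mul, Matrix.det_mul, Matrix.det_transpose,
    Matrix.det_neg, Fintype.card_sum, ← two_mul, pow_mul, neg_one_sq, one_pow, one_mul] at hdet
  have hJ : (Matrix.J (Fin m) L).det = 1 ∨ (Matrix.J (Fin m) L).det = -1 :=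
    mul_self_eq_one_iff.1 (Matrix.J_det_mul_J_det _ _)
  have hT : T.det ≠ 0 := fun h0 => by
    rw [h0, zero_mul, zero_mul] at hdet
    rcases hJ with h | h <;> rw [h] at hdet <;> simp at hdet
  refine ⟨T.det⁻¹, hJ.imp (fun h => ?_) fun h => ?_⟩ <;> rw [h] at hdet <;> field_simp <;>
    linear_combination hdet

variable {F K V : Type*} [Field F] [Fintype F] [AddCommGroup K] [Module F K] [Finite K]
  [AddCommGroup V] [Module F V] [Finite V]

theorem pencil_finrank [Nontrivial V] (B : K →ₗ[F] LinearMap.BilinForm F V) (halt : ∀ k, (B k).IsAlt)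
    (hnd : ∀ k, k ≠ 0 → (B k).SeparatingLeft) :
    2 * Module.finrank F K ≤ Module.finrank F V := by
  classical
  by_contra hcon
  rw [not_le] at hcon
  set r := Module.finrank F K
  set n := Module.finrank F V
  let bK := Module.finBasis F K
  let bV := Module.finBasis F V
  let Mk : Fin r → Matrix (Fin n) (Fin n) F := fun i => LinearMap.BilinForm.toMatrix bV (B (bK i))
  let M : Matrix (Fin n) (Fin n) (MvPolynomial (Fin r) F) :=
    Matrix.of fun a b => ∑ i, C (Mk i a b) * X i
  have hdiag : ∀ a, M a a = 0 := fun a => by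
    simp [M, Mk, LinearMap.BilinForm.toMatrix_apply, halt _ (bV a)]
  have hskew : ∀ a b, M a b + M b a = 0 := fun a b => by
    simp only [M, Matrix.of_apply, ← Finset.sum_add_distrib]
    refine Finset.sum_eq_zero fun i _ => ?_
    rw [← add_mul, ← C_add]
    simp [Mk, LinearMap.BilinForm.toMatrix_apply, ← LinearMap.IsAlt.neg (halt (bK i)) (bV a) (bV b)]
  have heval : ∀ c : Fin r → F, eval c M.det = (LinearMap.BilinForm.toMatrix bV (B (∑ i, c i • bK i))).det := by
    intro c
    rw [RingHom.map_det]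
    congr 1
    ext a b
    simp [M, Mk, LinearMap.BilinForm.toMatrix_apply, mul_comm]
  have hsol : ∀ c : Fin r → F, c ≠ 0 → eval c M.det ≠ 0 := fun c hc => by
    rw [heval]
    refine (LinearMap.BilinForm.nondegenerate_iff_det_ne_zero bV).1
      (LinearMap.BilinForm.Nondegenerate.ofSeparatingLeft (hnd _ fun h0 => hc ?_))
    funext i
    exact Fintype.linearIndependent_iff.1 bK.linearIndependent c h0 i
  have hr : 0 < r := by omega
  have hdet0 : M.det ≠ 0 := fun h0 => by
    refine hsol (fun _ => 1) (fun h => one_ne_zero (congrFun h ⟨0, hr⟩)) ?_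
    rw [h0, map_zero]
  let R := MvPolynomial (Fin r) F
  let L := FractionRing R
  have hdetL : (M.map (algebraMap R L)).det = algebraMap R L M.det :=
    ((algebraMap R L).map_det M).symm
  obtain ⟨s, hs⟩ := det_eq_sq (M.map (algebraMap R L))
    (fun a => by simp [hdiag]) (fun a b => by rw [Matrix.map_apply, Matrix.map_apply, ← map_add, hskew, map_zero])
    (by rw [hdetL]; exact fun h => hdet0 (IsFractionRing.injective R L (by rw [h, map_zero])))
  rw [hdetL] at hs
  have hint : IsIntegral R (s ^ 2) := by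
    rcases hs with h | h
    · exact h ▸ isIntegral_algebraMap
    · have : s ^ 2 = algebraMap R L (-M.det) := by rw [map_neg, h, neg_neg]
      exact this ▸ isIntegral_algebraMap
  obtain ⟨P, hP⟩ := IsIntegrallyClosed.exists_algebraMap_eq_of_isIntegral_pow two_pos hint
  have hPdet : M.det = P ^ 2 ∨ M.det = -P ^ 2 := by
    rw [← hP, ← map_pow, ← map_neg] at hs
    exact hs.imp (fun h => IsFractionRing.injective R L h) fun h => IsFractionRing.injective R L h
  have hP0 : P ≠ 0 := fun h => by
    rcases hPdet with e | e <;> rw [h] at e <;> simp at e <;> exact hdet0 e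
  have hdeg : M.det.totalDegree ≤ n := by
    rw [Matrix.det_apply]
    refine totalDegree_finsetSum_le fun π _ => ?_
    refine le_trans ?_ (le_trans (totalDegree_finsetProd Finset.univ fun i => M (π i) i) ?_)
    · rcases Int.units_eq_one_or (Equiv.Perm.sign π) with h | h <;> rw [h] <;>
        simp [Units.smul_def]
    · refine (Finset.sum_le_card_nsmul _ _ 1 fun i _ => ?_).trans (by simp)
      simp only [M, Matrix.of_apply]
      refine totalDegree_finsetSum_le fun j _ => (totalDegree_mul _ _).trans ?_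
      simp
  have hPdeg : P.totalDegree + P.totalDegree ≤ n := by
    rw [← totalDegree_mul_of_isDomain hP0 hP0, ← sq]
    rcases hPdet with e | e <;> rw [e] at hdeg
    · exact hdeg
    · rwa [totalDegree_neg] at hdeg
  haveI := Fact.mk ((CharP.char_is_prime F (ringChar F)))
  have hdvd := char_dvd_card_solutions (ringChar F) (f := P) (by rw [Fintype.card_fin]; omega)
  have hsing : Fintype.card {x : Fin r → F // eval x P = 0} ≤ 1 := by
    refine Fintype.card_le_one_iff.2 fun x y => Subtype.ext ?_
    have h0 : ∀ z : {x : Fin r → F // eval x P = 0}, (z : Fin r → F) = 0 := fun z => by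
      by_contra hz
      refine hsol _ hz ?_
      rcases hPdet with e | e <;> simp [e, z.2]
    rw [h0 x, h0 y]
  have h0 : eval (0 : Fin r → F) P = 0 := by
    by_contra h
    have he : eval (0 : Fin r → F) M.det ≠ 0 := by
      rcases hPdet with e | e <;> simp only [e, map_pow, map_neg, neg_ne_zero] <;>
        exact pow_ne_zero _ h
    rw [heval] at he
    simp only [Pi.zero_apply, zero_smul, Finset.sum_const_zero, map_zero] at he
    haveI : Nonempty (Fin n) := ⟨⟨0, Module.finrank_pos⟩⟩
    exact he Matrix.det_zero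
  have hpos : 0 < Fintype.card {x : Fin r → F // eval x P = 0} := Fintype.card_pos_iff.2 ⟨⟨0, h0⟩⟩
  have := Nat.le_of_dvd hpos hdvd
  have := (Fact.out : (ringChar F).Prime).two_le
  omega

omit [Field F] [Fintype F] [AddCommGroup K] [Module F K] [Finite K] [AddCommGroup V] [Module F V]
  [Finite V] in
theorem exists_log {q : ℕ} [Fact q.Prime] :
    ∃ lg : ℂˣ → ZMod q, (∀ x y, x ^ q = 1 → y ^ q = 1 → lg (x * y) = lg x + lg y) ∧
      ∀ x, x ^ q = 1 → lg x = 0 → x = 1 := by
  classical
  have hq0 : q ≠ 0 := (Fact.out : q.Prime).ne_zero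
  haveI : NeZero q := ⟨hq0⟩
  have hz := Complex.isPrimitiveRoot_exp q hq0
  set ζ : ℂˣ := (hz.isUnit hq0).unit
  have hζ : IsPrimitiveRoot ζ q := IsPrimitiveRoot.coe_units_iff.1 hz
  have hex : ∀ x : ℂˣ, x ^ q = 1 → ∃ i : ℕ, ζ ^ i = x := fun x hx => by
    obtain ⟨i, -, hi⟩ := hz.eq_pow_of_pow_eq_one (ξ := (x : ℂ)) (by rw [← Units.val_pow_eq_pow_val, hx, Units.val_one])
    exact ⟨i, Units.ext (by rw [Units.val_pow_eq_pow_val]; exact hi)⟩
  let lg : ℂˣ → ZMod q := fun x => if h : x ^ q = 1 then ((Nat.find (hex x h) : ℕ) : ZMod q) else 0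
  have key : ∀ (x : ℂˣ) (i : ℕ), ζ ^ i = x → lg x = (i : ZMod q) := fun x i hi => by
    have hx : x ^ q = 1 := by rw [← hi, ← pow_mul, mul_comm, pow_mul, hζ.pow_eq_one, one_pow]
    simp only [lg, dif_pos hx]
    rw [ZMod.natCast_eq_natCast_iff, hζ.eq_orderOf, ← pow_eq_pow_iff_modEq, Nat.find_spec (hex x hx), hi]
  refine ⟨lg, fun x y hx hy => ?_, fun x hx h0 => ?_⟩
  · obtain ⟨i, hi⟩ := hex x hx
    obtain ⟨j, hj⟩ := hex y hy
    rw [key _ _ hi, key _ _ hj, key (x * y) (i + j) (by rw [pow_add, hi, hj]), Nat.cast_add]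
  · obtain ⟨i, hi⟩ := hex x hx
    rw [key _ _ hi, ZMod.natCast_eq_zero_iff] at h0
    rw [← hi]
    exact (hζ.pow_eq_one_iff_dvd i).2 h0

theorem pencil_finrank' [Nontrivial V] (f : K → V → V → F)
    (hk : ∀ k k' a b, f (k + k') a b = f k a b + f k' a b)
    (hks : ∀ (c : F) k a b, f (c • k) a b = c * f k a b)
    (ha : ∀ k a a' b, f k (a + a') b = f k a b + f k a' b)
    (has : ∀ (c : F) k a b, f k (c • a) b = c * f k a b)
    (hb : ∀ k a b b', f k a (b + b') = f k a b + f k a b')
    (hbs : ∀ (c : F) k a b, f k a (c • b) = c * f k a b)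
    (halt : ∀ k a, f k a a = 0) (hnd : ∀ k, k ≠ 0 → ∀ a, a ≠ 0 → ∃ b, f k a b ≠ 0) :
    2 * Module.finrank F K ≤ Module.finrank F V :=
  pencil_finrank
    { toFun := fun k => LinearMap.mk₂ F (f k) (ha k) (fun c => has c k) (hb k) (fun c => hbs c k)
      map_add' := fun k k' => LinearMap.ext₂ fun a b => hk k k' a b
      map_smul' := fun c k => LinearMap.ext₂ fun a b => hks c k a b }
    halt fun k hk0 a hzero => by
      by_contra ha0
      obtain ⟨b, hb'⟩ := hnd k hk0 a ha0
      exact hb' (hzero b)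

omit [Field F] [Fintype F] [AddCommGroup K] [Module F K] [Finite K] [AddCommGroup V] [Module F V]
  [Finite V] in
theorem pencil_card_add {K W : Type*} [AddCommGroup K] [Finite K] [AddCommGroup W] [Finite W]
    [Nontrivial W] {q : ℕ} [Fact q.Prime] (hK : ∀ k : K, q • k = 0) (hW : ∀ w : W, q • w = 0)
    (form : K →+ W →+ W →+ ZMod q) (halt : ∀ k a, form k a a = 0)
    (hnd : ∀ k, k ≠ 0 → ∀ a, a ≠ 0 → ∃ b, form k a b ≠ 0) :
    Nat.card K ^ 2 ≤ Nat.card W := by
  classical
  letI mK : Module (ZMod q) K := AddCommGroup.zmodModule hK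
  letI mW : Module (ZMod q) W := AddCommGroup.zmodModule hW
  have hle := pencil_finrank' (F := ZMod q) (fun k a b => form k a b)
    (fun k k' a b => by simp) (fun c k a b => by
      rw [ZMod.map_smul form c k]
      exact ZMod.map_smul ((AddMonoidHom.eval b).comp (AddMonoidHom.eval a)) c (form k))
    (fun k a a' b => by simp) (fun c k a b => by
      rw [ZMod.map_smul (form k) c a]
      exact ZMod.map_smul (AddMonoidHom.eval b) c (form k a))
    (fun k a b b' => map_add _ b b') (fun c k a b => ZMod.map_smul (form k a) c b) halt hnd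
  have eK : Nat.card K = q ^ Module.finrank (ZMod q) K := by
    haveI : Module.Finite (ZMod q) K := Module.Finite.of_finite
    have h := @Module.natCard_eq_pow_finrank (ZMod q) K _ _ mK this
    rwa [Nat.card_zmod] at h
  have eW : Nat.card W = q ^ Module.finrank (ZMod q) W := by
    haveI : Module.Finite (ZMod q) W := Module.Finite.of_finite
    have h := @Module.natCard_eq_pow_finrank (ZMod q) W _ _ mW this
    rwa [Nat.card_zmod] at h
  rw [eK, eW, ← pow_mul]
  exact Nat.pow_le_pow_right (Fact.out : q.Prime).pos (by omega)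

omit [Field F] [Fintype F] [AddCommGroup K] [Module F K] [Finite K] [AddCommGroup V] [Module F V]
  [Finite V] in
/-- The multiplicative form of the bound. -/
theorem pencil_card {K W : Type*} [CommGroup K] [Finite K] [CommGroup W] [Finite W] [Nontrivial W]
    {q : ℕ} (hq : q.Prime) (hK : ∀ k : K, k ^ q = 1) (hW : ∀ w : W, w ^ q = 1)
    (P : K → W → W → ℂˣ) (hk : ∀ k k' a b, P (k * k') a b = P k a b * P k' a b)
    (ha : ∀ k a a' b, P k (a * a') b = P k a b * P k a' b)
    (hb : ∀ k a b b', P k a (b * b') = P k a b * P k a b') (halt : ∀ k a, P k a a = 1)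
    (hnd : ∀ k, k ≠ 1 → ∀ a, a ≠ 1 → ∃ b, P k a b ≠ 1) :
    Nat.card K ^ 2 ≤ Nat.card W := by
  classical
  haveI := Fact.mk hq
  obtain ⟨lg, hlg, hlg0⟩ := exists_log (q := q)
  letI : Module (ZMod q) (Additive K) := AddCommGroup.zmodModule fun x => hK x.toMul
  letI : Module (ZMod q) (Additive W) := AddCommGroup.zmodModule fun x => hW x.toMul
  have hroot : ∀ k a b, P k a b ^ q = 1 := fun k a b => by
    let φ : W →* ℂˣ :=
      { toFun := fun b => P k a b
        map_one' := mul_eq_left.1 (by rw [← hb, one_mul])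
        map_mul' := hb k a }
    show φ b ^ q = 1
    rw [← map_pow, hW, map_one]
  let form : Additive K →+ Additive W →+ Additive W →+ ZMod q :=
    AddMonoidHom.mk' (fun k => AddMonoidHom.mk' (fun a => AddMonoidHom.mk'
      (fun b => lg (P k.toMul a.toMul b.toMul))
      fun b b' => by rw [toMul_add, hb, hlg _ _ (hroot _ _ _) (hroot _ _ _)])
      fun a a' => AddMonoidHom.ext fun b => by
        simp only [AddMonoidHom.mk'_apply, AddMonoidHom.add_apply, toMul_add, ha,
          hlg _ _ (hroot _ _ _) (hroot _ _ _)])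
      fun k k' => AddMonoidHom.ext fun a => AddMonoidHom.ext fun b => by
        simp only [AddMonoidHom.mk'_apply, AddMonoidHom.add_apply, toMul_add, hk,
          hlg _ _ (hroot _ _ _) (hroot _ _ _)]
  have h1 : lg 1 = 0 := by
    have h := hlg 1 1 (one_pow _) (one_pow _)
    rw [mul_one] at h
    simpa using h
  exact pencil_card_add (K := Additive K) (W := Additive W) (fun x => hK x.toMul) (fun x => hW x.toMul)
    form (fun k a => (congrArg lg (halt _ _)).trans h1) fun k hk0 a ha0 => by
      obtain ⟨b, hb'⟩ := hnd k.toMul (fun h => hk0 (Additive.toMul.injective h)) a.toMul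
        (fun h => ha0 (Additive.toMul.injective h))
      exact ⟨Additive.ofMul b, fun h => hb' (hlg0 _ (hroot _ _ _) h)⟩

end Cfsg.Agent.NoDivDeg.Pencil
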