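/-
Sections of a solvable group.

Main result: `section_cases`: a maximal nonabelian section is a `p`-group or gives Frobenius type
data whose index is a degree.
-/
import Cfsg.Agent.Lib.CharApp.ThreeDegrees.DerivedLength

set_option autoImplicit false
set_option linter.style.haveILetI false

namespace Cfsg.Agent.NoDivDeg

open Cfsg Cfsg.Agent.Char Cfsg.Agent.CharApp Cfsg.Agent.CharApp.DegreeSets Cfsg.Agent.CharApp.TwoDegrees
open scoped commutatorElement ComplexConjugate

universe u

variable {G : Type u} [Group G] [Finite G]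

/-- Every maximal section is a `p`-group or gives Frobenius type data. -/
theorem section_cases [Group.IsSolvable G] (K : Subgroup G) [K.Normal]
    (hK : ¬ commutator G ≤ K)
    (hmax : ∀ M : Subgroup G, M.Normal → K ≤ M → ¬ commutator G ≤ M → M = K) :
    (∃ p : ℕ, p.Prime ∧ IsPGroup p (G ⧸ K)) ∨
      ∃ (N : Subgroup G) (q : ℕ), FrobSection G N.index K N q ∧ N.index ≠ 1 ∧
        (∃ g : G, ∀ x : G, ∃ i : ℤ, (g ^ i)⁻¹ * x ∈ N) ∧ ∃ χ : IrrCharacter G, charDegree (χ : G → ℂ) = N.index := by
  classical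
  let π := QuotientGroup.mk' K
  have hπ : Function.Surjective π := QuotientGroup.mk'_surjective K
  have hmap : (commutator G).map π = commutator (G ⧸ K) := by
    rw [commutator_def, Subgroup.map_commutator, Subgroup.map_top_of_surjective π hπ,
      ← commutator_def]
  have hne : commutator (G ⧸ K) ≠ ⊥ := by
    rw [← hmap, Ne, Subgroup.map_eq_bot_iff, QuotientGroup.ker_mk']
    exact hK
  have hmin : ∀ M : Subgroup (G ⧸ K), M.Normal → M ≠ ⊥ → commutator (G ⧸ K) ≤ M := by
    intro M hM hMne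
    rw [← hmap, Subgroup.map_le_iff_le_comap]
    by_contra hh
    refine hMne ?_
    have := hmax (M.comap π) (hM.comap π) ((QuotientGroup.ker_mk' K).symm.le.trans
      (Subgroup.ker_le_comap π M)) hh
    rw [← Subgroup.map_comap_eq_self_of_surjective hπ M, this, Subgroup.map_eq_bot_iff,
      QuotientGroup.ker_mk']
  haveI : Group.IsSolvable (G ⧸ K) := Group.isSolvable_of_surjective hπ
  by_cases hZ : Subgroup.center (G ⧸ K) = ⊥
  swap
  · exact Or.inl (isPGroup_of_center_ne_bot hne hmin hZ)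
  obtain ⟨q, hq, hpow, hab, hfix, hcyc, hcop, htop⟩ := frobenius_of_center_eq_bot hne hmin hZ
  right
  set N := (commutator (G ⧸ K)).comap π with hN
  have hidx : N.index = (commutator (G ⧸ K)).index := Subgroup.index_comap_of_surjective _ hπ
  haveI hNn : N.Normal := Subgroup.Normal.comap inferInstance π
  let f : (G ⧸ K) ⧸ commutator (G ⧸ K) →* G ⧸ N :=
    QuotientGroup.lift _ (QuotientGroup.map K N (MonoidHom.id G)
      ((QuotientGroup.ker_mk' K).symm.le.trans (Subgroup.ker_le_comap π (commutator (G ⧸ K))))) (by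
      intro a ha
      induction a using QuotientGroup.induction_on with
      | H g => exact (QuotientGroup.eq_one_iff g).2 ha)
  haveI hcN : IsCyclic (G ⧸ N) := isCyclic_of_surjective f fun y => by
    induction y using QuotientGroup.induction_on with
    | H g => exact ⟨((g : G ⧸ K) : (G ⧸ K) ⧸ commutator (G ⧸ K)), rfl⟩
  -- a character of degree the index
  have hm : ∃ χ : IrrCharacter G, charDegree (χ : G → ℂ) = N.index := by
    haveI := Fintype.ofFinite (G ⧸ K)
    haveI := Fintype.ofFinite (commutator (G ⧸ K))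
    obtain ⟨y, hy⟩ := Subgroup.ne_bot_iff_exists_ne_one.1 hne
    have habC : ∀ a b : commutator (G ⧸ K), a * b = b * a :=
      fun a b => Subtype.ext (hab a a.2 b b.2)
    obtain ⟨l, hl⟩ := exists_linear_sep habC hy
    have hlirr : IsIrrCharacter (commutator (G ⧸ K)) l := by
      have := IsIrrCharacter.mul_linear
        (isIrrCharacter_one (G := commutator (G ⧸ K))) l
      simpa using this
    have hI : inertia (commutator (G ⧸ K)) (l : _ → ℂ) = commutator (G ⧸ K) := by
      refine le_antisymm (fun g hg => ?_) (le_inertia _ (IsIrrCharacter.isClassFunction hlirr))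
      by_contra hgN
      let φ : commutator (G ⧸ K) → commutator (G ⧸ K) := fun n =>
        ⟨g * n * g⁻¹, Subgroup.Normal.conj_mem inferInstance _ n.2 g⟩ * n⁻¹
      have hφ : Function.Injective φ := by
        intro a b e
        have e' : g * a * g⁻¹ * (a : G ⧸ K)⁻¹ = g * b * g⁻¹ * (b : G ⧸ K)⁻¹ :=
          congrArg Subtype.val e
        have e2 : g * ((b : G ⧸ K)⁻¹ * a) * g⁻¹ = (b : G ⧸ K)⁻¹ * a := by
          calc g * ((b : G ⧸ K)⁻¹ * a) * g⁻¹
              = (g * b * g⁻¹)⁻¹ * ((g * a * g⁻¹ * (a : G ⧸ K)⁻¹) * a) := by group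
            _ = (g * b * g⁻¹)⁻¹ * ((g * b * g⁻¹ * (b : G ⧸ K)⁻¹) * a) := by rw [e']
            _ = (b : G ⧸ K)⁻¹ * a := by group
        have := hfix g hgN _ ((commutator (G ⧸ K)).mul_mem
          ((commutator (G ⧸ K)).inv_mem b.2) a.2) (mul_inv_eq_iff_eq_mul.1 e2)
        exact Subtype.ext (inv_mul_eq_one.1 this).symm
      obtain ⟨n, hn⟩ := Finite.injective_iff_surjective.1 hφ y
      apply hl
      rw [← hn, map_mul, (mem_inertia_iff _).1 hg n, ← map_mul, mul_inv_cancel, map_one]
    obtain ⟨χ, hχ, hover⟩ := exists_over (commutator (G ⧸ K)) hlirr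
    obtain ⟨e, he0, -, hdeg, hself⟩ := degree_over _ hχ hlirr hover
    have hl1 : charDegree (l : commutator (G ⧸ K) → ℂ) = 1 := by simp [charDegree]
    rw [hI] at hdeg hself
    rw [hl1, mul_one] at hdeg
    have hb := multiplicity_sq_le_index (commutator (G ⧸ K)) hχ
    rw [hself, ← hidx] at hb
    rw [show ((e : ℂ) ^ 2 * (N.index : ℂ)) = ((e ^ 2 * N.index : ℕ) : ℂ) by push_cast; rfl,
      Complex.natCast_re, Nat.cast_le] at hb
    have hpos : 0 < N.index := Nat.pos_of_ne_zero Subgroup.index_ne_zero_of_finite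
    have he1 : e = 1 := by
      rcases Nat.lt_or_ge e 2 with h2 | h2
      · omega
      · exact absurd hb (not_le.2 (lt_mul_of_one_lt_left hpos (Nat.one_lt_pow two_ne_zero (by omega))))
    rw [he1, one_mul, ← hidx] at hdeg
    have hd : charDegree (Codegree.inflate K ⟨χ, hχ⟩ : G → ℂ) = N.index := hdeg
    exact ⟨_, hd⟩
  have hgen : ∃ g : G, ∀ x : G, ∃ i : ℤ, (g ^ i)⁻¹ * x ∈ N := by
    obtain ⟨c, hc⟩ := hcN.exists_generator
    obtain ⟨g, rfl⟩ := QuotientGroup.mk'_surjective N c
    refine ⟨g, fun x => ?_⟩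
    obtain ⟨i, hi⟩ := Subgroup.mem_zpowers_iff.1 (hc (x : G ⧸ N))
    refine ⟨i, QuotientGroup.eq.1 ?_⟩
    rw [QuotientGroup.mk_zpow]
    exact hi
  refine ⟨N, q, ⟨‹K.Normal›, hNn, (QuotientGroup.ker_mk' K).symm.le.trans
    (Subgroup.ker_le_comap π _), ?_, ?_, hq, ?_, ?_, ?_, ?_, ?_, hidx ▸ hcop, rfl⟩, fun e => htop (Subgroup.index_eq_one.1 (hidx ▸ e)), hgen, hm⟩
  · intro hNK
    exact hK (le_trans (Subgroup.map_le_iff_le_comap.1 hmap.le) hNK)
  · exact Subgroup.map_le_iff_le_comap.1 hmap.le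
  · intro H hNH g k hk hg
    have hcard : Nat.card (H.map (QuotientGroup.mk' N)) = k := by
      have h1 : ((H.map (QuotientGroup.mk' N))).index = H.index :=
        Subgroup.index_map_eq H (QuotientGroup.mk'_surjective N)
          (by rw [QuotientGroup.ker_mk']; exact hNH)
      have h2 := (H.map (QuotientGroup.mk' N)).card_mul_index
      rw [h1, ← N.index_eq_card, ← Subgroup.relIndex_mul_index hNH, ← hk] at h2
      exact Nat.eq_of_mul_eq_mul_right (Nat.pos_of_ne_zero Subgroup.index_ne_zero_of_finite) h2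
    have := mem_of_pow_card_eq_one (H.map (QuotientGroup.mk' N)) (y := QuotientGroup.mk' N g)
      (by rw [hcard, ← map_pow]; exact (QuotientGroup.eq_one_iff _).2 hg)
    rw [← Subgroup.mem_comap, Subgroup.comap_map_eq, QuotientGroup.ker_mk', sup_eq_left.2 hNH]
      at this
    exact this
  · intro a ha ha1
    obtain ⟨c, hc⟩ := IsCyclic.exists_ofOrder_eq_natCard (α := G ⧸ N)
    rw [← N.index_eq_card] at hc
    obtain ⟨g, hg⟩ := QuotientGroup.mk'_surjective N (c ^ (N.index / a))
    have hord : orderOf (c ^ (N.index / a)) = a := by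
      conv_lhs => rw [← hc]
      exact orderOf_pow_orderOf_div (by rw [hc]; exact Subgroup.index_ne_zero_of_finite)
        (hc.symm ▸ ha)
    refine ⟨g, fun hgN => ha1 ?_, (QuotientGroup.eq_one_iff _).1 ?_⟩
    · rw [← hord, ← hg, orderOf_eq_one_iff]
      exact (QuotientGroup.eq_one_iff _).2 hgN
    · show (QuotientGroup.mk' N) (g ^ a) = 1
      rw [map_pow, hg]
      exact orderOf_dvd_iff_pow_eq_one.1 hord.dvd
  · intro n hn
    exact (QuotientGroup.eq_one_iff _).1 (hpow _ hn)
  · intro a ha b hb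
    refine (QuotientGroup.eq_one_iff _).1 ?_
    have := hab _ ha _ hb
    show π (a * b * a⁻¹ * b⁻¹) = 1
    rw [map_mul, map_mul, map_mul, map_inv, map_inv, this]
    group
  · intro g hg n hn he
    refine (QuotientGroup.eq_one_iff n).1 (hfix (π g) hg (π n) hn ?_)
    have : π (g * n * g⁻¹ * n⁻¹) = 1 := (QuotientGroup.eq_one_iff _).2 he
    rw [map_mul, map_mul, map_mul, map_inv, map_inv, mul_inv_eq_one,
      mul_inv_eq_iff_eq_mul] at this
    exact this

end Cfsg.Agent.NoDivDeg
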