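/-
No divisibility among degrees: consequences of a Frobenius type section.

Main results: `NoDiv`, `dvd_of_frobSection`, `eq_or_dvd`, `dvd_of_isPGroup_section`.
-/
import Cfsg.Agent.Lib.NoDivDeg.Section
import Cfsg.Agent.Lib.FullyRamified.Basic

set_option autoImplicit false
set_option linter.style.haveILetI false

namespace Cfsg.Agent.NoDivDeg

open Cfsg Cfsg.Agent.Char Cfsg.Agent.CharApp Cfsg.Agent.CharApp.DegreeSets
open Cfsg.Agent.CharApp.TwoDegrees (FrobSection exists_linear_sep)
open scoped ComplexConjugate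

universe u

variable {G : Type u} [Group G] [Finite G]

/-- No degree `a > 1` divides a larger degree. -/
def NoDiv (G : Type u) [Group G] : Prop :=
  ∀ χ χ' : IrrCharacter G, 1 < charDegree (χ : G → ℂ) →
    charDegree (χ : G → ℂ) < charDegree (χ' : G → ℂ) →
    ¬ charDegree (χ : G → ℂ) ∣ charDegree (χ' : G → ℂ)

theorem NoDiv.eq_of_dvd (h : NoDiv G) {χ χ' : IrrCharacter G}
    (hχ : charDegree (χ : G → ℂ) ≠ 1) (hd : charDegree (χ : G → ℂ) ∣ charDegree (χ' : G → ℂ)) :
    charDegree (χ : G → ℂ) = charDegree (χ' : G → ℂ) := by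
  by_contra hne
  have h1 := TwoClassChar.deg_pos χ.2
  have h2 := Nat.le_of_dvd (TwoClassChar.deg_pos χ'.2) hd
  exact h χ χ' (by omega) (by omega) hd

/-- A `p`-group section with nonabelian quotient: `p` divides every nonlinear degree. -/
theorem NoDiv.dvd_of_isPGroup_section [Group.IsSolvable G] (h : NoDiv G) {p : ℕ} (hp : p.Prime)
    (K : Subgroup G) [K.Normal] (hK : IsPGroup p (G ⧸ K)) (hKc : ¬ commutator G ≤ K)
    (χ : IrrCharacter G) (hχ : charDegree (χ : G → ℂ) ≠ 1) : p ∣ charDegree (χ : G → ℂ) := by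
  classical
  haveI := Fintype.ofFinite G
  haveI := Fintype.ofFinite K
  haveI := Fact.mk hp
  by_contra hpd
  obtain ⟨ψ, hψ⟩ : ∃ ψ : IrrCharacter (G ⧸ K), charDegree (ψ : G ⧸ K → ℂ) ≠ 1 := by
    by_contra hh
    push Not at hh
    refine hKc (derivedSeries_one G ▸ ThreeDegrees.derived_le_of_quotient K 1 ?_)
    rw [derivedSeries_one, commutator_def, Subgroup.commutator_eq_bot_iff_le_centralizer]
    refine fun x _ y _ => ?_
    exact comm_of_forall_degree_one (fun φ => by rw [apply_one φ.2, hh φ, Nat.cast_one]) y x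
  obtain ⟨k, hk⟩ := IsPGroup.iff_card.1 hK
  have hco : (charDegree (χ : G → ℂ)).Coprime K.index := by
    rw [K.index_eq_card, hk]
    exact ((hp.coprime_iff_not_dvd.2 hpd).symm).pow_right k
  have hirr := gallagher_irr K χ.2 (ThreeDegrees.restrict_irr_of_coprime K χ.2 hco)
    (Codegree.inflate K ψ).2
    (fun n => Codegree.mem_kerSub.1 (ThreeDegrees.le_kerSub_inflate K ψ n.2))
  have hd : charDegree ((χ : G → ℂ) * (Codegree.inflate K ψ : G → ℂ)) =
      charDegree (χ : G → ℂ) * charDegree (ψ : G ⧸ K → ℂ) := by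
    have h1 := apply_one hirr
    rw [Pi.mul_apply, apply_one χ.2, apply_one (Codegree.inflate K ψ).2, ThreeDegrees.deg_inflate] at h1
    exact_mod_cast h1.symm
  have h2 := h.eq_of_dvd hχ (χ' := ⟨_, hirr⟩) (hd ▸ dvd_mul_right _ _)
  change _ = charDegree ((χ : G → ℂ) * (Codegree.inflate K ψ : G → ℂ)) at h2
  rw [hd] at h2
  exact hψ (Nat.eq_of_mul_eq_mul_left (TwoClassChar.deg_pos χ.2) ((mul_one _).trans h2)).symm

theorem normal_of_le {N H : Subgroup G} (hc : commutator G ≤ N) (hNH : N ≤ H) : H.Normal :=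
  ⟨fun n hn g => by
    have : g * n * g⁻¹ = (g * n * g⁻¹ * n⁻¹) * n := by group
    rw [this]
    exact H.mul_mem (hNH (hc (Subgroup.commutator_mem_commutator (Subgroup.mem_top g)
      (Subgroup.mem_top n)))) hn⟩

/-- In a Frobenius type section `q` divides every nonlinear degree of the kernel. -/
theorem NoDiv.dvd_of_frobSection [Group.IsSolvable G] (h : NoDiv G) {K N : Subgroup G} {q : ℕ}
    (hs : FrobSection G N.index K N q) (hf1 : N.index ≠ 1) (χf : IrrCharacter G)
    (hχf : charDegree (χf : G → ℂ) = N.index)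
    (θ : IrrCharacter N) (hθ : charDegree (θ : N → ℂ) ≠ 1) :
    q ∣ charDegree (θ : N → ℂ) := by
  classical
  by_contra hqd
  haveI := hs.K_normal
  haveI := hs.N_normal
  haveI := Fintype.ofFinite G
  haveI := Fintype.ofFinite N
  haveI := Fact.mk hs.prime
  set K' := K.subgroupOf N
  haveI := Fintype.ofFinite K'
  have hp : IsPGroup q (N ⧸ K') := fun u => by
    induction u using QuotientGroup.induction_on with
    | H u => exact ⟨1, by
        rw [pow_one, ← QuotientGroup.mk_pow, QuotientGroup.eq_one_iff]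
        exact hs.pow u u.2⟩
  obtain ⟨s, hs'⟩ := IsPGroup.iff_card.1 hp
  have hres : IsIrrCharacter K' (fun x : K' => (θ : N → ℂ) x) :=
    ThreeDegrees.restrict_irr_of_coprime K' θ.2 (by
      rw [K'.index_eq_card, hs']
      exact ((hs.prime.coprime_iff_not_dvd.2 hqd).symm).pow_right s)
  let tw : (N →* ℂ) → N → ℂ := fun ω n => (θ : N → ℂ) n * ω n
  have htw : ∀ ω, IsIrrCharacter N (tw ω) := fun ω => IsIrrCharacter.mul_linear θ.2 ω
  have htwdeg : ∀ ω, charDegree (tw ω) = charDegree (θ : N → ℂ) := fun ω => by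
    simp [tw, charDegree]
  let Triv : (N →* ℂ) → Prop := fun ω => ∀ n : N, (n : G) ∈ K → ω n = 1
  have hom_irr : ∀ ω : N →* ℂ, IsIrrCharacter N ω := fun ω => by
    have := IsIrrCharacter.mul_linear (isIrrCharacter_one (G := N)) ω
    simp only [Pi.one_apply, one_mul] at this
    exact this
  have htwinj : ∀ ω ω', Triv ω → Triv ω' → tw ω = tw ω' → ω = ω' := fun ω ω' hω hω' e =>
    MonoidHom.ext (congrFun (gallagher_injective K' θ.2 hres (hom_irr ω) (hom_irr ω')
      (fun m => by rw [map_one]; exact hω _ m.2) (fun m => by rw [map_one]; exact hω' _ m.2) e))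
  -- every twist has inertia group larger than `N`
  have hbig : ∀ ω, ∃ g ∈ inertia N (tw ω), g ∉ N := by
    intro ω
    by_contra hno
    push Not at hno
    obtain ⟨χ, hχ, hover⟩ := exists_over N (htw ω)
    obtain ⟨e, he, -, hdeg, -⟩ := degree_over N hχ (htw ω) hover
    rw [show inertia N (tw ω) = N from le_antisymm hno
      (le_inertia N (IsIrrCharacter.isClassFunction (htw ω))), htwdeg] at hdeg
    have h2 := h.eq_of_dvd (χ := χf) (χ' := ⟨χ, hχ⟩) (hχf ▸ hf1)
      (by rw [hχf]; exact ⟨e * charDegree (θ : N → ℂ), by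
        show charDegree χ = _
        rw [hdeg]; ring⟩)
    change charDegree (χf : G → ℂ) = charDegree χ at h2
    rw [hχf, hdeg, mul_comm e, mul_assoc] at h2
    have h3 := Nat.eq_of_mul_eq_mul_left (Nat.pos_of_ne_zero Subgroup.index_ne_zero_of_finite)
      ((mul_one _).trans h2)
    exact hθ (mul_eq_one.1 h3.symm).2
  -- each element outside `N` fixes at most one twist
  have huniq : ∀ g ∉ N, ∀ ω ω', Triv ω → Triv ω' → g ∈ inertia N (tw ω) → g ∈ inertia N (tw ω') →
      ω = ω' := by
    intro g hg ω ω' hω hω' h1 h2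
    have hu : ∀ (φ : N →* ℂ), Triv φ → ∀ x : N, φ x ≠ 0 := fun φ hφ x e => by
      have := congrArg φ (mul_inv_cancel x)
      rw [map_mul, e, zero_mul, map_one] at this
      exact zero_ne_one this
    let c : N ≃* N := MulAut.conjNormal g
    let ω₁ : N →* ℂ := ω.comp c.toMonoidHom
    let ω₂ : N →* ℂ := ω'.comp c.toMonoidHom
    have hω₁ : Triv ω₁ := fun n hn => hω _ (by
      simpa [c] using hs.K_normal.conj_mem _ hn g)
    have hω₂ : Triv ω₂ := fun n hn => hω' _ (by
      simpa [c] using hs.K_normal.conj_mem _ hn g)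
    have e1 : tw (ω * ω₂) = tw (ω' * ω₁) := by
      funext n
      have a1 := (mem_inertia_iff N).1 h1 n
      have a2 := (mem_inertia_iff N).1 h2 n
      have ec : c n = ⟨g * n * g⁻¹, hs.N_normal.conj_mem n n.2 g⟩ :=
        Subtype.ext (MulAut.conjNormal_apply _ _)
      simp only [tw, MonoidHom.mul_apply, ω₁, ω₂, MonoidHom.comp_apply, MulEquiv.coe_toMonoidHom, ec]
      set n' : N := ⟨g * n * g⁻¹, hs.N_normal.conj_mem n n.2 g⟩
      change (θ : N → ℂ) n' * ω n' = (θ : N → ℂ) n * ω n at a1
      change (θ : N → ℂ) n' * ω' n' = (θ : N → ℂ) n * ω' n at a2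
      calc (θ : N → ℂ) n * (ω n * ω' n') = ((θ : N → ℂ) n * ω n) * ω' n' := by ring
        _ = ((θ : N → ℂ) n' * ω' n') * ω n' := by rw [← a1]; ring
        _ = (θ : N → ℂ) n * (ω' n * ω n') := by rw [a2]; ring
    have e2 := htwinj _ _ (fun n hn => by rw [MonoidHom.mul_apply, hω n hn, hω₂ n hn, mul_one])
      (fun n hn => by rw [MonoidHom.mul_apply, hω' n hn, hω₁ n hn, mul_one]) e1
    -- the commutator with `g` is onto modulo `K`
    let δ : N ⧸ K' → N ⧸ K' := fun u =>
      QuotientGroup.map K' K' c.toMonoidHom (fun n hn => by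
        simpa [c, K', Subgroup.mem_subgroupOf] using hs.K_normal.conj_mem _ hn g) u * u⁻¹
    have habQ : ∀ u v : N ⧸ K', u * v = v * u := by
      intro u v
      induction u using QuotientGroup.induction_on with
      | H u => induction v using QuotientGroup.induction_on with
        | H v =>
          rw [← QuotientGroup.mk_mul, ← QuotientGroup.mk_mul, QuotientGroup.eq,
            Subgroup.mem_subgroupOf]
          simpa [mul_assoc] using hs.ab _ (N.inv_mem v.2) _ (N.inv_mem u.2)
    have hδ : Function.Surjective δ := by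
      refine Finite.injective_iff_surjective.1 fun u v e => ?_
      induction u using QuotientGroup.induction_on with
      | H u => induction v using QuotientGroup.induction_on with
        | H v =>
          simp only [δ, QuotientGroup.map_mk, MulEquiv.coe_toMonoidHom] at e
          have e' : ((c (v⁻¹ * u) * (v⁻¹ * u)⁻¹ : N) : N ⧸ K') = 1 := by
            rw [map_mul, map_inv, mul_inv_rev, inv_inv, QuotientGroup.mk_mul, QuotientGroup.mk_mul,
              QuotientGroup.mk_mul, QuotientGroup.mk_inv, QuotientGroup.mk_inv]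
            rw [mul_assoc, ← mul_assoc ((c u : N) : N ⧸ K'), e, mul_assoc, inv_mul_cancel, mul_one,
              inv_mul_cancel]
          refine (QuotientGroup.eq.2 ?_).symm
          rw [Subgroup.mem_subgroupOf]
          refine hs.fpf g hg _ (v⁻¹ * u).2 ?_
          have := (QuotientGroup.eq_one_iff _).1 e'
          simpa [c, K', Subgroup.mem_subgroupOf, mul_assoc] using this
    refine MonoidHom.ext fun n => ?_
    obtain ⟨u, hδu⟩ := hδ (n : N ⧸ K')
    induction u using QuotientGroup.induction_on with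
    | H u =>
      have hu' : (((c u * u⁻¹ : N)) : N ⧸ K') = (n : N ⧸ K') := by
        rw [← hδu]; rfl
      have key : ∀ φ : N →* ℂ, Triv φ → φ n * φ u = φ (c u) := fun φ hφ => by
        have h3 := hφ _ (Subgroup.mem_subgroupOf.1 (QuotientGroup.eq.1 hu'))
        have h4 : φ n = φ (c u * u⁻¹) := by
          rw [← mul_inv_cancel_left (c u * u⁻¹) n, map_mul, h3, mul_one]
        rw [h4, ← map_mul, inv_mul_cancel_right]
      have k1 := key ω hω
      have k2 := key ω' hω'
      have e3 : ω u * ω' (c u) = ω' u * ω (c u) := DFunLike.congr_fun e2 u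
      rw [← k1, ← k2] at e3
      have h0 : (ω u * ω' u) * ω' n = (ω u * ω' u) * ω n := by linear_combination e3
      exact (mul_left_cancel₀ (mul_ne_zero (hu ω hω u) (hu ω' hω' u)) h0).symm
  -- a second twist
  obtain ⟨x, hx, hxK⟩ := SetLike.not_le_iff_exists.1 hs.ne
  obtain ⟨l, hl⟩ := exists_linear_sep (A := N ⧸ K') (fun u v => by
      induction u using QuotientGroup.induction_on with
      | H u => induction v using QuotientGroup.induction_on with
        | H v =>
          rw [← QuotientGroup.mk_mul, ← QuotientGroup.mk_mul, QuotientGroup.eq,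
            Subgroup.mem_subgroupOf]
          simpa [mul_assoc] using hs.ab _ (N.inv_mem v.2) _ (N.inv_mem u.2))
    (y := ((⟨x, hx⟩ : N) : N ⧸ K')) fun e => hxK ((QuotientGroup.eq_one_iff (⟨x, hx⟩ : N)).1 e)
  set ω : N →* ℂ := l.comp (QuotientGroup.mk' K')
  have hω : Triv ω := fun n hn => by
    show l (n : N ⧸ K') = 1
    rw [(QuotientGroup.eq_one_iff n).2 hn, map_one]
  have h1ω : Triv 1 := fun n _ => rfl
  have hne : ω ≠ 1 := fun e => hl (DFunLike.congr_fun e ⟨x, hx⟩)
  obtain ⟨g, hg, hgN⟩ := hbig 1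
  obtain ⟨k, hk, hkN⟩ := hbig ω
  -- `g` moves the second twist to another twist fixed by `k`
  let c : N ≃* N := MulAut.conjNormal g
  let ω' : N →* ℂ := ω.comp c.toMonoidHom
  have hω' : Triv ω' := fun n hn => hω _ (by simpa [c] using hs.K_normal.conj_mem _ hn g)
  have htw1 : ∀ n, tw 1 n = (θ : N → ℂ) n := fun n => by simp [tw]
  have hθg : ∀ n, (θ : N → ℂ) (c n) = (θ : N → ℂ) n := fun n => by
    have := (mem_inertia_iff N).1 hg n
    rw [htw1, htw1] at this
    rw [← this]
    exact congrArg _ (Subtype.ext (MulAut.conjNormal_apply _ _))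
  haveI hIn : (inertia N (tw ω)).Normal :=
    normal_of_le hs.comm_le (le_inertia N (IsIrrCharacter.isClassFunction (htw ω)))
  have hk' : k ∈ inertia N (tw ω') := by
    have hk2 : g * k * g⁻¹ ∈ inertia N (tw ω) := hIn.conj_mem k hk g
    rw [mem_inertia_iff] at hk2 ⊢
    intro n
    have hh := hk2 (c n)
    simp only [tw, ω', MonoidHom.comp_apply, MulEquiv.coe_toMonoidHom] at hh ⊢
    rw [← hθg ⟨k * n * k⁻¹, _⟩, ← hθg n]
    have e : (⟨g * k * g⁻¹ * (c n : N) * (g * k * g⁻¹)⁻¹,
        hs.N_normal.conj_mem _ (c n).2 _⟩ : N) = c ⟨k * n * k⁻¹, hs.N_normal.conj_mem n n.2 k⟩ :=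
      Subtype.ext (by simp only [c, MulAut.conjNormal_apply]; group)
    rw [← e]
    exact hh
  have heq := huniq k hkN ω ω' hω hω' hk hk'
  have hgω : g ∈ inertia N (tw ω) := by
    rw [mem_inertia_iff]
    intro n
    have e : c n = ⟨g * n * g⁻¹, hs.N_normal.conj_mem n n.2 g⟩ :=
      Subtype.ext (MulAut.conjNormal_apply _ _)
    rw [← e]
    show (θ : N → ℂ) (c n) * ω (c n) = (θ : N → ℂ) n * ω n
    rw [hθg, show ω (c n) = ω n from (DFunLike.congr_fun heq n).symm]
  exact hne (huniq g hgN ω 1 hω h1ω hgω hg)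

/-- Every degree is the index of the kernel or divisible by `q`. -/
theorem NoDiv.eq_or_dvd [Group.IsSolvable G] (h : NoDiv G) {K N : Subgroup G} {q : ℕ}
    (hs : FrobSection G N.index K N q) (hf1 : N.index ≠ 1) (χf : IrrCharacter G)
    (hχf : charDegree (χf : G → ℂ) = N.index)
    (χ : IrrCharacter G) (hχ : charDegree (χ : G → ℂ) ≠ 1) :
    charDegree (χ : G → ℂ) = N.index ∨ q ∣ charDegree (χ : G → ℂ) := by
  classical
  haveI := hs.N_normal
  haveI := Fintype.ofFinite G
  haveI := Fintype.ofFinite N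
  obtain ⟨θ, hθ⟩ := exists_constituent (IsCharacter.restrict (IsIrrCharacter.isCharacter χ.2) N)
    (by rw [OneMemClass.coe_one]; exact IsIrrCharacter.apply_one_ne_zero χ.2)
  by_cases hθ1 : charDegree (θ : N → ℂ) = 1
  · left
    have h1 := ThreeDegrees.dvd_mul_index N χ.2 θ.2 hθ
    rw [hθ1, one_mul] at h1
    exact (h.eq_of_dvd hχ (χ' := χf) (hχf ▸ h1)).trans hχf
  · exact Or.inr ((h.dvd_of_frobSection hs hf1 χf hχf θ hθ1).trans (degree_dvd_of_over N χ.2 θ.2 hθ))

end Cfsg.Agent.NoDivDeg
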