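/-
Characters over invariant linear characters of normal subgroups; commutator pairings.

Main results: `val`, `central`, `separation`, `exists_ext`, `apply_mul_of_over`, `eq_zero_of_pair`,
`deg_sq_radical`, `deg_sq_of_vanish`, `eq_of_common`, `fixed_of_iterate`, `card_eq_of_pairing`.
-/
import Cfsg.Agent.Lib.NoDivDeg.Twists
import Cfsg.Agent.Lib.FullyRamified.Basic

set_option autoImplicit false
set_option linter.style.haveILetI false

namespace Cfsg.Agent.NoDivDeg

open Cfsg Cfsg.Agent.Char Cfsg.Agent.CharApp Cfsg.Agent.CharApp.DegreeSets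
open Cfsg.Agent.Codegree (kerSub mem_kerSub)
open scoped ComplexConjugate commutatorElement

universe u

variable {X : Type u} [Group X]

open Classical in
/-- The value of a character of a subgroup, extended by `1`. -/
noncomputable def val {J : Subgroup X} (ν : J →* ℂˣ) (x : X) : ℂˣ :=
  if h : x ∈ J then ν ⟨x, h⟩ else 1

section val

variable {J : Subgroup X} (ν : J →* ℂˣ)

theorem val_coe (j : J) : val ν (j : X) = ν j := by rw [val, dif_pos j.2]

theorem val_of_mem {x : X} (h : x ∈ J) : val ν x = ν ⟨x, h⟩ := val_coe ν ⟨x, h⟩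

theorem val_one : val ν 1 = 1 := by rw [val_of_mem ν J.one_mem]; exact map_one ν

theorem val_mul {x y : X} (hx : x ∈ J) (hy : y ∈ J) : val ν (x * y) = val ν x * val ν y := by
  rw [val_of_mem ν hx, val_of_mem ν hy, val_of_mem ν (J.mul_mem hx hy), ← map_mul]; rfl

theorem val_inv {x : X} (hx : x ∈ J) : val ν x⁻¹ = (val ν x)⁻¹ := by
  rw [val_of_mem ν hx, val_of_mem ν (J.inv_mem hx), ← map_inv]; rfl

theorem val_pow {x : X} (hx : x ∈ J) (n : ℕ) : val ν (x ^ n) = val ν x ^ n := by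
  rw [val_of_mem ν hx, val_of_mem ν (J.pow_mem hx n), ← map_pow]; rfl

theorem eq_one_of_val {ν : J →* ℂˣ} (h : ∀ x ∈ J, val ν x = 1) : ν = 1 :=
  MonoidHom.ext fun j => (val_coe ν j).symm.trans (h j j.2)

theorem exists_val_ne {ν : J →* ℂˣ} (h : ν ≠ 1) : ∃ x ∈ J, val ν x ≠ 1 := by
  by_contra hh
  push Not at hh
  exact h (eq_one_of_val hh)

end val

/-- The invariant linear characters of a normal subgroup. -/
def central (J : Subgroup X) [J.Normal] : Subgroup (J →* ℂˣ) where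
  carrier := {ν | ∀ (x : X) (j : J), ν (MulAut.conjNormal x j) = ν j}
  one_mem' := fun _ _ => rfl
  mul_mem' := fun {a b} ha hb x j => by rw [MonoidHom.mul_apply, MonoidHom.mul_apply, ha x j, hb x j]
  inv_mem' := fun {a} ha x j => by rw [MonoidHom.inv_apply, MonoidHom.inv_apply, ha x j]

section pairing

variable {J : Subgroup X} [hJ : J.Normal] {ν : J →* ℂˣ}

theorem val_conj (hν : ν ∈ central J) (w : X) {x : X} (hx : x ∈ J) :
    val ν (w * x * w⁻¹) = val ν x := by
  rw [val_of_mem ν hx, val_of_mem ν (hJ.conj_mem x hx w), ← hν w ⟨x, hx⟩]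
  exact congrArg ν (Subtype.ext (MulAut.conjNormal_apply w ⟨x, hx⟩).symm)

theorem val_bracket_self (hν : ν ∈ central J) (w : X) {j : X} (hj : j ∈ J) :
    val ν ⁅j, w⁆ = 1 ∧ val ν ⁅w, j⁆ = 1 := by
  constructor
  · rw [commutatorElement_def, show j * w * j⁻¹ * w⁻¹ = j * (w * j⁻¹ * w⁻¹) by group,
      val_mul ν hj (hJ.conj_mem _ (J.inv_mem hj) w), val_conj hν w (J.inv_mem hj), val_inv ν hj,
      mul_inv_cancel]
  · rw [commutatorElement_def, val_mul ν (hJ.conj_mem _ hj w) (J.inv_mem hj), val_conj hν w hj,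
      val_inv ν hj, mul_inv_cancel]

theorem pair_mul_left (hν : ν ∈ central J) {a a' b : X} (h : ⁅a, b⁆ ∈ J) (h' : ⁅a', b⁆ ∈ J) :
    val ν ⁅a * a', b⁆ = val ν ⁅a, b⁆ * val ν ⁅a', b⁆ := by
  have e : ⁅a * a', b⁆ = (a * ⁅a', b⁆ * a⁻¹) * ⁅a, b⁆ := by simp only [commutatorElement_def]; group
  rw [e, val_mul ν (hJ.conj_mem _ h' a) h, val_conj hν a h', mul_comm]

theorem pair_swap (ν : J →* ℂˣ) {a b : X} (h : ⁅a, b⁆ ∈ J) : val ν ⁅b, a⁆ = (val ν ⁅a, b⁆)⁻¹ := by
  rw [← val_inv ν h, commutatorElement_inv]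

theorem bracket_swap_mem {a b : X} (h : ⁅a, b⁆ ∈ J) : ⁅b, a⁆ ∈ J := by
  rw [← commutatorElement_inv]
  exact J.inv_mem h

theorem pair_mul_right (hν : ν ∈ central J) {a b b' : X} (h : ⁅a, b⁆ ∈ J) (h' : ⁅a, b'⁆ ∈ J) :
    val ν ⁅a, b * b'⁆ = val ν ⁅a, b⁆ * val ν ⁅a, b'⁆ := by
  have e : ⁅a, b * b'⁆ = ⁅a, b⁆ * (b * ⁅a, b'⁆ * b⁻¹) := by simp only [commutatorElement_def]; group
  rw [e, val_mul ν h (hJ.conj_mem _ h' b), val_conj hν b h']

/-- The elements pairing trivially against a subgroup. -/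
def leftKer (hν : ν ∈ central J) (H K : Subgroup X) (hb : ∀ a ∈ H, ∀ b ∈ K, ⁅a, b⁆ ∈ J) : Subgroup X where
  carrier := {a | a ∈ H ∧ ∀ b ∈ K, val ν ⁅a, b⁆ = 1}
  one_mem' := ⟨H.one_mem, fun b _ => by rw [commutatorElement_one_left, val_one]⟩
  mul_mem' := fun {a a'} ha ha' => ⟨H.mul_mem ha.1 ha'.1, fun b hbK => by
    rw [pair_mul_left hν (hb a ha.1 b hbK) (hb a' ha'.1 b hbK), ha.2 b hbK, ha'.2 b hbK, one_mul]⟩
  inv_mem' := fun {a} ha => ⟨H.inv_mem ha.1, fun b hbK => by
    have h1 := pair_mul_left hν (hb a⁻¹ (H.inv_mem ha.1) b hbK) (hb a ha.1 b hbK)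
    rw [inv_mul_cancel, commutatorElement_one_left, val_one, ha.2 b hbK, mul_one] at h1
    exact h1.symm⟩

theorem mem_leftKer (hν : ν ∈ central J) {H K : Subgroup X} (hb : ∀ a ∈ H, ∀ b ∈ K, ⁅a, b⁆ ∈ J) {a : X} :
    a ∈ leftKer hν H K hb ↔ a ∈ H ∧ ∀ b ∈ K, val ν ⁅a, b⁆ = 1 := Iff.rfl

theorem pair_pow_left (hν : ν ∈ central J) (H : Subgroup X) {b : X} (hb : ∀ a ∈ H, ⁅a, b⁆ ∈ J) {a : X}
    (ha : a ∈ H) (n : ℕ) : val ν ⁅a ^ n, b⁆ = val ν ⁅a, b⁆ ^ n := by
  induction n with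
  | zero => rw [pow_zero, pow_zero, commutatorElement_one_left, val_one]
  | succ n ih => rw [pow_succ, pair_mul_left hν (hb _ (H.pow_mem ha n)) (hb a ha), ih, pow_succ]

theorem pair_mem_left (hν : ν ∈ central J) {a b c : X} (hc : c ∈ J) (h : ⁅a, b⁆ ∈ J) :
    val ν ⁅c * a, b⁆ = val ν ⁅a, b⁆ := by
  have hcb : ⁅c, b⁆ ∈ J := by
    rw [commutatorElement_def, show c * b * c⁻¹ * b⁻¹ = c * (b * c⁻¹ * b⁻¹) by group]
    exact J.mul_mem hc (hJ.conj_mem _ (J.inv_mem hc) b)
  rw [pair_mul_left hν hcb h, (val_bracket_self hν b hc).1, one_mul]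

/-- The conjugation action on an element of `J` in terms of the pairing. -/
theorem apply_conj (ν : J →* ℂˣ) {w r : X} (h : ⁅w, r⁆ ∈ J) (hr : r ∈ J) :
    val ν (w * r * w⁻¹) = val ν ⁅w, r⁆ * val ν r := by
  rw [← val_mul ν h hr, commutatorElement_def]
  congr 1
  group

variable [Finite X]

/-- Invariant linear characters separate a central layer. -/
theorem separation {J' : Subgroup X} [J'.Normal] (hc : ∀ j ∈ J, ∀ w : X, ⁅j, w⁆ ∈ J')
    {x : X} (hx : x ∈ J) (h : ∀ μ ∈ central J, (∀ y ∈ J', y ∈ J → val μ y = 1) → val μ x = 1) :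
    x ∈ J' := by
  by_contra hx'
  have hab : ∀ u v : J ⧸ J'.subgroupOf J, u * v = v * u := by
    intro u v
    induction u using QuotientGroup.induction_on with
    | H u => induction v using QuotientGroup.induction_on with
      | H v =>
        rw [← QuotientGroup.mk_mul, ← QuotientGroup.mk_mul, QuotientGroup.eq, Subgroup.mem_subgroupOf]
        simpa [commutatorElement_def, mul_assoc] using hc _ (J.inv_mem v.2) (u : X)⁻¹
  obtain ⟨l, hl⟩ := TwoDegrees.exists_linear_sep hab (y := ((⟨x, hx⟩ : J) : J ⧸ J'.subgroupOf J))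
    fun e => hx' ((QuotientGroup.eq_one_iff (⟨x, hx⟩ : J)).1 e)
  let μ : J →* ℂˣ := (l.comp (QuotientGroup.mk' _)).toHomUnits
  refine hl ?_
  have hμ : μ ∈ central J := fun w j => Units.ext (by
    show l ((MulAut.conjNormal w j : J) : J ⧸ J'.subgroupOf J) = l ((j : J) : J ⧸ J'.subgroupOf J)
    congr 1
    rw [QuotientGroup.eq, Subgroup.mem_subgroupOf]
    have h1 := (inferInstance : J'.Normal).conj_mem _ (hc _ (J.inv_mem j.2) w) 1
    have h2 := J'.inv_mem h1
    simp only [Subgroup.coe_mul, InvMemClass.coe_inv, MulAut.conjNormal_apply]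
    simpa [commutatorElement_def, mul_assoc] using h2)
  have := h μ hμ fun y hy hyJ => Units.ext (by
    rw [val_of_mem μ hyJ]
    show l ((⟨y, hyJ⟩ : J) : J ⧸ J'.subgroupOf J) = 1
    rw [(QuotientGroup.eq_one_iff (⟨y, hyJ⟩ : J)).2 hy, map_one])
  rw [val_of_mem μ hx] at this
  exact congrArg Units.val this

end pairing

/-- A nondegenerate pairing of finite groups into roots of unity: equal orders. -/
theorem card_eq_of_pairing {A B : Type*} [CommGroup A] [Finite A] [CommGroup B] [Finite B]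
    (P : A → B → ℂˣ) (hl : ∀ a a' b, P (a * a') b = P a b * P a' b)
    (hr : ∀ a b b', P a (b * b') = P a b * P a b') (hA : ∀ a, (∀ b, P a b = 1) → a = 1)
    (hB : ∀ b, (∀ a, P a b = 1) → b = 1) : Nat.card A = Nat.card B := by
  let φ : A →* (B →* ℂˣ) :=
    { toFun := fun a => MonoidHom.mk' (P a) (hr a)
      map_one' := MonoidHom.ext fun b => mul_eq_left.1 ((hl 1 1 b).symm.trans (by rw [one_mul]))
      map_mul' := fun a a' => MonoidHom.ext fun b => hl a a' b }
  let ψ : B →* (A →* ℂˣ) :=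
    { toFun := fun b => MonoidHom.mk' (fun a => P a b) fun a a' => hl a a' b
      map_one' := MonoidHom.ext fun a => mul_eq_left.1 ((hr a 1 1).symm.trans (by rw [one_mul]))
      map_mul' := fun b b' => MonoidHom.ext fun a => hr a b b' }
  have hφ : Function.Injective φ := (injective_iff_map_eq_one φ).2 fun a ha => hA a (DFunLike.congr_fun ha)
  have hψ : Function.Injective ψ := (injective_iff_map_eq_one ψ).2 fun b hb => hB b (DFunLike.congr_fun hb)
  haveI : NeZero (Monoid.exponent A) := ⟨Monoid.exponent_ne_zero_of_finite⟩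
  haveI : NeZero ((Monoid.exponent A : ℕ) : ℂ) := ⟨Nat.cast_ne_zero.2 (NeZero.ne _)⟩
  haveI : NeZero (Monoid.exponent B) := ⟨Monoid.exponent_ne_zero_of_finite⟩
  haveI : NeZero ((Monoid.exponent B : ℕ) : ℂ) := ⟨Nat.cast_ne_zero.2 (NeZero.ne _)⟩
  exact le_antisymm
    ((Nat.card_le_card_of_injective φ hφ).trans_eq (CommGroup.card_monoidHom_of_hasEnoughRootsOfUnity B ℂ))
    ((Nat.card_le_card_of_injective ψ hψ).trans_eq (CommGroup.card_monoidHom_of_hasEnoughRootsOfUnity A ℂ))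

section characters

variable [Finite X] {θ : X → ℂ} (hθ : IsIrrCharacter X θ)
include hθ

/-- A linear constituent of the restriction to `H` when the derived subgroup of `H` is in the kernel of `ν`. -/
theorem exists_linear_constituent {J H : Subgroup X} [H.Normal] [Fintype H] (ν : J →* ℂˣ)
    (hHJ : ∀ a ∈ H, ∀ b ∈ H, ⁅a, b⁆ ∈ J ∧ val ν ⁅a, b⁆ = 1)
    (hres : ∀ j ∈ J, θ j = θ 1 * (val ν j : ℂ)) :
    ∃ τ : H →* ℂˣ, classInner (fun h : H => θ h) (fun h : H => (τ h : ℂ)) ≠ 0 := by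
  obtain ⟨η, hη⟩ := exists_constituent (IsCharacter.restrict (IsIrrCharacter.isCharacter hθ) H)
    (by rw [OneMemClass.coe_one]; exact IsIrrCharacter.apply_one_ne_zero hθ)
  haveI := Fintype.ofFinite X
  have hdeg : charDegree (η : H → ℂ) = 1 :=
    ThreeDegrees.deg_one_of_commutator_le_kerSub H ⟨θ, hθ⟩ η hη (Subgroup.commutator_le.2 fun a ha b hb => by
      rw [mem_kerSub]
      show θ _ = θ 1
      rw [hres _ (hHJ a ha b hb).1, (hHJ a ha b hb).2, Units.val_one, mul_one])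
  obtain ⟨l, hl⟩ := exists_hom_of_degree_one (IsIrrCharacter.isCharacter η.2)
    (by rw [apply_one η.2, hdeg, Nat.cast_one])
  refine ⟨l.toHomUnits, ?_⟩
  rw [show (fun h : H => ((l.toHomUnits h : ℂˣ) : ℂ)) = (η : H → ℂ) from by rw [← hl]; rfl]
  exact hη

/-- Elements of `J` act as scalars. -/
theorem apply_mul_of_over {J : Subgroup X} [J.Normal] {ν : J →* ℂˣ} (hν : ν ∈ central J)
    (hres : ∀ j ∈ J, θ j = θ 1 * (val ν j : ℂ)) {j : X} (hj : j ∈ J) (x : X) :
    θ (j * x) = (val ν j : ℂ) * θ x := by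
  obtain ⟨n, ρ, hρ, rfl⟩ := hθ
  haveI := CharApp.nontrivial_of_irr ρ
  have hone : ρ.character 1 = (Module.finrank ℂ (Fin n → ℂ) : ℂ) := Representation.char_one ρ
  have hker : ∀ w : X, ρ ⁅j, w⁆ = LinearMap.id := fun w => by
    have hJn : J.Normal := inferInstance
    refine (Char.character_eq_finrank_iff ρ _).1 ?_
    rw [hres _ (by
      rw [commutatorElement_def, show j * w * j⁻¹ * w⁻¹ = j * (w * j⁻¹ * w⁻¹) by group]
      exact J.mul_mem hj (hJn.conj_mem _ (J.inv_mem hj) w)), (val_bracket_self hν w hj).1, Units.val_one,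
      mul_one, hone]
  obtain ⟨c, hc⟩ := exists_scalar_of_commute ρ (ρ j) fun w => by
    rw [← map_mul, ← map_mul, show j * w = ⁅j, w⁆ * (w * j) by rw [commutatorElement_def]; group,
      map_mul, hker, ← Module.End.one_eq_id, one_mul]
  have h1 := hres j hj
  rw [hone, Representation.character, hc, map_smul, LinearMap.trace_one, smul_eq_mul,
    mul_comm] at h1
  have hcν : c = (val ν j : ℂ) :=
    mul_left_cancel₀ (CharApp.finrank_cast_ne_zero ρ) h1
  show LinearMap.trace ℂ _ (ρ (j * x)) = _ * LinearMap.trace ℂ _ (ρ x)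
  rw [map_mul, hc, smul_mul_assoc, one_mul, map_smul, hcν, smul_eq_mul]

/-- Vanishing at elements with a nontrivial pairing. -/
theorem eq_zero_of_pair {J : Subgroup X} [J.Normal] {ν : J →* ℂˣ} (hν : ν ∈ central J)
    (hres : ∀ j ∈ J, θ j = θ 1 * (val ν j : ℂ)) {x w : X} (h : ⁅w, x⁆ ∈ J) (hne : val ν ⁅w, x⁆ ≠ 1) :
    θ x = 0 := by
  have h1 : θ (w * x * w⁻¹) = θ x := IsIrrCharacter.isClassFunction hθ x w
  rw [show w * x * w⁻¹ = ⁅w, x⁆ * x by rw [commutatorElement_def]; group,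
    apply_mul_of_over hθ hν hres h x] at h1
  by_contra hx
  exact hne (Units.ext (mul_right_cancel₀ hx (h1.trans (one_mul _).symm)))

/-- Degree of a character vanishing off `H` over a linear constituent. -/
theorem deg_sq_of_vanish {H : Subgroup X} [H.Normal] [Fintype H] (hvan : ∀ x ∉ H, θ x = 0)
    (τ : H →* ℂˣ) (hτ : classInner (fun h : H => θ h) (fun h : H => (τ h : ℂ)) ≠ 0) :
    charDegree θ ^ 2 = (inertia H (fun h : H => (τ h : ℂ))).index * H.index := by
  haveI := Fintype.ofFinite X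
  have hτi : IsIrrCharacter H (fun h : H => (τ h : ℂ)) := isIrrCharacter_of_hom ((Units.coeHom ℂ).comp τ)
  obtain ⟨e, -, -, hdeg, hself⟩ := degree_over H hθ hτi hτ
  set n := (inertia H (fun h : H => (τ h : ℂ))).index
  rw [show charDegree (fun h : H => (τ h : ℂ)) = 1 by simp [charDegree], mul_one] at hdeg
  have h1 : (Nat.card H : ℂ) * classInner (fun h : H => θ h) (fun h : H => θ h) = (Nat.card X : ℂ) := by
    rw [Char.card_mul_classInner, ← FullyRamified.sum_self hθ,
      FullyRamified.sum_eq_sum_of_support H (fun x => θ x * conj (θ x))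
        (fun x hx => by rw [hvan x hx, zero_mul])]
  rw [hself, ← H.card_mul_index] at h1
  push_cast at h1
  have h2 := mul_left_cancel₀ (Nat.cast_ne_zero.2 (Nat.card_pos (α := H)).ne') h1
  have h3 : e ^ 2 * n = H.index := by exact_mod_cast h2
  rw [hdeg, ← h3]
  ring

/-- Two characters vanishing off `H` with a common linear constituent are equal. -/
theorem eq_of_common {θ' : X → ℂ} (hθ' : IsIrrCharacter X θ') {H : Subgroup X} [H.Normal] [Fintype H]
    (hvan : ∀ x ∉ H, θ x = 0) (τ : H →* ℂˣ)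
    (hτ : classInner (fun h : H => θ h) (fun h : H => (τ h : ℂ)) ≠ 0)
    (hτ' : classInner (fun h : H => θ' h) (fun h : H => (τ h : ℂ)) ≠ 0) : θ = θ' := by
  classical
  haveI := Fintype.ofFinite X
  have hτi : IsIrrCharacter H (fun h : H => (τ h : ℂ)) := isIrrCharacter_of_hom ((Units.coeHom ℂ).comp τ)
  by_contra hne
  have h0 : classInner (fun h : H => θ h) (fun h : H => θ' h) = 0 := by
    have h1 : (Nat.card X : ℂ) * classInner θ θ' =
        (Nat.card H : ℂ) * classInner (fun h : H => θ h) (fun h : H => θ' h) := by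
      rw [Char.card_mul_classInner, Char.card_mul_classInner]
      exact FullyRamified.sum_eq_sum_of_support H (fun x => θ x * conj (θ' x))
        (fun x hx => by rw [hvan x hx, zero_mul])
    rw [classInner_irr_of_ne hθ hθ' hne, mul_zero] at h1
    exact (mul_eq_zero.1 h1.symm).resolve_left (Nat.cast_ne_zero.2 Nat.card_pos.ne')
  haveI := Fintype.ofFinite (IrrCharacter H)
  obtain ⟨c, -, hc⟩ := IsCharacter.decompose (IsCharacter.restrict (IsIrrCharacter.isCharacter hθ) H)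
  obtain ⟨c', hc', hin'⟩ :=
    IsCharacter.decompose (IsCharacter.restrict (IsIrrCharacter.isCharacter hθ') H)
  rw [hc', classInner_sum_right] at h0
  simp only [classInner_smul_right, hc, Complex.conj_natCast] at h0
  have h2 : ((∑ φ : IrrCharacter H, c' φ * c φ : ℕ) : ℂ) = 0 := by
    push_cast
    exact h0
  have h3 := Finset.sum_eq_zero_iff.1 (Nat.cast_eq_zero.1 h2) ⟨_, hτi⟩ (Finset.mem_univ _)
  rcases mul_eq_zero.1 h3 with h | h
  · exact hτ' (by rw [hin' ⟨_, hτi⟩, h, Nat.cast_zero])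
  · exact hτ (by rw [hc ⟨_, hτi⟩, h, Nat.cast_zero])

/-- A linear constituent extends `ν`. -/
theorem constituent_val {J H : Subgroup X} [J.Normal] [Fintype H] {ν : J →* ℂˣ} (hν : ν ∈ central J)
    (hres : ∀ j ∈ J, θ j = θ 1 * (val ν j : ℂ)) (hJH : J ≤ H) (τ : H →* ℂˣ)
    (hτ : classInner (fun h : H => θ h) (fun h : H => (τ h : ℂ)) ≠ 0) {j : X} (hj : j ∈ J) :
    τ ⟨j, hJH hj⟩ = val ν j := by
  set j' : H := ⟨j, hJH hj⟩
  have h1 : classInner (fun h : H => θ h) (fun h : H => (τ h : ℂ)) =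
      ((val ν j : ℂ) * conj (τ j' : ℂ)) * classInner (fun h : H => θ h) (fun h : H => (τ h : ℂ)) := by
    simp only [classInner, Finset.mul_sum]
    refine (Fintype.sum_equiv (Equiv.mulLeft j') _ _ fun h => ?_).symm
    simp only [Equiv.coe_mulLeft, Subgroup.coe_mul, map_mul, Units.val_mul]
    rw [apply_mul_of_over hθ hν hres hj]
    ring
  have h2 : (val ν j : ℂ) * conj (τ j' : ℂ) = 1 := mul_right_cancel₀ hτ (h1.symm.trans (one_mul _).symm)
  have h3 : (τ j' : ℂ) * conj (τ j' : ℂ) = 1 := by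
    have h4 := IsCharacter.apply_inv (isCharacter_of_hom ((Units.coeHom ℂ).comp τ)) j'
    simp only [MonoidHom.comp_apply, Units.coeHom_apply] at h4
    rw [← h4, ← Units.val_mul, ← map_mul, mul_inv_cancel, map_one, Units.val_one]
  refine Units.ext (mul_right_cancel₀ (b := conj (τ j' : ℂ)) ?_ (h3.trans h2.symm))
  exact right_ne_zero_of_mul (a := (τ j' : ℂ)) (by rw [h3]; exact one_ne_zero)

/-- A nonlinear character over a character of a subgroup with abelian-like quotient: degree and support. -/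
theorem deg_sq_radical {J : Subgroup X} [J.Normal] {ν : J →* ℂˣ} (hν : ν ∈ central J)
    (hX : ∀ a b : X, ⁅a, b⁆ ∈ J) (hres : ∀ j ∈ J, θ j = θ 1 * (val ν j : ℂ)) :
    charDegree θ ^ 2 = (leftKer hν ⊤ ⊤ (fun a _ b _ => hX a b)).index ∧
      (∀ x ∉ leftKer hν ⊤ ⊤ (fun a _ b _ => hX a b), θ x = 0) ∧
      ∀ x ∈ leftKer hν ⊤ ⊤ (fun a _ b _ => hX a b), θ x ≠ 0 := by
  set R := leftKer hν ⊤ ⊤ (fun a _ b _ => hX a b)
  haveI : R.Normal := ⟨fun r hr g => by
    refine ⟨Subgroup.mem_top _, fun b _ => ?_⟩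
    rw [show g * r * g⁻¹ = ⁅g, r⁆ * r by rw [commutatorElement_def]; group,
      pair_mem_left hν (hX g r) (hX r b), hr.2 b (Subgroup.mem_top b)]⟩
  haveI := Fintype.ofFinite R
  haveI := Fintype.ofFinite X
  have hvan : ∀ x ∉ R, θ x = 0 := fun x hx => by
    obtain ⟨b, hb⟩ : ∃ b, val ν ⁅x, b⁆ ≠ 1 := by
      by_contra hall
      push Not at hall
      exact hx ⟨Subgroup.mem_top _, fun b _ => hall b⟩
    exact eq_zero_of_pair hθ hν hres (hX b x) (by rw [pair_swap ν (hX x b)]; simpa using hb)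
  obtain ⟨τ, hτ⟩ := exists_linear_constituent hθ ν
    (fun a ha b _ => ⟨hX a b, ha.2 b (Subgroup.mem_top b)⟩) hres (H := R)
  have hτi : IsIrrCharacter R (fun h : R => (τ h : ℂ)) := isIrrCharacter_of_hom ((Units.coeHom ℂ).comp τ)
  have hinv : ∀ w : X, CliffordChar.conjFun R w (fun h : R => (τ h : ℂ)) = fun h : R => (τ h : ℂ) := by
    intro w
    funext r
    rw [CliffordChar.conjFun_apply]
    have hJR : J ≤ R := fun j hj => ⟨Subgroup.mem_top _, fun b _ => (val_bracket_self hν b hj).1⟩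
    have hker : τ ⟨⁅w⁻¹, (r : X)⁆, hJR (hX _ _)⟩ = 1 := by
      rw [constituent_val hθ hν hres hJR τ hτ (hX _ _), pair_swap ν (hX _ _), r.2.2 w⁻¹ (Subgroup.mem_top _),
        inv_one]
    refine congrArg Units.val ?_
    rw [← one_mul (τ r), ← hker, ← map_mul]
    refine congrArg τ (Subtype.ext ?_)
    simp only [Subgroup.coe_mul, commutatorElement_def]
    group
  refine ⟨?_, hvan, ?_⟩
  · rw [deg_sq_of_vanish hθ hvan τ hτ,
      show inertia R (fun h : R => (τ h : ℂ)) = ⊤ from (Subgroup.eq_top_iff' _).2 hinv,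
      Subgroup.index_top, one_mul]
  · intro x hx
    have h1 := congrFun (restrict_invariant R hθ hτi hτ hinv) ⟨x, hx⟩
    simp only [Pi.smul_apply, smul_eq_mul] at h1
    rw [h1]
    exact mul_ne_zero hτ (Units.ne_zero _)

end characters

end Cfsg.Agent.NoDivDeg
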