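/-
The combinatorics of three consecutive layers with bracket maps.

Main results: `Layers3`, `Layers3.card_sq`, `Layers3.card_perp`, `Layers3.two_mul_card_ann`,
`Layers3.card_ann_le_imp`, `Layers3.card_lt`, `Layers3.false_of_next`.
-/
import Cfsg.Agent.Lib.NoDivDeg.Pencil
import Cfsg.Agent.Lib.NoDivDeg.QBase

set_option autoImplicit false
set_option linter.style.haveILetI false

namespace Cfsg.Agent.NoDivDeg

universe u v w

theorem card_dual (A : Type*) [CommGroup A] [Finite A] : Nat.card (A →* ℂˣ) = Nat.card A := by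
  haveI : NeZero (Monoid.exponent A) := ⟨Monoid.exponent_ne_zero_of_finite⟩
  haveI : NeZero ((Monoid.exponent A : ℕ) : ℂ) := ⟨Nat.cast_ne_zero.2 (NeZero.ne _)⟩
  exact CommGroup.card_monoidHom_of_hasEnoughRootsOfUnity A ℂ

theorem exists_dual_ne {A : Type*} [CommGroup A] [Finite A] {a : A} (ha : a ≠ 1) :
    ∃ l : A →* ℂˣ, l a ≠ 1 := by
  obtain ⟨l, hl⟩ := Cfsg.Agent.CharApp.TwoDegrees.exists_linear_sep (A := A) mul_comm ha
  exact ⟨l.toHomUnits, fun e => hl (congrArg Units.val e)⟩

theorem exists_dual_ker {A : Type*} [CommGroup A] [Finite A] (S : Subgroup A) {a : A} (ha : a ∉ S) :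
    ∃ l : A →* ℂˣ, (∀ s ∈ S, l s = 1) ∧ l a ≠ 1 := by
  obtain ⟨l, hl⟩ := exists_dual_ne (a := (a : A ⧸ S)) fun e => ha ((QuotientGroup.eq_one_iff a).1 e)
  exact ⟨l.comp (QuotientGroup.mk' S), fun s hs => by
    show l (s : A ⧸ S) = 1
    rw [(QuotientGroup.eq_one_iff s).2 hs, map_one], hl⟩

/-- A family of disjoint subgroups indexed by subgroups of one order. -/
theorem card_le_of_cover {T S : Type*} [CommGroup T] [Finite T] [CommGroup S] [Finite S]
    (f : T → Subgroup S) (n k : ℕ) (hn : ∀ t, t ≠ 1 → Nat.card (f t) = n)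
    (hdisj : ∀ t t', t ≠ 1 → t' ≠ 1 → ∀ s, s ≠ 1 → s ∈ f t → s ∈ f t' → f t = f t')
    (hk : ∀ t, t ≠ 1 → Nat.card {t' : T // t' ≠ 1 ∧ f t' = f t} ≤ k) :
    (n - 1) * (Nat.card T - 1) ≤ (Nat.card S - 1) * k := by
  classical
  haveI := Fintype.ofFinite T
  haveI := Fintype.ofFinite S
  set T0 := Finset.univ.filter fun t : T => t ≠ 1
  set I := T0.image f
  have hT0 : T0.card = Nat.card T - 1 := by
    rw [Nat.card_eq_fintype_card, show T0 = Finset.univ.erase 1 by ext; simp [T0],
      Finset.card_erase_of_mem (Finset.mem_univ _), Finset.card_univ]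
  have h1 : T0.card ≤ k * I.card := by
    refine Finset.card_le_mul_card_image T0 k fun L hL => ?_
    obtain ⟨t, ht, rfl⟩ := Finset.mem_image.1 hL
    refine le_trans (le_of_eq ?_) (hk t (by simpa [T0] using ht))
    rw [Nat.card_eq_fintype_card, Fintype.card_subtype]
    congr 1
    ext t'
    simp [T0]
  have h2 : (n - 1) * I.card ≤ Nat.card S - 1 := by
    rw [Nat.card_eq_fintype_card, ← Finset.card_univ, ← Finset.card_erase_of_mem (Finset.mem_univ (1 : S))]
    let part : Subgroup S → Finset S := fun L => Finset.univ.filter fun s => s ∈ L ∧ s ≠ 1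
    have hpart : ∀ L ∈ I, (part L).card = n - 1 := fun L hL => by
      obtain ⟨t, ht, rfl⟩ := Finset.mem_image.1 hL
      have e : part (f t) = (Finset.univ.filter fun s => s ∈ f t).erase 1 := by
        ext s; simp [part, and_comm]
      rw [e, Finset.card_erase_of_mem (by simp), ← Fintype.card_subtype, ← Nat.card_eq_fintype_card,
        hn t (by simpa [T0] using ht)]
    have hd : (I : Set (Subgroup S)).PairwiseDisjoint part := by
      intro L hL L' hL' hne
      rw [Function.onFun, Finset.disjoint_left]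
      intro s hs hs'
      obtain ⟨t, ht, rfl⟩ := Finset.mem_image.1 hL
      obtain ⟨t', ht', rfl⟩ := Finset.mem_image.1 hL'
      simp only [part, Finset.mem_filter, Finset.mem_univ, true_and] at hs hs'
      exact hne (hdisj t t' (by simpa [T0] using ht) (by simpa [T0] using ht') s hs.2 hs.1 hs'.1)
    calc (n - 1) * I.card = ∑ L ∈ I, (part L).card := by
          rw [Finset.sum_congr rfl hpart, Finset.sum_const, smul_eq_mul, mul_comm]
      _ = (I.biUnion part).card := (Finset.card_biUnion hd).symm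
      _ ≤ _ := Finset.card_le_card fun s hs => by
          simp only [Finset.mem_biUnion, part, Finset.mem_filter] at hs
          obtain ⟨L, -, -, -, hs⟩ := hs
          simp [hs]
  calc (n - 1) * (Nat.card T - 1) ≤ (n - 1) * (k * I.card) := by
        rw [← hT0]; exact Nat.mul_le_mul_left _ h1
    _ = (n - 1) * I.card * k := by ring
    _ ≤ _ := Nat.mul_le_mul_right _ h2

/-- Three layers `W, V, V'` with brackets `b : W × W → V`, `c : V × W → V'` and the forms `om`. -/
structure Layers3 (q : ℕ) {W : Type u} {V : Type v} {V' : Type w} [CommGroup W] [CommGroup V] [CommGroup V']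
    (b : W → W → V) (c : V → W → V') (om : (V' →* ℂˣ) → W → W → ℂˣ) : Prop where
  prime : q.Prime
  expW : ∀ x : W, x ^ q = 1
  expV : ∀ x : V, x ^ q = 1
  nontriv : Nontrivial V
  b_left : ∀ x x' y, b (x * x') y = b x y * b x' y
  b_right : ∀ x y y', b x (y * y') = b x y * b x y'
  b_self : ∀ x, b x x = 1
  nd : ∀ μ : V →* ℂˣ, μ ≠ 1 → ∀ x, x ≠ 1 → ∃ y, μ (b x y) ≠ 1
  c_left : ∀ v v' y, c (v * v') y = c v y * c v' y
  c_right : ∀ v y y', c v (y * y') = c v y * c v y'
  lr : ∀ ν : V' →* ℂˣ, ν ≠ 1 → ∀ v, v ≠ 1 → ∃ y, ν (c v y) ≠ 1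
  jac : ∀ (ν : V' →* ℂˣ) x y z, ν (c (b x y) z) * ν (c (b y z) x) * ν (c (b z x) y) = 1
  om_nu : ∀ ν ν' x y, om (ν * ν') x y = om ν x y * om ν' x y
  om_self : ∀ ν x, om ν x x = 1
  om_right : ∀ ν x y y', (∀ v, ν (c v x) = 1) → (∀ v, ν (c v y) = 1) → (∀ v, ν (c v y') = 1) →
    om ν x (y * y') = om ν x y * om ν x y'
  om_nd : ∀ ν, ν ≠ 1 → ∀ x, x ≠ 1 → (∀ v, ν (c v x) = 1) →
    ∃ y, (∀ v, ν (c v y) = 1) ∧ om ν x y ≠ 1

variable {q : ℕ} {W : Type u} {V : Type v} {V' : Type w} [CommGroup W] [CommGroup V] [CommGroup V']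
  {b : W → W → V} {c : V → W → V'} {om : (V' →* ℂˣ) → W → W → ℂˣ}

/-- The elements killed by `ν` against every element of `V`. -/
def Layers3.perp (h : Layers3 q b c om) (ν : V' →* ℂˣ) : Subgroup W where
  carrier := {x | ∀ v, ν (c v x) = 1}
  one_mem' := fun v => by
    have := h.c_right v 1 1
    rw [one_mul] at this
    rw [mul_eq_left.1 this.symm, map_one]
  mul_mem' := fun {x y} hx hy v => by rw [h.c_right, map_mul, hx v, hy v, one_mul]
  inv_mem' := fun {x} hx v => by
    have h1 := h.c_right v x⁻¹ x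
    have h2 := h.c_right v 1 1
    rw [one_mul] at h2
    rw [inv_mul_cancel, mul_eq_left.1 h2.symm] at h1
    have h3 := congrArg ν h1
    rw [map_one, map_mul, hx v, mul_one] at h3
    exact h3.symm

theorem Layers3.mem_perp (h : Layers3 q b c om) {ν : V' →* ℂˣ} {x : W} :
    x ∈ h.perp ν ↔ ∀ v, ν (c v x) = 1 := Iff.rfl

theorem Layers3.b_one_left (h : Layers3 q b c om) (y : W) : b 1 y = 1 :=
  mul_eq_left.1 (by rw [← h.b_left, one_mul])

theorem Layers3.c_one_left (h : Layers3 q b c om) (y : W) : c 1 y = 1 :=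
  mul_eq_left.1 (by rw [← h.c_left, one_mul])

theorem Layers3.b_swap (h : Layers3 q b c om) (x y : W) : b y x = (b x y)⁻¹ := by
  have h1 := h.b_self (x * y)
  rw [h.b_left, h.b_right, h.b_right, h.b_self, h.b_self, one_mul, mul_one] at h1
  exact eq_inv_of_mul_eq_one_right h1

variable [Finite W] [Finite V] [Finite V']

theorem Layers3.card_mul_perp (h : Layers3 q b c om) {ν : V' →* ℂˣ} (hν : ν ≠ 1) :
    Nat.card W = Nat.card (h.perp ν) * Nat.card V := by
  rw [← Subgroup.card_mul_index (h.perp ν), Subgroup.index_eq_card]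
  congr 1
  let f : W →* (V →* ℂˣ) :=
    { toFun := fun x => MonoidHom.mk' (fun v => ν (c v x)) fun v v' => by rw [h.c_left, map_mul]
      map_one' := MonoidHom.ext fun v => (h.perp ν).one_mem v
      map_mul' := fun x y => MonoidHom.ext fun v => by
        show ν (c v (x * y)) = _
        rw [h.c_right, map_mul]; rfl }
  have hker : f.ker = h.perp ν := by
    ext x
    exact ⟨fun hx v => DFunLike.congr_fun hx v, fun hx => MonoidHom.ext hx⟩
  refine Eq.trans ?_ (card_dual V)
  refine le_antisymm (hker ▸ (Nat.card_le_card_of_injective _ (QuotientGroup.kerLift_injective f))) ?_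
  -- the dual map is injective
  let g : V →* (W ⧸ h.perp ν →* ℂˣ) :=
    { toFun := fun v => QuotientGroup.lift (h.perp ν) (MonoidHom.mk' (fun x => ν (c v x))
        fun x y => by rw [h.c_right, map_mul]) fun x hx => hx v
      map_one' := QuotientGroup.monoidHom_ext _ (MonoidHom.ext fun x => by
        show ν (c 1 x) = 1
        rw [h.c_one_left, map_one])
      map_mul' := fun v v' => QuotientGroup.monoidHom_ext _ (MonoidHom.ext fun x => by
        show ν (c (v * v') x) = ν (c v x) * ν (c v' x)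
        rw [h.c_left, map_mul]) }
  have hg : Function.Injective g := (injective_iff_map_eq_one g).2 fun v hv => by
    by_contra hv1
    obtain ⟨y, hy⟩ := h.lr ν hν v hv1
    exact hy (DFunLike.congr_fun hv (y : W ⧸ h.perp ν))
  rw [card_dual V, ← card_dual (W ⧸ h.perp ν)]
  exact Nat.card_le_card_of_injective g hg

/-- The forms of `perp` are isotropic. -/
theorem Layers3.b_perp (h : Layers3 q b c om) {ν : V' →* ℂˣ} (hν : ν ≠ 1) {x y : W}
    (hx : x ∈ h.perp ν) (hy : y ∈ h.perp ν) : b x y = 1 := by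
  by_contra hne
  obtain ⟨z, hz⟩ := h.lr ν hν _ hne
  refine hz ?_
  have := h.jac ν x y z
  rwa [hx, hy, mul_one, mul_one] at this

theorem Layers3.card_sq_le (h : Layers3 q b c om) [Nontrivial W] : Nat.card V ^ 2 ≤ Nat.card W := by
  rw [← card_dual V]
  have hroot : ∀ μ : V →* ℂˣ, μ ^ q = 1 := fun μ => MonoidHom.ext fun v => by
    rw [MonoidHom.pow_apply, ← map_pow, h.expV, map_one]; rfl
  exact Pencil.pencil_card h.prime hroot h.expW (fun μ x y => μ (b x y)) (fun μ μ' x y => rfl)
    (fun μ x x' y => by rw [h.b_left, map_mul]) (fun μ x y y' => by rw [h.b_right, map_mul])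
    (fun μ x => by rw [h.b_self, map_one]) h.nd

theorem Layers3.nontrivial_W (h : Layers3 q b c om) {ν : V' →* ℂˣ} (hν : ν ≠ 1) : Nontrivial W := by
  haveI := h.nontriv
  refine Finite.one_lt_card_iff_nontrivial.1 ?_
  rw [h.card_mul_perp hν]
  exact lt_of_lt_of_le (Finite.one_lt_card_iff_nontrivial.2 h.nontriv)
    (Nat.le_mul_of_pos_left _ Nat.card_pos)

theorem Layers3.card_perp (h : Layers3 q b c om) {ν : V' →* ℂˣ} (hν : ν ≠ 1) :
    Nat.card (h.perp ν) = Nat.card V := by
  haveI := h.nontrivial_W hν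
  refine le_antisymm ?_ (Nat.le_of_mul_le_mul_right ?_ (Nat.card_pos (α := V)))
  · obtain ⟨μ, hμ⟩ : ∃ μ : V →* ℂˣ, μ ≠ 1 := by
      haveI := h.nontriv
      obtain ⟨v, hv⟩ := exists_ne (1 : V)
      obtain ⟨l, hl⟩ := exists_dual_ne hv
      exact ⟨l, fun e => hl (by rw [e]; rfl)⟩
    let f : h.perp ν →* (W ⧸ h.perp ν →* ℂˣ) :=
      { toFun := fun x => QuotientGroup.lift (h.perp ν) (MonoidHom.mk' (fun y => μ (b x y))
          fun y y' => by rw [h.b_right, map_mul]) fun y hy => by
            show μ (b x y) = 1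
            rw [h.b_perp hν x.2 hy, map_one]
        map_one' := QuotientGroup.monoidHom_ext _ (MonoidHom.ext fun y => by
          show μ (b 1 y) = 1
          rw [h.b_one_left, map_one])
        map_mul' := fun x x' => QuotientGroup.monoidHom_ext _ (MonoidHom.ext fun y => by
          show μ (b (x * x' : W) y) = μ (b x y) * μ (b x' y)
          rw [h.b_left, map_mul]) }
    have hf : Function.Injective f := (injective_iff_map_eq_one f).2 fun x hx => by
      by_contra hx1
      obtain ⟨y, hy⟩ := h.nd μ hμ x fun e => hx1 (Subtype.ext e)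
      exact hy (DFunLike.congr_fun hx (y : W ⧸ h.perp ν))
    have h1 := Nat.card_le_card_of_injective f hf
    rw [card_dual] at h1
    have h2 : Nat.card (W ⧸ h.perp ν) = Nat.card V := by
      have h3 := h.card_mul_perp hν
      rw [← Subgroup.card_mul_index (h.perp ν), Subgroup.index_eq_card] at h3
      exact Nat.eq_of_mul_eq_mul_left Nat.card_pos h3
    rwa [h2] at h1
  · rw [← sq, ← h.card_mul_perp hν]
    exact h.card_sq_le

theorem Layers3.card_sq (h : Layers3 q b c om) {ν : V' →* ℂˣ} (hν : ν ≠ 1) :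
    Nat.card W = Nat.card V ^ 2 := by
  rw [h.card_mul_perp hν, h.card_perp hν, sq]

/-- The perpendicular of a nontrivial element of `perp ν` is `perp ν`. -/
theorem Layers3.mem_perp_of_b (h : Layers3 q b c om) {ν : V' →* ℂˣ} (hν : ν ≠ 1) {x : W}
    (hx : x ∈ h.perp ν) (hx1 : x ≠ 1) {y : W} (hy : b x y = 1) : y ∈ h.perp ν := by
  let f : W →* V := MonoidHom.mk' (b x) (h.b_right x)
  have hle : h.perp ν ≤ f.ker := fun z hz => h.b_perp hν hx hz
  have hsurj : f.range = ⊤ := by
    refine (Subgroup.eq_top_iff' _).2 fun v => ?_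
    by_contra hv
    obtain ⟨μ, hμ, hμv⟩ := exists_dual_ker f.range hv
    obtain ⟨z, hz⟩ := h.nd μ (fun e => hμv (by rw [e]; rfl)) x hx1
    exact hz (hμ _ ⟨z, rfl⟩)
  have hcard : Nat.card f.ker = Nat.card (h.perp ν) := by
    have h1 := f.ker.card_mul_index
    rw [Subgroup.index_ker, hsurj, Subgroup.card_top, h.card_mul_perp hν] at h1
    exact Nat.eq_of_mul_eq_mul_right Nat.card_pos h1
  rw [Subgroup.eq_of_le_of_card_ge hle hcard.le]
  exact hy

theorem Layers3.perp_eq_of_mem (h : Layers3 q b c om) {ν ν' : V' →* ℂˣ} (hν : ν ≠ 1) (hν' : ν' ≠ 1)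
    {x : W} (hx1 : x ≠ 1) (hx : x ∈ h.perp ν) (hx' : x ∈ h.perp ν') : h.perp ν = h.perp ν' :=
  Subgroup.eq_of_le_of_card_ge (fun y hy => h.mem_perp_of_b hν' hx' hx1 (h.b_perp hν hx hy))
    (by rw [h.card_perp hν, h.card_perp hν'])

/-- The characters whose `perp` contains `L`. -/
def Layers3.ann (_h : Layers3 q b c om) (L : Subgroup W) : Subgroup (V' →* ℂˣ) where
  carrier := {ν | ∀ x ∈ L, ∀ v, ν (c v x) = 1}
  one_mem' := fun _ _ _ => rfl
  mul_mem' := fun {a b'} ha hb x hx v => by rw [MonoidHom.mul_apply, ha x hx v, hb x hx v, one_mul]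
  inv_mem' := fun {a} ha x hx v => by rw [MonoidHom.inv_apply, ha x hx v, inv_one]

theorem Layers3.mem_ann_iff (h : Layers3 q b c om) {ν ν' : V' →* ℂˣ} (hν : ν ≠ 1) (hν' : ν' ≠ 1) :
    ν' ∈ h.ann (h.perp ν) ↔ h.perp ν' = h.perp ν :=
  ⟨fun hm => (Subgroup.eq_of_le_of_card_ge (H := h.perp ν) (K := h.perp ν') (fun x hx => hm x hx)
      (by rw [h.card_perp hν, h.card_perp hν'])).symm,
    fun e x hx v => (e ▸ hx : x ∈ h.perp ν') v⟩

theorem Layers3.two_mul_card_ann (h : Layers3 q b c om) {ν : V' →* ℂˣ} (hν : ν ≠ 1) :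
    2 * Nat.card (h.ann (h.perp ν)) ≤ Nat.card V := by
  haveI := h.nontriv
  set L := h.perp ν
  obtain ⟨u, hu⟩ : ∃ u : L, u ≠ 1 := by
    haveI : Nontrivial L := Finite.one_lt_card_iff_nontrivial.1 (by
      rw [h.card_perp hν]; exact Finite.one_lt_card_iff_nontrivial.2 h.nontriv)
    exact exists_ne 1
  let Ψ : h.ann L →* (L →* ℂˣ) :=
    { toFun := fun ν' => MonoidHom.mk' (fun x => om ν' u x)
        fun x y => h.om_right _ _ _ _ (ν'.2 _ u.2) (ν'.2 _ x.2) (ν'.2 _ y.2)
      map_one' := MonoidHom.ext fun x => by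
        show om (1 : V' →* ℂˣ) u x = 1
        have e := h.om_nu 1 1 u x
        rw [show (1 : V' →* ℂˣ) * 1 = 1 from MonoidHom.ext fun _ => one_mul _] at e
        exact mul_eq_left.1 e.symm
      map_mul' := fun a a' => MonoidHom.ext fun x => h.om_nu _ _ _ _ }
  have hinj : Function.Injective Ψ := (injective_iff_map_eq_one Ψ).2 fun a ha => by
    by_contra ha1
    have ha' : (a : V' →* ℂˣ) ≠ 1 := fun e => ha1 (Subtype.ext e)
    obtain ⟨y, hy, hne⟩ := h.om_nd _ ha' u (fun e => hu (Subtype.ext e)) (a.2 _ u.2)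
    have hyL : y ∈ h.perp ν := by
      rw [← (h.mem_ann_iff hν ha').1 a.2]
      exact hy
    exact hne (DFunLike.congr_fun ha (⟨y, hyL⟩ : L))
  have hne : Ψ.range ≠ ⊤ := by
    intro e
    obtain ⟨l, hl⟩ := exists_dual_ne hu
    obtain ⟨a, rfl⟩ : l ∈ Ψ.range := e ▸ Subgroup.mem_top l
    exact hl (h.om_self _ _)
  have h2 := Subgroup.card_mul_index Ψ.range
  rw [card_dual, h.card_perp hν] at h2
  rw [← h2, Nat.card_congr (MonoidHom.ofInjective hinj).toEquiv, mul_comm]
  refine Nat.mul_le_mul_left _ ?_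
  have h3 : Ψ.range.index ≠ 0 := Subgroup.index_ne_zero_of_finite
  have h4 : Ψ.range.index ≠ 1 := fun e => hne (Subgroup.index_eq_one.1 e)
  omega

/-- The counting inequality for a bound `k` on the annihilators. -/
theorem Layers3.count (h : Layers3 q b c om) (k : ℕ)
    (hk : ∀ ν : V' →* ℂˣ, ν ≠ 1 → Nat.card (h.ann (h.perp ν)) ≤ k) :
    Nat.card V' - 1 ≤ (Nat.card V + 1) * (k - 1) := by
  classical
  haveI := h.nontriv
  have hn := Finite.one_lt_card_iff_nontrivial.2 h.nontriv
  by_cases hex : ∃ ν : V' →* ℂˣ, ν ≠ 1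
  swap
  · push Not at hex
    haveI : Subsingleton (V' →* ℂˣ) := ⟨fun a b => by rw [hex a, hex b]⟩
    rw [← card_dual V', Nat.card_of_subsingleton (1 : V' →* ℂˣ)]
    exact Nat.zero_le _
  obtain ⟨ν₀, hν₀⟩ := hex
  have h1 := card_le_of_cover (T := V' →* ℂˣ) h.perp (Nat.card V) (k - 1) (fun t ht => h.card_perp ht)
    (fun t t' ht ht' s hs h1 h2 => h.perp_eq_of_mem ht ht' hs h1 h2) fun t ht => by
      have h2 : Nat.card {t' : V' →* ℂˣ // t' ≠ 1 ∧ h.perp t' = h.perp t} + 1 ≤
          Nat.card (h.ann (h.perp t)) := by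
        let i : Option {t' : V' →* ℂˣ // t' ≠ 1 ∧ h.perp t' = h.perp t} → h.ann (h.perp t) := fun o =>
          o.elim 1 fun t' => ⟨t'.1, (h.mem_ann_iff ht t'.2.1).2 t'.2.2⟩
        have hi : Function.Injective i := by
          rintro (_ | a) (_ | b') e
          · rfl
          · exact absurd (congrArg Subtype.val e).symm b'.2.1
          · exact absurd (congrArg Subtype.val e) a.2.1
          · exact congrArg some (Subtype.ext (congrArg (fun z : h.ann (h.perp t) => (z : V' →* ℂˣ)) e))
        simpa [Finite.card_option] using Nat.card_le_card_of_injective i hi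
      have := hk t ht
      omega
  rw [card_dual, h.card_sq hν₀,
    show Nat.card V ^ 2 - 1 = (Nat.card V - 1) * (Nat.card V + 1) by
      rw [sq, mul_comm (Nat.card V - 1), ← Nat.mul_self_sub_mul_self_eq, mul_one],
    mul_assoc] at h1
  exact Nat.le_of_mul_le_mul_left h1 (by omega)

theorem Layers3.card_lt (h : Layers3 q b c om) : Nat.card V' < Nat.card V ^ 2 := by
  haveI := h.nontriv
  have hn := Finite.one_lt_card_iff_nontrivial.2 h.nontriv
  have h1 := h.count (Nat.card V / 2) fun ν hν => by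
    have := h.two_mul_card_ann hν
    omega
  have h2 : Nat.card V / 2 ≥ 1 := by omega
  have h3 : 2 * (Nat.card V / 2) ≤ Nat.card V := Nat.mul_div_le _ _
  obtain ⟨j, hj⟩ : ∃ j, Nat.card V / 2 = j + 1 := ⟨Nat.card V / 2 - 1, by omega⟩
  rw [hj, Nat.add_sub_cancel] at h1
  nlinarith [Nat.card_pos (α := V'), Nat.sub_add_cancel (Nat.card_pos (α := V'))]

/-- No further layer can be paired onto `V'`. -/
theorem Layers3.false_of_next (h : Layers3 q b c om) [Nontrivial V'] (T : W →* (V' →* ℂˣ))
    (hT : Function.Surjective T) (A : V → V → ℂˣ)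
    (hjac : ∀ u, T u = 1 → ∀ x v, T x (c v u) = A v (b u x))
    (hsym : ∀ x y, b x y = 1 → ∀ v, T y (c v x) = T x (c v y))
    (hA : (∀ v z, A v z = 1) ∨ ∀ z, (∀ v, A v z = 1) → z = 1) : False := by
  classical
  haveI := h.nontriv
  have hn := Finite.one_lt_card_iff_nontrivial.2 h.nontriv
  obtain ⟨v₁, hv₁⟩ := exists_ne (1 : V')
  obtain ⟨ν₁, hν₁'⟩ := exists_dual_ne hv₁
  have hν₁ : ν₁ ≠ 1 := fun e => hν₁' (by rw [e]; rfl)
  have hW : Nat.card W = Nat.card T.ker * Nat.card V' := by
    rw [← Subgroup.card_mul_index T.ker, Subgroup.index_ker, MonoidHom.range_eq_top.2 hT,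
      Subgroup.card_top, card_dual]
  have key : ∀ ν : V' →* ℂˣ, ν ≠ 1 → Nat.card V * Nat.card (h.ann (h.perp ν)) ≤ Nat.card V' := by
    intro ν hν
    by_cases hLU : ∀ x ∈ h.perp ν, T x = 1 → x = 1
    · have hdis : ∀ x ∈ h.perp ν, T x ∈ h.ann (h.perp ν) → x = 1 := by
        intro x hx hxa
        by_contra hx1
        have hall : ∀ y : h.perp ν, T y ∈ h.ann (h.perp ν) := by
          rintro ⟨y, hy⟩
          by_cases hy1 : T y = 1
          · rw [show T ((⟨y, hy⟩ : h.perp ν) : W) = 1 from hy1]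
            exact one_mem _
          refine (h.mem_ann_iff hν hy1).2 (h.perp_eq_of_mem hy1 hν hx1 (fun v => ?_) hx)
          rw [hsym x y (h.b_perp hν hx hy) v]
          exact hxa y hy v
        have hinj : Function.Injective (fun y : h.perp ν => (⟨T y, hall y⟩ : h.ann (h.perp ν))) := by
          intro y y' e
          have e' : T (y : W) = T (y' : W) := congrArg Subtype.val e
          refine Subtype.ext (mul_inv_eq_one.1 (hLU _ ((h.perp ν).mul_mem y.2 ((h.perp ν).inv_mem y'.2)) ?_))
          rw [map_mul, map_inv, e', mul_inv_cancel]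
        have h1 := Nat.card_le_card_of_injective _ hinj
        rw [h.card_perp hν] at h1
        have := h.two_mul_card_ann hν
        omega
      rw [← card_dual V', ← h.card_perp hν, ← Nat.card_prod]
      refine Nat.card_le_card_of_injective (fun p : h.perp ν × h.ann (h.perp ν) => T p.1 * p.2) ?_
      rintro ⟨x, a⟩ ⟨y, a'⟩ e
      have h1 : x = y := Subtype.ext (mul_inv_eq_one.1 (hdis _
        ((h.perp ν).mul_mem x.2 ((h.perp ν).inv_mem y.2)) fun z hz v => by
          have e1 : T x (c v z) * (a : V' →* ℂˣ) (c v z) = T y (c v z) * (a' : V' →* ℂˣ) (c v z) :=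
            DFunLike.congr_fun e (c v z)
          rw [a.2 z hz v, a'.2 z hz v, mul_one, mul_one] at e1
          rw [map_mul, map_inv, MonoidHom.mul_apply, MonoidHom.inv_apply, e1, mul_inv_cancel]))
      subst h1
      exact Prod.ext rfl (Subtype.ext (MonoidHom.ext fun z =>
        mul_left_cancel (DFunLike.congr_fun e z :
          T x z * (a : V' →* ℂˣ) z = T x z * (a' : V' →* ℂˣ) z)))
    · push Not at hLU
      obtain ⟨u, hu, hTu, hu1⟩ := hLU
      rcases hA with hA | hA
      · have hall : ∀ w, T w = 1 → ∀ μ : V' →* ℂˣ, w ∈ h.perp μ := fun w hw μ v => by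
          obtain ⟨x, rfl⟩ := hT μ
          rw [hjac w hw, hA]
        have hann : h.ann (h.perp ν) = ⊤ := (Subgroup.eq_top_iff' _).2 fun μ => by
          by_cases hμ : μ = 1
          · rw [hμ]; exact one_mem _
          exact (h.mem_ann_iff hν hμ).2 (h.perp_eq_of_mem hμ hν hu1 (hall u hTu μ) hu)
        have h1 := h.two_mul_card_ann hν
        rw [hann, Subgroup.card_top, card_dual] at h1
        have h2 : Nat.card T.ker ≤ Nat.card V := by
          rw [← h.card_perp hν]
          exact Subgroup.card_le_of_le fun w hw => hall w hw ν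
        have h3 := h.card_sq hν
        rw [hW, sq] at h3
        have h4 : 2 * (Nat.card V * Nat.card V) ≤ Nat.card V * Nat.card V := by
          calc 2 * (Nat.card V * Nat.card V) = Nat.card T.ker * (2 * Nat.card V') := by rw [← h3]; ring
            _ ≤ _ := Nat.mul_le_mul h2 h1
        have h5 := Nat.mul_pos (Nat.card_pos (α := V)) (Nat.card_pos (α := V))
        omega
      · have hb : ∀ x, (∀ v, T x (c v u) = 1) → x ∈ h.perp ν := fun x hx =>
          h.mem_perp_of_b hν hu hu1 (hA _ fun v => by rw [← hjac u hTu]; exact hx v)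
        have hle : (h.ann (h.perp ν)).comap T ≤ h.perp ν := fun x hx => hb x fun v => hx u hu v
        have h1 : Nat.card ((h.ann (h.perp ν)).comap T) = Nat.card T.ker * Nat.card (h.ann (h.perp ν)) := by
          have e1 := ((h.ann (h.perp ν)).comap T).card_mul_index
          rw [Subgroup.index_comap_of_surjective _ hT, hW] at e1
          have e2 := (h.ann (h.perp ν)).card_mul_index
          rw [card_dual] at e2
          rw [← e2, ← mul_assoc] at e1
          exact Nat.eq_of_mul_eq_mul_right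
            (Nat.pos_of_ne_zero Subgroup.index_ne_zero_of_finite) e1
        have h2 := Subgroup.card_le_of_le hle
        rw [h1, h.card_perp hν] at h2
        have h3 := h.card_sq hν
        rw [hW, sq] at h3
        refine Nat.le_of_mul_le_mul_left ?_ (Nat.card_pos (α := T.ker))
        rw [h3, mul_comm (Nat.card V), ← mul_assoc]
        exact Nat.mul_le_mul_right _ h2
  set k := min (Nat.card V' / Nat.card V) (Nat.card V / 2) with hk
  have h1 := h.count k fun μ hμ => le_min
    ((Nat.le_div_iff_mul_le (by omega)).2 (by rw [mul_comm]; exact key μ hμ))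
    (by have := h.two_mul_card_ann hμ; omega)
  have h2 : Nat.card V * k ≤ Nat.card V' :=
    (Nat.mul_le_mul_left _ (min_le_left _ _)).trans (Nat.mul_div_le _ _)
  have h3 : 2 * k ≤ Nat.card V := (Nat.mul_le_mul_left _ (min_le_right _ _)).trans (Nat.mul_div_le _ _)
  have h4 : 1 < Nat.card V' := Finite.one_lt_card
  rcases Nat.eq_zero_or_pos k with hk0 | hkpos
  · rw [hk0, Nat.zero_sub, mul_zero] at h1
    omega
  obtain ⟨j, hj⟩ : ∃ j, k = j + 1 := ⟨k - 1, by omega⟩
  rw [hj, Nat.add_sub_cancel] at h1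
  rw [hj] at h2 h3
  have h5 := Nat.sub_add_cancel h4.le
  nlinarith

end Cfsg.Agent.NoDivDeg
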