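/-
Automorphisms without fixed points on finite abelian groups.

Main results: `prod_pow_eq_one`, `eq_one_of_two`, `exists_fixed`, `card_pow_eq_one_le_of_fpf`,
`card_fixed_pow_le`, `exists_hyperplane`, `dvd_card_sub_one`, `eq_of_unique_fixed`.
-/
import Mathlib

set_option autoImplicit false
set_option linter.style.haveILetI false

namespace Cfsg.Agent.NoDivDeg.Fpf

/-- A set of points, each with a stabilizing element in `P`, elements of `P` fixing at most one
point, in an abelian group: a single point. -/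
theorem eq_of_unique_fixed {C Ω : Type*} [CommGroup C] [MulAction C Ω] (P : C → Prop)
    (hex : ∀ ω : Ω, ∃ c : C, P c ∧ c • ω = ω)
    (huniq : ∀ c : C, P c → ∀ ω ω' : Ω, c • ω = ω → c • ω' = ω' → ω = ω') (ω ω' : Ω) : ω = ω' := by
  obtain ⟨c, hc, hcω⟩ := hex ω
  obtain ⟨d, hd, hdω'⟩ := hex ω'
  have hdω : d • ω = ω := huniq c hc _ _ (by rw [← mul_smul, mul_comm, mul_smul, hcω]) hcω
  exact huniq d hd _ _ hdω hdω'

theorem eq_one_of_pow_coprime {M : Type*} [Monoid M] {x : M} {m n : ℕ} (h : m.Coprime n)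
    (hm : x ^ m = 1) (hn : x ^ n = 1) : x = 1 :=
  orderOf_eq_one_iff.1 (Nat.eq_one_of_dvd_coprimes h (orderOf_dvd_of_pow_eq_one hm)
    (orderOf_dvd_of_pow_eq_one hn))

variable {Γ U : Type*} [Group Γ] [CommGroup U] (ρ : Γ →* MulAut U)

theorem pow_act_succ (a : Γ) (i : ℕ) (u : U) : ρ (a ^ (i + 1)) u = ρ a (ρ (a ^ i) u) := by
  rw [pow_succ', map_mul, MulAut.mul_apply]

theorem act_prod_pow (a : Γ) (n : ℕ) (hn : ρ (a ^ n) = 1) (u : U) :
    ρ a (∏ i ∈ Finset.range n, ρ (a ^ i) u) = ∏ i ∈ Finset.range n, ρ (a ^ i) u := by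
  rw [map_prod]
  simp only [← pow_act_succ]
  refine mul_right_cancel (b := ρ (a ^ 0) u) ?_
  rw [← Finset.prod_range_succ' (fun i => ρ (a ^ i) u) n, Finset.prod_range_succ, hn, pow_zero,
    map_one]

/-- Without fixed points the norm vanishes. -/
theorem prod_pow_eq_one (a : Γ) (n : ℕ) (hn : ρ (a ^ n) = 1) (hfix : ∀ u, ρ a u = u → u = 1)
    (u : U) : ∏ i ∈ Finset.range n, ρ (a ^ i) u = 1 :=
  hfix _ (act_prod_pow ρ a n hn u)

/-- No two independent commuting elements of order `q` act without fixed points. -/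
theorem eq_one_of_two [Finite U] {q : ℕ} (hq : q.Prime) (hU : (Nat.card U).Coprime q) {h k : Γ}
    (hc : Commute (ρ h) (ρ k)) (hh : ρ (h ^ q) = 1) (hk : ρ (k ^ q) = 1)
    (hfpf : ∀ i j : ℕ, ¬ (q ∣ i ∧ q ∣ j) → ∀ u, ρ (h ^ i) (ρ (k ^ j) u) = u → u = 1) (u : U) :
    u = 1 := by
  have hq1 : ¬ q ∣ 1 := hq.not_dvd_one
  have hN : ∀ j, ∏ i ∈ Finset.range q, ρ ((h * k ^ j) ^ i) u = 1 := fun j => by
    refine prod_pow_eq_one ρ _ q ?_ (fun v hv => hfpf 1 j (fun h' => hq1 h'.1) v (by
      rwa [map_mul, MulAut.mul_apply, ← pow_one h] at hv)) u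
    rw [map_pow, map_mul, map_pow, (hc.pow_right j).mul_pow, ← map_pow, ← pow_mul, mul_comm, pow_mul,
      ← map_pow, hk, hh, one_pow, one_mul]
  have hall : ∏ j ∈ Finset.range q, ∏ i ∈ Finset.range q, ρ ((h * k ^ j) ^ i) u = 1 :=
    Finset.prod_eq_one fun j _ => hN j
  rw [Finset.prod_comm, Finset.prod_eq_single 0] at hall
  · simp only [pow_zero, map_one, MulAut.one_apply, Finset.prod_const, Finset.card_range] at hall
    exact eq_one_of_pow_coprime hU pow_card_eq_one' hall
  · intro i hi hi0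
    have hqi : ¬ q ∣ i := fun hd => hi0 (Nat.eq_zero_of_dvd_of_lt hd (Finset.mem_range.1 hi))
    have e : ∀ j, ρ ((h * k ^ j) ^ i) u = ρ (h ^ i) (ρ ((k ^ i) ^ j) u) := fun j => by
      rw [← MulAut.mul_apply, map_pow, map_mul, map_pow, (hc.pow_right j).mul_pow, ← pow_mul,
        mul_comm j i, map_pow, map_pow, map_pow, ← pow_mul]
    rw [Finset.prod_congr rfl fun j _ => e j, ← map_prod, prod_pow_eq_one ρ (k ^ i) q ?_ ?_, map_one]
    · rw [← pow_mul, mul_comm, pow_mul, map_pow, hk, one_pow]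
    · exact fun v hv => hfpf 0 i (fun h' => hqi h'.2) v (by rwa [pow_zero, map_one, MulAut.one_apply])
  · exact fun h0 => absurd (Finset.mem_range.2 hq.pos) h0

/-- An element normalising a fixed-point-free group, its proper powers centralising no element of it,
has a fixed point. -/
theorem exists_fixed [Finite U] [Nontrivial U] (E : Subgroup Γ) [Finite E]
    (hU : (Nat.card U).Coprime (Nat.card E)) (hEfix : ∀ u, (∀ h ∈ E, ρ h u = u) → u = 1)
    (y : Γ) (e : ℕ) (he : 0 < e) (hye : ρ (y ^ e) = 1) (hnorm : ∀ h ∈ E, y * h * y⁻¹ ∈ E)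
    (hcent : ∀ i, 0 < i → i < e → ∀ h ∈ E, h * y ^ i = y ^ i * h → h = 1) :
    ∃ u : U, u ≠ 1 ∧ ρ y u = u := by
  classical
  by_contra hno
  push Not at hno
  have hfix : ∀ u, ρ y u = u → u = 1 := fun u hu => by
    by_contra h1
    exact hno u h1 hu
  haveI := Fintype.ofFinite E
  obtain ⟨u, hu⟩ := exists_ne (1 : U)
  refine hu (eq_one_of_pow_coprime hU pow_card_eq_one' ?_)
  have hall : ∏ h : E, ∏ i ∈ Finset.range e, ρ ((h : Γ) * y ^ i * (h : Γ)⁻¹) u = 1 :=
    Finset.prod_eq_one fun h _ => by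
      rw [Finset.prod_congr rfl fun i _ => show ρ ((h : Γ) * y ^ i * (h : Γ)⁻¹) u =
        ρ (h : Γ) (ρ (y ^ i) (ρ (h : Γ)⁻¹ u)) by rw [map_mul, map_mul]; rfl, ← map_prod,
        prod_pow_eq_one ρ y e hye hfix, map_one]
  rw [Finset.prod_comm, Finset.prod_eq_single 0] at hall
  · simpa [Nat.card_eq_fintype_card] using hall
  · intro i hi hi0
    have hni : ∀ h ∈ E, y ^ i * h * (y ^ i)⁻¹ ∈ E := by
      intro h hh
      clear hi hi0
      induction i with
      | zero => simpa using hh
      | succ i ih => simpa [pow_succ', mul_assoc] using hnorm _ ih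
    let φ : E → E := fun h => ⟨(h : Γ) * (y ^ i * (h : Γ)⁻¹ * (y ^ i)⁻¹),
      E.mul_mem h.2 (hni _ (E.inv_mem h.2))⟩
    have hφ : Function.Injective φ := fun a b hab => by
      have h1 : (a : Γ) * (y ^ i * (a : Γ)⁻¹ * (y ^ i)⁻¹) = (b : Γ) * (y ^ i * (b : Γ)⁻¹ * (y ^ i)⁻¹) :=
        congrArg Subtype.val hab
      have h2 : (b : Γ)⁻¹ * a * y ^ i = y ^ i * ((b : Γ)⁻¹ * a) := by
        calc (b : Γ)⁻¹ * a * y ^ i
            = (b : Γ)⁻¹ * ((a : Γ) * (y ^ i * (a : Γ)⁻¹ * (y ^ i)⁻¹)) * y ^ i * a := by group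
          _ = y ^ i * ((b : Γ)⁻¹ * a) := by rw [h1]; group
      exact Subtype.ext (inv_mul_eq_one.1 (hcent i (Nat.pos_of_ne_zero hi0) (Finset.mem_range.1 hi) _
        (E.mul_mem (E.inv_mem b.2) a.2) h2)).symm
    have e1 : ∀ h : E, ρ ((h : Γ) * y ^ i * (h : Γ)⁻¹) u = ρ (φ h : Γ) (ρ (y ^ i) u) := fun h => by
      rw [← MulAut.mul_apply, ← map_mul]
      congr 2
      simp only [φ]
      group
    rw [Finset.prod_congr rfl fun h _ => e1 h,
      Fintype.prod_bijective φ (Finite.injective_iff_bijective.1 hφ) _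
        (fun h : E => ρ (h : Γ) (ρ (y ^ i) u)) fun _ => rfl]
    refine hEfix _ fun h hh => ?_
    rw [map_prod]
    refine Fintype.prod_equiv (Equiv.mulLeft (⟨h, hh⟩ : E)) _ _ fun a => ?_
    show ρ h (ρ (a : Γ) _) = ρ (h * (a : Γ)) _
    rw [map_mul, MulAut.mul_apply]
  · exact fun h0 => absurd (Finset.mem_range.2 he) h0

/-- In an abelian group with at most `p` solutions of `x ^ p = 1`, at most `n` of `x ^ n = 1`. -/
theorem card_pow_eq_one_le {A : Type*} [CommGroup A] [Finite A]
    (h : ∀ p : ℕ, p.Prime → Nat.card (powMonoidHom p : A →* A).ker ≤ p) :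
    ∀ n : ℕ, 0 < n → Nat.card (powMonoidHom n : A →* A).ker ≤ n := by
  intro n
  induction n using Nat.strong_induction_on with
  | _ n ih =>
    intro hn
    by_cases h1 : n = 1
    · subst h1
      have hbot : (powMonoidHom 1 : A →* A).ker = ⊥ := by ext x; simp
      rw [hbot, Subgroup.card_bot]
    obtain ⟨p, hp, m, rfl⟩ := Nat.exists_prime_and_dvd h1
    have hm : 0 < m := Nat.pos_of_mul_pos_left hn
    have hle := ih m (lt_mul_of_one_lt_left hm hp.one_lt) hm
    let φ : (powMonoidHom (p * m) : A →* A).ker →* (powMonoidHom m : A →* A).ker :=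
      ((powMonoidHom p).comp (powMonoidHom (p * m) : A →* A).ker.subtype).codRestrict _ fun x => by
        simp only [MonoidHom.mem_ker, powMonoidHom_apply, MonoidHom.comp_apply, ← pow_mul]
        exact x.2
    have hker : Nat.card φ.ker ≤ p := by
      refine le_trans (Nat.card_le_card_of_injective (β := (powMonoidHom p : A →* A).ker)
        (fun x => ⟨(x : (powMonoidHom (p * m) : A →* A).ker), congrArg Subtype.val x.2⟩)
        fun x y e => Subtype.ext (Subtype.ext (congrArg (fun w : (powMonoidHom p : A →* A).ker => (w : A)) e))) (h p hp)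
    rw [← φ.ker.card_mul_index, Subgroup.index_ker]
    exact Nat.mul_le_mul hker (le_trans (Subgroup.card_le_card_group _) hle)

/-- An abelian group acting without fixed points has at most `n` solutions of `x ^ n = 1`. -/
theorem card_pow_eq_one_le_of_fpf {A : Type*} [CommGroup A] [Finite A] [Finite U] [Nontrivial U]
    (τ : A →* MulAut U) (hfpf : ∀ a : A, a ≠ 1 → ∀ u, τ a u = u → u = 1) (n : ℕ) (hn : 0 < n) :
    Nat.card (powMonoidHom n : A →* A).ker ≤ n := by
  classical
  refine card_pow_eq_one_le (fun p hp => ?_) n hn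
  set K := (powMonoidHom p : A →* A).ker
  by_contra hcon
  push Not at hcon
  haveI := Fact.mk hp
  obtain ⟨h, hh⟩ : ∃ h : K, h ≠ 1 := by
    haveI := Finite.one_lt_card_iff_nontrivial.1 (hp.one_lt.trans hcon)
    exact exists_ne 1
  have hh' : (h : A) ≠ 1 := fun e => hh (Subtype.ext e)
  have horder : orderOf (h : A) = p := orderOf_eq_prime h.2 hh'
  obtain ⟨k, hk⟩ : ∃ k : K, (k : A) ∉ Subgroup.zpowers (h : A) := by
    by_contra hall
    push Not at hall
    have := Subgroup.card_le_of_le (show K ≤ Subgroup.zpowers (h : A) from fun x hx => hall ⟨x, hx⟩)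
    rw [Nat.card_zpowers, horder] at this
    omega
  have hpU : (Nat.card U).Coprime p := by
    refine (hp.coprime_iff_not_dvd.2 fun hd => ?_).symm
    letI : MulAction (Subgroup.zpowers (h : A)) U :=
      MulAction.compHom U (τ.comp (Subgroup.zpowers (h : A)).subtype)
    have hP : IsPGroup p (Subgroup.zpowers (h : A)) :=
      IsPGroup.of_card (n := 1) (by rw [pow_one, Nat.card_zpowers, horder])
    obtain ⟨y, hy, hy1⟩ := hP.exists_fixed_point_of_prime_dvd_card_of_fixed_point (α := U) hd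
      (a := 1) (fun s => map_one (τ (s : A)))
    exact hy1 (hfpf _ hh' y (hy ⟨_, Subgroup.mem_zpowers _⟩)).symm
  obtain ⟨u, hu⟩ := exists_ne (1 : U)
  refine hu (eq_one_of_two τ hp hpU ((Commute.all (h : A) (k : A)).map τ)
    (by rw [show (h : A) ^ p = 1 from h.2, map_one]) (by rw [show (k : A) ^ p = 1 from k.2, map_one])
    (fun i j hij v hv => hfpf ((h : A) ^ i * (k : A) ^ j) (fun e => ?_) v
      (by rw [map_mul, MulAut.mul_apply]; exact hv)) u)
  have hj : p ∣ j := by
    by_contra hj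
    refine hk ?_
    have h1 : (k : A) ^ j ∈ Subgroup.zpowers (h : A) := by
      rw [eq_inv_of_mul_eq_one_right e]
      exact inv_mem (Subgroup.npow_mem_zpowers _ _)
    obtain ⟨l, hl⟩ := exists_pow_eq_self_of_coprime (x := (k : A))
      ((hp.coprime_iff_not_dvd.2 hj).symm.coprime_dvd_right (orderOf_dvd_of_pow_eq_one k.2))
    rw [← hl]
    exact Subgroup.pow_mem _ h1 _
  refine hij ⟨?_, hj⟩
  obtain ⟨l, rfl⟩ := hj
  rw [pow_mul, show (k : A) ^ p = 1 from k.2, one_pow, mul_one, ← orderOf_dvd_iff_pow_eq_one, horder] at e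
  exact e

/-- Free operations of a group of order `f` away from the identity. -/
theorem dvd_card_sub_one [Finite U] [Finite Γ] (hfree : ∀ a : Γ, a ≠ 1 → ∀ u, ρ a u = u → u = 1) :
    Nat.card Γ ∣ Nat.card U - 1 := by
  classical
  let S : Set U := {(1 : U)}ᶜ
  letI : MulAction Γ S :=
    { smul := fun a u => ⟨ρ a u.1, fun h => u.2 (by simpa using h)⟩
      one_smul := fun u => Subtype.ext (by show ρ 1 u.1 = u.1; simp)
      mul_smul := fun a b u => Subtype.ext (by show ρ (a * b) u.1 = ρ a (ρ b u.1); simp) }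
  have hst : ∀ u : S, MulAction.stabilizer Γ u = ⊥ := fun u => by
    refine (Subgroup.eq_bot_iff_forall _).2 fun a ha => ?_
    by_contra h1
    exact u.2 (hfree a h1 u.1 (congrArg Subtype.val ha))
  have hcard := Nat.card_congr (MulAction.selfEquivOrbitsQuotientProd hst)
  rw [Nat.card_prod] at hcard
  have hS : Nat.card S = Nat.card U - 1 := by
    rw [Nat.card_coe_set_eq, Set.ncard_compl, Set.ncard_singleton]
  exact ⟨_, hS.symm.trans (hcard.trans (mul_comm _ _))⟩

/-- The fixed points of an element permuting `e` powers of a fixed-point-free `h` of prime order. -/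
theorem card_fixed_pow_le [Finite U] {q : ℕ} (hq : q.Prime) (z h : Γ) (e : ℕ)
    (hhq : ρ (h ^ q) = 1) (hfpf : ∀ i : ℕ, ¬ q ∣ i → ∀ u, ρ (h ^ i) u = u → u = 1)
    (hzh : ∀ i < e, ∃ a : ℕ, z ^ i * h * (z ^ i)⁻¹ = h ^ a)
    (hdist : ∀ i j, i < j → j < e → ρ (z ^ i * h * (z ^ i)⁻¹) ≠ ρ (z ^ j * h * (z ^ j)⁻¹))
    (C : Subgroup U) (hC : ∀ c ∈ C, ρ z c = c) : Nat.card C ^ e ≤ Nat.card U := by
  classical
  choose a ha using hzh
  let ev : MulAut U →* AddMonoid.End (Additive U) :=
    { toFun := fun σ => MonoidHom.toAdditive σ.toMonoidHom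
      map_one' := rfl
      map_mul' := fun _ _ => rfl }
  let φ : Polynomial ℤ →+* AddMonoid.End (Additive U) :=
    Polynomial.eval₂RingHom' (Int.castRingHom _) (ev (ρ h)) (fun n => Int.cast_commute n _)
  have hX : ∀ (n : ℕ) (u : Additive U), φ (Polynomial.X ^ n) u = Additive.ofMul (ρ (h ^ n) u.toMul) := by
    intro n u
    rw [map_pow, show φ Polynomial.X = ev (ρ h) from Polynomial.eval₂_X _ _, ← map_pow, ← map_pow]
    rfl
  let M : Matrix (Fin e) (Fin e) (Polynomial ℤ) :=
    Matrix.vandermonde fun i => Polynomial.X ^ a i i.2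
  have hmul : ∀ (n : ℕ), ρ (h ^ (q * n)) = 1 := fun n => by rw [pow_mul, map_pow, hhq, one_pow]
  have hdet : Function.Injective (φ M.det) := by
    rw [Matrix.det_vandermonde]
    have hinj : ∀ i j : Fin e, i < j → Function.Injective
        (φ (Polynomial.X ^ a j j.2 - Polynomial.X ^ a i i.2)) := by
      intro i j hij
      rw [injective_iff_map_eq_zero]
      intro u hu
      rw [map_sub] at hu
      have hu : φ (Polynomial.X ^ a j j.2) u = φ (Polynomial.X ^ a i i.2) u := sub_eq_zero.1 hu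
      rw [hX, hX] at hu
      have hu' : ρ (h ^ a j j.2) u.toMul = ρ (h ^ a i i.2) u.toMul := Additive.ofMul.injective hu
      set r := q - a i i.2 % q
      have hr : r + a i i.2 = q * (1 + a i i.2 / q) := by
        have := Nat.mod_lt (a i i.2) hq.pos
        have := Nat.div_add_mod (a i i.2) q
        rw [mul_add, mul_one]
        omega
      refine Additive.toMul.injective (hfpf (r + a j j.2) ?_ _ ?_)
      · rintro ⟨l, hl⟩
        refine hdist i j hij j.2 ?_
        rw [ha i i.2, ha j j.2]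
        have hkey : ρ (h ^ r) * ρ (h ^ a j j.2) = ρ (h ^ r) * ρ (h ^ a i i.2) := by
          rw [← map_mul, ← map_mul, ← pow_add, ← pow_add, hl, hr, hmul, hmul]
        exact (mul_left_cancel hkey).symm
      · rw [pow_add, map_mul, MulAut.mul_apply, hu', ← MulAut.mul_apply, ← map_mul, ← pow_add, hr, hmul,
          MulAut.one_apply]
    have hprod : ∀ (s : Finset (Fin e)) (g : Fin e → Polynomial ℤ),
        (∀ i ∈ s, Function.Injective (φ (g i))) → Function.Injective (φ (∏ i ∈ s, g i)) := by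
      intro s g hg
      refine Finset.prod_induction g (fun P => Function.Injective (φ P)) (fun P P' h1 h2 => ?_) ?_ hg
      · rw [map_mul]
        exact h1.comp h2
      · rw [map_one]
        exact Function.injective_id
    exact hprod _ _ fun i _ => hprod _ _ fun j hj => hinj i j (Finset.mem_Ioi.1 hj)
  let Φ : (Fin e → C) →* U :=
    { toFun := fun c => ∏ j : Fin e, ρ (h ^ (j : ℕ)) (c j : U)
      map_one' := by simp
      map_mul' := fun c d => by simp [Finset.prod_mul_distrib] }
  have hΦ : Function.Injective Φ := by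
    rw [injective_iff_map_eq_one]
    intro c hc
    have hrow : ∀ i : Fin e, ∑ j, φ (M i j) (Additive.ofMul (c j : U)) = 0 := by
      intro i
      have h0 : ρ (z ^ (i : ℕ)) (Φ c) = 1 := by rw [hc, map_one]
      have hz : ∀ (n : ℕ) (x : U), x ∈ C → ρ (z ^ n) x = x := fun n x hx => by
        induction n with
        | zero => rw [pow_zero, map_one, MulAut.one_apply]
        | succ n ih => rw [pow_act_succ, ih, hC x hx]
      have h0' : ∑ j : Fin e, Additive.ofMul (ρ (z ^ (i : ℕ)) (ρ (h ^ (j : ℕ)) (c j : U))) = 0 := by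
        rw [← ofMul_prod, ← map_prod]
        exact congrArg Additive.ofMul h0
      refine (Finset.sum_congr rfl fun j _ => ?_).trans h0'
      · rw [show M i j = (Polynomial.X ^ a i i.2) ^ (j : ℕ) from rfl, ← pow_mul, hX, toMul_ofMul]
        refine congrArg Additive.ofMul ?_
        rw [pow_mul, ← ha i i.2, conj_pow, map_mul, map_mul, MulAut.mul_apply, MulAut.mul_apply]
        refine congrArg _ (congrArg _ ?_)
        conv_lhs => rw [← hz i _ (c j).2]
        rw [← MulAut.mul_apply, ← map_mul, inv_mul_cancel, map_one, MulAut.one_apply]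
    funext l
    refine Subtype.ext (Additive.ofMul.injective (hdet ?_))
    show φ M.det (Additive.ofMul (c l : U)) = φ M.det 0
    rw [map_zero]
    have h1 : ∑ i, φ (M.adjugate l i) (∑ j, φ (M i j) (Additive.ofMul (c j : U))) = 0 :=
      Finset.sum_eq_zero fun i _ => by rw [hrow i, map_zero]
    rw [← h1]
    simp only [map_sum]
    rw [Finset.sum_comm]
    have h2 : ∀ j, ∑ i, φ (M.adjugate l i) (φ (M i j) (Additive.ofMul (c j : U))) =
        φ ((M.adjugate * M) l j) (Additive.ofMul (c j : U)) := fun j => by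
      rw [Matrix.mul_apply, map_sum]
      refine Eq.trans ?_ (AddMonoidHom.finsetSum_apply
        (fun i => φ (M.adjugate l i * M i j)) Finset.univ _).symm
      exact Finset.sum_congr rfl fun i _ => by rw [map_mul]; rfl
    rw [Finset.sum_congr rfl fun j _ => h2 j, Matrix.adjugate_mul,
      Finset.sum_eq_single l (fun j _ hj => by simp [Matrix.one_apply_ne (Ne.symm hj)])
        (fun h0 => absurd (Finset.mem_univ _) h0)]
    simp
  have h1 := Nat.card_le_card_of_injective Φ hΦ
  rwa [Nat.card_fun, Nat.card_fin] at h1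

/-- An abelian group acting without fixed points modulo a subgroup of index `q`. -/
theorem exists_hyperplane [Finite U] {Z : Type*} [CommGroup Z] [Finite Z] {q : ℕ} (hq : q.Prime)
    (τ : Z →* MulAut U) (hZ : ∀ z : Z, z ^ q = 1) (hU : (Nat.card U).Coprime q)
    (hne : ∃ z u, τ z u ≠ u) :
    ∃ (K : Subgroup Z) (U' : Subgroup U) (z : Z), U' ≠ ⊥ ∧ z ∉ K ∧ K.index = q ∧
      (∀ k ∈ K, ∀ u ∈ U', τ k u = u) ∧
      (∀ (σ : MulAut U), (∀ a : Z, σ * τ a = τ a * σ) → ∀ u ∈ U', σ u ∈ U') ∧
      ∀ i : ℕ, ¬ q ∣ i → ∀ u ∈ U', τ (z ^ i) u = u → u = 1 := by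
  classical
  haveI := Fintype.ofFinite Z
  haveI := Fact.mk hq
  have hZp : IsPGroup q Z := fun z => ⟨1, by rw [pow_one]; exact hZ z⟩
  have hUZ : (Nat.card U).Coprime (Nat.card Z) := by
    obtain ⟨k, hk⟩ := IsPGroup.iff_card.1 hZp
    rw [hk]
    exact hU.pow_right k
  let P : Subgroup Z → Prop := fun S => ∃ u, (∀ k ∈ S, τ k u = u) ∧ ∃ z, τ z u ≠ u
  obtain ⟨z₀, u₀, hu₀⟩ := hne
  have hP0 : P ⊥ := ⟨u₀, fun k hk => by rw [Subgroup.mem_bot.1 hk, map_one, MulAut.one_apply], z₀, hu₀⟩
  obtain ⟨K, hK, hKmax⟩ := (Set.toFinite {S | P S}).exists_maximal ⟨⊥, hP0⟩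
  obtain ⟨u₁, hu₁, z₁, hz₁⟩ := hK
  let norm : U →* U :=
    { toFun := fun u => ∏ z : Z, τ z u
      map_one' := by simp
      map_mul' := fun u v => by simp [Finset.prod_mul_distrib] }
  let U' : Subgroup U :=
    { carrier := {u | (∀ k ∈ K, τ k u = u) ∧ norm u = 1}
      one_mem' := ⟨fun k _ => map_one _, map_one _⟩
      mul_mem' := fun {u v} hu hv => ⟨fun k hk => by rw [map_mul, hu.1 k hk, hv.1 k hk],
        by rw [map_mul, hu.2, hv.2, one_mul]⟩
      inv_mem' := fun {u} hu => ⟨fun k hk => by rw [map_inv, hu.1 k hk], by rw [map_inv, hu.2, inv_one]⟩ }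
  have hfixall : ∀ u ∈ U', (∀ z, τ z u = u) → u = 1 := fun u hu hall => by
    have h1 : norm u = 1 := hu.2
    simp only [norm, MonoidHom.coe_mk, OneHom.coe_mk, hall, Finset.prod_const, Finset.card_univ] at h1
    exact eq_one_of_pow_coprime hUZ pow_card_eq_one' (by rw [Nat.card_eq_fintype_card]; exact h1)
  have hfpf : ∀ z ∉ K, ∀ u ∈ U', τ z u = u → u = 1 := by
    intro z hz u hu hfix
    refine hfixall u hu fun w => ?_
    by_contra hw
    have hle := hKmax (y := K ⊔ Subgroup.zpowers z) ⟨u, fun k hk => ?_, w, hw⟩ le_sup_left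
    · exact hz (hle (Subgroup.mem_sup_right (Subgroup.mem_zpowers z)))
    have hs : K ⊔ Subgroup.zpowers z ≤ (MulAction.stabilizer (MulAut U) u).comap τ :=
      sup_le (fun k hk => hu.1 k hk) (Subgroup.zpowers_le.2 hfix)
    exact hs hk
  have hnormfix : ∀ (a : Z) (u : U), τ a (norm u) = norm u := fun a u => by
    simp only [norm, MonoidHom.coe_mk, OneHom.coe_mk, map_prod]
    exact Fintype.prod_equiv (Equiv.mulLeft a) _ _ fun b => by simp [map_mul]
  have hne' : U' ≠ ⊥ := by
    intro hbot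
    set v := u₁ ^ Nat.card Z * (norm u₁)⁻¹ with hvdef
    have hv : v ∈ U' := by
      refine ⟨fun k hk => by rw [hvdef, map_mul, map_inv, map_pow, hu₁ k hk, hnormfix], ?_⟩
      show norm v = 1
      rw [hvdef, map_mul, map_inv, map_pow]
      conv_lhs =>
        arg 2
        arg 1
        rw [show norm (norm u₁) = ∏ z : Z, τ z (norm u₁) from rfl]
        simp only [hnormfix, Finset.prod_const, Finset.card_univ, ← Nat.card_eq_fintype_card]
      exact mul_inv_cancel _
    rw [hbot, Subgroup.mem_bot, hvdef, mul_inv_eq_one] at hv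
    refine hz₁ ?_
    have h2 : (τ z₁ u₁ * u₁⁻¹) ^ Nat.card Z = 1 := by
      rw [mul_pow, inv_pow, ← map_pow, hv, hnormfix, mul_inv_cancel]
    exact mul_inv_eq_one.1 (eq_one_of_pow_coprime hUZ pow_card_eq_one' h2)
  have hz₁K : z₁ ∉ K := fun h => hz₁ (hu₁ z₁ h)
  refine ⟨K, U', z₁, hne', hz₁K, ?_, fun k hk u hu => hu.1 k hk, fun σ hσ u hu => ⟨fun k hk => ?_, ?_⟩,
    fun i hi u hu hf => hfpf _ (fun hmem => hz₁K ?_) u hu hf⟩
  · -- the index
    have hidx : K.index ≠ 1 := fun e => hz₁K ((Subgroup.index_eq_one.1 e).symm ▸ Subgroup.mem_top z₁)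
    have hgen : ∀ z : Z, z ∈ K ⊔ Subgroup.zpowers z₁ := by
      intro z
      by_contra hz
      have hzK : z ∉ K := fun h => hz (Subgroup.mem_sup_left h)
      haveI : Nontrivial U' := (Subgroup.nontrivial_iff_ne_bot U').2 hne'
      let res : Z →* MulAut U' :=
        { toFun := fun a =>
            { toFun := fun u => ⟨τ a u, ⟨fun k hk => by
                  rw [← MulAut.mul_apply, ← map_mul, mul_comm, map_mul, MulAut.mul_apply, u.2.1 k hk],
                show norm (τ a (u : U)) = 1 by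
                  rw [← u.2.2]
                  exact Fintype.prod_equiv (Equiv.mulRight a) _ _ fun b => by simp [map_mul]⟩⟩
              invFun := fun u => ⟨τ a⁻¹ u, ⟨fun k hk => by
                  rw [← MulAut.mul_apply, ← map_mul, mul_comm, map_mul, MulAut.mul_apply, u.2.1 k hk],
                show norm (τ a⁻¹ (u : U)) = 1 by
                  rw [← u.2.2]
                  exact Fintype.prod_equiv (Equiv.mulRight a⁻¹) _ _ fun b => by simp [map_mul]⟩⟩
              left_inv := fun u => Subtype.ext (by simp)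
              right_inv := fun u => Subtype.ext (by simp)
              map_mul' := fun u v => Subtype.ext (map_mul _ _ _) }
          map_one' := MulEquiv.ext fun u => Subtype.ext (by simp)
          map_mul' := fun a b => MulEquiv.ext fun u => Subtype.ext (by simp [map_mul]) }
      have hco : (Nat.card U').Coprime q := hU.coprime_dvd_left (Subgroup.card_subgroup_dvd_card U')
      obtain ⟨u, hu⟩ := exists_ne (1 : U')
      refine hu (eq_one_of_two res hq hco ((Commute.all z₁ z).map res) (by rw [hZ, map_one])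
        (by rw [hZ, map_one]) (fun i j hij v hv => Subtype.ext ?_) u)
      refine hfpf (z₁ ^ i * z ^ j) (fun hmem => hij ?_) v v.2 ?_
      · have hj : q ∣ j := by
          by_contra hj
          obtain ⟨l, hl⟩ := exists_pow_eq_self_of_coprime (x := z)
            ((hq.coprime_iff_not_dvd.2 hj).symm.coprime_dvd_right (orderOf_dvd_of_pow_eq_one (hZ z)))
          refine hz (hl ▸ Subgroup.pow_mem _ ?_ l)
          rw [show z ^ j = (z₁ ^ i)⁻¹ * (z₁ ^ i * z ^ j) by group]
          exact mul_mem (inv_mem (Subgroup.mem_sup_right (Subgroup.npow_mem_zpowers _ _)))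
            (Subgroup.mem_sup_left hmem)
        refine ⟨?_, hj⟩
        by_contra hi'
        obtain ⟨l, hl⟩ := exists_pow_eq_self_of_coprime (x := z₁)
          ((hq.coprime_iff_not_dvd.2 hi').symm.coprime_dvd_right (orderOf_dvd_of_pow_eq_one (hZ z₁)))
        obtain ⟨j', rfl⟩ := hj
        rw [pow_mul, hZ, one_pow, mul_one] at hmem
        exact hz₁K (hl ▸ K.pow_mem hmem l)
      · rw [map_mul, MulAut.mul_apply]
        exact congrArg Subtype.val hv
    have htop : Subgroup.zpowers (z₁ : Z ⧸ K) = ⊤ := by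
      refine (Subgroup.eq_top_iff' _).2 fun x => ?_
      induction x using QuotientGroup.induction_on with
      | H x =>
        obtain ⟨k, hk, w, hw, rfl⟩ := Subgroup.mem_sup.1 (hgen x)
        obtain ⟨n, rfl⟩ := Subgroup.mem_zpowers_iff.1 hw
        refine Subgroup.mem_zpowers_iff.2 ⟨n, ?_⟩
        rw [QuotientGroup.mk_mul, (QuotientGroup.eq_one_iff k).2 hk, one_mul, QuotientGroup.mk_zpow]
    rw [K.index_eq_card, ← Subgroup.card_top, ← htop, Nat.card_zpowers]
    exact orderOf_eq_prime (by rw [← QuotientGroup.mk_pow, hZ, QuotientGroup.mk_one])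
      fun e => hz₁K ((QuotientGroup.eq_one_iff z₁).1 e)
  · rw [← MulAut.mul_apply, ← hσ k, MulAut.mul_apply, hu.1 k hk]
  · show norm (σ u) = 1
    have : norm (σ u) = σ (norm u) := by
      simp only [norm, MonoidHom.coe_mk, OneHom.coe_mk, map_prod]
      exact Finset.prod_congr rfl fun z _ => by rw [← MulAut.mul_apply, ← hσ z, MulAut.mul_apply]
    rw [this, hu.2, map_one]
  · obtain ⟨l, hl⟩ := exists_pow_eq_self_of_coprime (x := z₁)
      ((hq.coprime_iff_not_dvd.2 hi).symm.coprime_dvd_right (orderOf_dvd_of_pow_eq_one (hZ z₁)))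
    exact hl ▸ K.pow_mem hmem l

end Cfsg.Agent.NoDivDeg.Fpf
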