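/-
A `q`-group with an abelian group of operators of order prime to `q`, semiregular on the moved
part of the abelianization, each nonlinear character having a nontrivial stabilizer and the degrees
multiplied by the orbit lengths forming an antichain.

Main results: `QData`, `fixMod`, `movMod`, `QData.apply_eq_zero`, `QData.fixer_eq_of_le`.
-/
import Cfsg.Agent.Lib.NoDivDeg.QBase
import Cfsg.Agent.Lib.NoDivDeg.Orbits
import Cfsg.Agent.Lib.NoDivDeg.Fpf

set_option autoImplicit false
set_option linter.style.haveILetI false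

namespace Cfsg.Agent.NoDivDeg

open Cfsg Cfsg.Agent.Char Cfsg.Agent.CharApp Cfsg.Agent.CharApp.DegreeSets
open scoped ComplexConjugate commutatorElement

universe u v

variable {Q : Type u} [Group Q] {C : Type v} [CommGroup C] (φ : C →* MulAut Q)

theorem phi_mul_apply (c d : C) (x : Q) : φ (c * d) x = φ c (φ d x) := by rw [map_mul, MulAut.mul_apply]

theorem phi_mem {J : Subgroup Q} [hJ : J.Characteristic] (c : C) {x : Q} (hx : x ∈ J) : φ c x ∈ J :=
  Subgroup.characteristic_iff_map_le.1 hJ (φ c) (Subgroup.mem_map_of_mem _ hx)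

theorem phi_bracket (c : C) (a b : Q) : φ c ⁅a, b⁆ = ⁅φ c a, φ c b⁆ := map_commutatorElement _ a b

/-- The stabilizer of a function. -/
def stabC (θ : Q → ℂ) : Subgroup C where
  carrier := {c | ∀ x, θ (φ c x) = θ x}
  one_mem' := fun x => by rw [map_one, MulAut.one_apply]
  mul_mem' := fun {c d} hc hd x => by rw [phi_mul_apply, hc, hd]
  inv_mem' := fun {c} hc x => by
    conv_rhs => rw [← MulAut.one_apply (M := Q) x, ← map_one φ, ← mul_inv_cancel c, phi_mul_apply, hc]

theorem mem_stabC {θ : Q → ℂ} {c : C} : c ∈ stabC φ θ ↔ ∀ x, θ (φ c x) = θ x := Iff.rfl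

/-- The operators fixing a character of a subgroup. -/
def fixer {J : Subgroup Q} [J.Characteristic] (ν : J →* ℂˣ) : Subgroup C where
  carrier := {c | ∀ x ∈ J, val ν (φ c x) = val ν x}
  one_mem' := fun x _ => by rw [map_one, MulAut.one_apply]
  mul_mem' := fun {c d} hc hd x hx => by rw [phi_mul_apply, hc _ (phi_mem φ d hx), hd x hx]
  inv_mem' := fun {c} hc x hx => by
    conv_rhs => rw [← MulAut.one_apply (M := Q) x, ← map_one φ, ← mul_inv_cancel c, phi_mul_apply,
      hc _ (phi_mem φ c⁻¹ hx)]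

theorem mem_fixer {J : Subgroup Q} [J.Characteristic] {ν : J →* ℂˣ} {c : C} :
    c ∈ fixer φ ν ↔ ∀ x ∈ J, val ν (φ c x) = val ν x := Iff.rfl

/-- The elements fixed modulo the derived subgroup. -/
def fixMod : Subgroup Q where
  carrier := {x | ∀ c : C, Abelianization.of (φ c x) = Abelianization.of x}
  one_mem' := fun c => by rw [map_one]
  mul_mem' := fun {x y} hx hy c => by rw [map_mul, map_mul, hx c, hy c, ← map_mul]
  inv_mem' := fun {x} hx c => by rw [map_inv, map_inv, hx c, ← map_inv]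

/-- The moved part modulo the derived subgroup. -/
def movMod : Subgroup Q :=
  commutator Q ⊔ Subgroup.closure {z | ∃ (c : C) (x : Q), z = φ c x * x⁻¹}

theorem mem_fixMod {x : Q} : x ∈ fixMod φ ↔ ∀ c : C, Abelianization.of (φ c x) = Abelianization.of x :=
  Iff.rfl

theorem commutator_le_fixMod : commutator Q ≤ fixMod φ := fun x hx c => by
  rw [show Abelianization.of x = 1 from (QuotientGroup.eq_one_iff x).2 hx]
  exact (QuotientGroup.eq_one_iff _).2 (phi_mem φ c hx)

theorem commutator_le_movMod : commutator Q ≤ movMod φ := le_sup_left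

theorem delta_mem_movMod (c : C) (x : Q) : φ c x * x⁻¹ ∈ movMod φ :=
  le_sup_right (α := Subgroup Q) (Subgroup.subset_closure ⟨c, x, rfl⟩)

theorem normal_of_commutator_le {H : Subgroup Q} (h : commutator Q ≤ H) : H.Normal :=
  ⟨fun n hn g => by
    rw [show g * n * g⁻¹ = (g * n * g⁻¹ * n⁻¹) * n by group]
    exact H.mul_mem (h (Subgroup.commutator_mem_commutator (Subgroup.mem_top g) (Subgroup.mem_top n))) hn⟩

instance fixMod_normal : (fixMod φ).Normal :=
  normal_of_commutator_le (commutator_le_fixMod φ)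

instance movMod_normal : (movMod φ).Normal :=
  normal_of_commutator_le (commutator_le_movMod φ)

theorem phi_mem_movMod (c : C) {w : Q} (hw : w ∈ movMod φ) : φ c w ∈ movMod φ := by
  have := (movMod φ).mul_mem (delta_mem_movMod φ c w) hw
  rwa [inv_mul_cancel_right] at this

theorem phi_mem_fixMod (c : C) {x : Q} (hx : x ∈ fixMod φ) : φ c x ∈ fixMod φ := fun d => by
  rw [← phi_mul_apply, hx, hx]

/-- The action on the invariant characters of a characteristic subgroup. -/
noncomputable def cAct (J : Subgroup Q) [J.Characteristic] : C →* MulAut (central J) where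
  toFun c :=
    { toFun := fun μ => ⟨MonoidHom.mk' (fun j => val (μ : J →* ℂˣ) (φ c⁻¹ j))
          (fun i j => by
            rw [Subgroup.coe_mul, map_mul, val_mul _ (phi_mem φ c⁻¹ i.2) (phi_mem φ c⁻¹ j.2)]),
        fun x j => by
          show val _ (φ c⁻¹ ((MulAut.conjNormal x j : J) : Q)) = val _ (φ c⁻¹ (j : Q))
          rw [MulAut.conjNormal_apply, map_mul (φ c⁻¹), map_mul (φ c⁻¹), map_inv (φ c⁻¹) x,
            val_conj μ.2 _ (phi_mem φ c⁻¹ j.2)]⟩
      invFun := fun μ => ⟨MonoidHom.mk' (fun j => val (μ : J →* ℂˣ) (φ c j))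
          (fun i j => by rw [Subgroup.coe_mul, map_mul, val_mul _ (phi_mem φ c i.2) (phi_mem φ c j.2)]),
        fun x j => by
          show val _ (φ c ((MulAut.conjNormal x j : J) : Q)) = val _ (φ c (j : Q))
          rw [MulAut.conjNormal_apply, map_mul (φ c), map_mul (φ c), map_inv (φ c) x,
            val_conj μ.2 _ (phi_mem φ c j.2)]⟩
      left_inv := fun μ => Subtype.ext (MonoidHom.ext fun j => by
        show val _ (φ c (j : Q)) = _
        rw [val_of_mem _ (phi_mem φ c j.2)]
        show val (μ : J →* ℂˣ) (φ c⁻¹ (φ c (j : Q))) = _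
        rw [← phi_mul_apply, inv_mul_cancel, map_one, MulAut.one_apply, val_coe])
      right_inv := fun μ => Subtype.ext (MonoidHom.ext fun j => by
        show val _ (φ c⁻¹ (j : Q)) = _
        rw [val_of_mem _ (phi_mem φ c⁻¹ j.2)]
        show val (μ : J →* ℂˣ) (φ c (φ c⁻¹ (j : Q))) = _
        rw [← phi_mul_apply, mul_inv_cancel, map_one, MulAut.one_apply, val_coe])
      map_mul' := fun μ ν => Subtype.ext (MonoidHom.ext fun j => by
        show val ((μ : J →* ℂˣ) * (ν : J →* ℂˣ)) _ = val (μ : J →* ℂˣ) _ * val (ν : J →* ℂˣ) _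
        rw [val_of_mem _ (phi_mem φ c⁻¹ j.2), val_of_mem _ (phi_mem φ c⁻¹ j.2), val_of_mem _ (phi_mem φ c⁻¹ j.2)]
        rfl) }
  map_one' := MulEquiv.ext fun μ => Subtype.ext (MonoidHom.ext fun j => by
    show val _ (φ 1⁻¹ (j : Q)) = _
    rw [inv_one, map_one, MulAut.one_apply, val_coe]
    rfl)
  map_mul' c d := MulEquiv.ext fun μ => Subtype.ext (MonoidHom.ext fun j => by
    show val _ (φ (c * d)⁻¹ (j : Q)) = val _ (φ c⁻¹ (j : Q))
    rw [val_of_mem _ (phi_mem φ c⁻¹ j.2)]
    show _ = val (μ : J →* ℂˣ) (φ d⁻¹ (φ c⁻¹ (j : Q)))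
    rw [← phi_mul_apply, mul_inv_rev])

theorem val_cAct (J : Subgroup Q) [J.Characteristic] (c : C) (μ : central J) {x : Q} (hx : x ∈ J) :
    val ((cAct φ J c μ : central J) : J →* ℂˣ) x = val (μ : J →* ℂˣ) (φ c⁻¹ x) :=
  val_coe _ ⟨x, hx⟩

variable [Finite Q] [Finite C]

/-- The operators' data. -/
structure QData (q : ℕ) : Prop where
  prime : q.Prime
  pgroup : IsPGroup q Q
  cop : (Nat.card C).Coprime q
  semireg : ∀ c : C, c ≠ 1 → ∀ x : Q, Abelianization.of (φ c x) = Abelianization.of x → x ∈ fixMod φ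
  moved : ∃ (c : C) (x : Q), Abelianization.of (φ c x) ≠ Abelianization.of x
  fix : ∀ θ : IrrCharacter Q, charDegree (θ : Q → ℂ) ≠ 1 → ∃ c ∈ stabC φ (θ : Q → ℂ), c ≠ 1
  anti : ∀ θ θ' : IrrCharacter Q, charDegree (θ : Q → ℂ) ≠ 1 → charDegree (θ' : Q → ℂ) ≠ 1 →
    (stabC φ (θ : Q → ℂ)).index * charDegree (θ : Q → ℂ) ∣
      (stabC φ (θ' : Q → ℂ)).index * charDegree (θ' : Q → ℂ) →
    (stabC φ (θ : Q → ℂ)).index * charDegree (θ : Q → ℂ) =
      (stabC φ (θ' : Q → ℂ)).index * charDegree (θ' : Q → ℂ)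
  notPrime : ¬ (Nat.card C).Prime

variable {φ} {q : ℕ}

theorem QData.eq_one_of_pow (h : QData φ q) {x : Q} (hx : x ^ Nat.card C = 1) : x = 1 := by
  obtain ⟨k, hk⟩ := h.pgroup x
  exact Fpf.eq_one_of_pow_coprime (h.cop.pow_right k) hx hk

theorem QData.units_eq_one {H : Subgroup Q} (h : QData φ q) (τ : H →* ℂˣ) {x : H} {r : ℂˣ}
    (hr : r = τ x) (hc : r ^ Nat.card C = 1) : r = 1 := by
  obtain ⟨k, hk⟩ := h.pgroup x
  refine Fpf.eq_one_of_pow_coprime (h.cop.pow_right k) hc ?_
  rw [hr, ← map_pow, show x ^ q ^ k = 1 from Subtype.ext hk, map_one]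

/-- A character changed by a fixed amount along an operator is fixed by it. -/
theorem QData.val_fix (h : QData φ q) {H : Subgroup Q} (τ : H →* ℂˣ) (d : C)
    (hH : ∀ x ∈ H, φ d x ∈ H)
    (hd : ∀ x ∈ H, val τ (φ d (φ d x)) * val τ x = val τ (φ d x) * val τ (φ d x)) {x : Q} (hx : x ∈ H) :
    val τ (φ d x) = val τ x := by
  have hHi : ∀ i : ℕ, φ (d ^ i) x ∈ H := by
    intro i
    induction i with
    | zero => rwa [pow_zero, map_one, MulAut.one_apply]
    | succ i ih => rw [pow_succ', phi_mul_apply]; exact hH _ ih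
  let g : Q → ℂˣ := fun x => val τ (φ d x) * (val τ x)⁻¹
  have hg : ∀ x ∈ H, g (φ d x) = g x := fun x hx => by
    simp only [g]
    rw [mul_inv_eq_iff_eq_mul, mul_right_comm, eq_mul_inv_iff_mul_eq]
    exact hd x hx
  have hgi : ∀ i : ℕ, g (φ (d ^ i) x) = g x := by
    intro i
    induction i with
    | zero => rw [pow_zero, map_one, MulAut.one_apply]
    | succ i ih => rw [pow_succ', phi_mul_apply, hg _ (hHi i), ih]
  have hfi : ∀ i : ℕ, val τ (φ (d ^ i) x) = val τ x * g x ^ i := by
    intro i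
    induction i with
    | zero => rw [pow_zero, map_one, MulAut.one_apply, pow_zero, mul_one]
    | succ i ih =>
      have h2 : val τ (φ d (φ (d ^ i) x)) = g (φ (d ^ i) x) * val τ (φ (d ^ i) x) :=
        (inv_mul_cancel_right _ _).symm
      rw [pow_succ', phi_mul_apply, h2, hgi, ih, pow_succ', mul_left_comm]
  have h1 := hfi (Nat.card C)
  rw [pow_card_eq_one', map_one, MulAut.one_apply] at h1
  have h5 : g x = 1 := by
    refine h.units_eq_one τ (x := ⟨φ d x, hH x hx⟩ * (⟨x, hx⟩ : H)⁻¹) ?_ (left_eq_mul.1 h1)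
    rw [map_mul, map_inv, ← val_of_mem τ hx, ← val_of_mem τ (hH x hx)]
  exact mul_inv_eq_one.1 h5

omit [Finite Q] in
theorem abelianizationOf_surjective (a : Abelianization Q) : ∃ x : Q, Abelianization.of x = a :=
  QuotientGroup.mk_surjective a

/-- The displacement of an operator on the abelianization. -/
noncomputable def delta (c : C) : Abelianization Q →* Abelianization Q where
  toFun a := (φ c).abelianizationCongr a * a⁻¹
  map_one' := by rw [map_one, inv_one, one_mul]
  map_mul' a b := by rw [map_mul, mul_inv, mul_mul_mul_comm]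

theorem delta_of (c : C) (x : Q) :
    delta (φ := φ) c (Abelianization.of x) = Abelianization.of (φ c x * x⁻¹) := by
  rw [map_mul, map_inv]
  rfl

theorem QData.mem_ker_delta (h : QData φ q) {c : C} (hc : c ≠ 1) {x : Q} :
    Abelianization.of x ∈ (delta (φ := φ) c).ker ↔ x ∈ fixMod φ := by
  rw [MonoidHom.mem_ker, delta_of, map_mul, map_inv, mul_inv_eq_one]
  exact ⟨h.semireg c hc x, fun hx => hx c⟩

theorem QData.range_inf_ker (h : QData φ q) {c : C} (hc : c ≠ 1) :
    (delta (φ := φ) c).range ⊓ (delta (φ := φ) c).ker = ⊥ := by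
  refine (Subgroup.eq_bot_iff_forall _).2 ?_
  rintro z ⟨⟨a, rfl⟩, hz⟩
  set s := (φ c).abelianizationCongr
  have hz' : s (s a * a⁻¹) = s a * a⁻¹ := mul_inv_eq_one.1 hz
  have hit : ∀ i : ℕ, (φ (c ^ i)).abelianizationCongr a = a * (s a * a⁻¹) ^ i := by
    intro i
    induction i with
    | zero =>
      obtain ⟨x, rfl⟩ := abelianizationOf_surjective a
      rw [pow_zero, pow_zero, mul_one, map_one]
      rfl
    | succ i ih =>
      have e : (φ (c ^ (i + 1))).abelianizationCongr a = s ((φ (c ^ i)).abelianizationCongr a) := by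
        obtain ⟨x, rfl⟩ := abelianizationOf_surjective a
        rw [pow_succ', map_mul]
        rfl
      rw [e, ih, map_mul, map_pow, hz', pow_succ', ← mul_assoc]
      congr 1
      rw [mul_comm, inv_mul_cancel_right]
  have h1 := hit (Nat.card C)
  obtain ⟨x, rfl⟩ := abelianizationOf_surjective a
  rw [pow_card_eq_one', map_one] at h1
  have h2 : (s (Abelianization.of x) * (Abelianization.of x)⁻¹) ^ Nat.card C = 1 := left_eq_mul.1 h1
  obtain ⟨k, hk⟩ := h.pgroup (φ c x * x⁻¹)
  exact Fpf.eq_one_of_pow_coprime (h.cop.pow_right k) h2 (by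
    show (Abelianization.of (φ c x) * (Abelianization.of x)⁻¹) ^ _ = 1
    rw [← map_inv, ← map_mul, ← map_pow, hk, map_one])

theorem QData.movMod_eq (h : QData φ q) {c : C} (hc : c ≠ 1) :
    movMod φ = (delta (φ := φ) c).range.comap Abelianization.of := by
  have hinv : ∀ d : C, ∀ a, delta (φ := φ) d (delta (φ := φ) c a) ∈ (delta (φ := φ) c).range := by
    intro d a
    refine ⟨delta (φ := φ) d a, ?_⟩
    obtain ⟨x, rfl⟩ := abelianizationOf_surjective a
    show delta (φ := φ) c (delta (φ := φ) d (Abelianization.of x)) = delta (φ := φ) d (delta (φ := φ) c (Abelianization.of x))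
    simp only [delta_of, map_mul, map_inv]
    rw [← phi_mul_apply, ← phi_mul_apply, mul_comm d c]
    generalize Abelianization.of (φ (c * d) x) = A
    generalize Abelianization.of (φ c x) = B
    generalize Abelianization.of (φ d x) = D
    generalize Abelianization.of x = E
    simp only [mul_inv, inv_inv, mul_comm, mul_left_comm, mul_assoc]
  have htop : ∀ a, ∃ r ∈ (delta (φ := φ) c).range, ∃ k ∈ (delta (φ := φ) c).ker, a = r * k := by
    intro a
    have hinj : Function.Injective (fun p : (delta (φ := φ) c).range × (delta (φ := φ) c).ker =>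
        (p.1 : Abelianization Q) * p.2) := by
      rintro ⟨r, k⟩ ⟨r', k'⟩ e
      have e' : (r : Abelianization Q)⁻¹ * r' = k * (k' : Abelianization Q)⁻¹ := by
        rw [eq_mul_inv_iff_mul_eq, mul_assoc, inv_mul_eq_iff_eq_mul]
        exact e.symm
      have h1 : (r : Abelianization Q)⁻¹ * r' ∈ (delta (φ := φ) c).range ⊓ (delta (φ := φ) c).ker :=
        ⟨Subgroup.mul_mem _ (Subgroup.inv_mem _ r.2) r'.2, by
          rw [e']; exact Subgroup.mul_mem _ k.2 (Subgroup.inv_mem _ k'.2)⟩
      rw [h.range_inf_ker hc, Subgroup.mem_bot] at h1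
      have hr : r = r' := Subtype.ext (inv_mul_eq_one.1 h1)
      subst hr
      rw [inv_mul_cancel] at e'
      exact Prod.ext rfl (Subtype.ext (mul_inv_eq_one.1 e'.symm))
    have hbij := (Nat.bijective_iff_injective_and_card _).2 ⟨hinj, by
      rw [Nat.card_prod, ← Subgroup.index_ker, mul_comm, Subgroup.card_mul_index]⟩
    obtain ⟨⟨r, k⟩, hp⟩ := hbij.2 a
    exact ⟨r, r.2, k, k.2, hp.symm⟩
  refine le_antisymm (sup_le (fun x hx => ?_) ((Subgroup.closure_le _).2 ?_)) ?_
  · rw [Subgroup.mem_comap, show Abelianization.of x = 1 from (QuotientGroup.eq_one_iff x).2 hx]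
    exact one_mem _
  · rintro _ ⟨d, x, rfl⟩
    rw [SetLike.mem_coe, Subgroup.mem_comap, ← delta_of]
    obtain ⟨r, ⟨a, rfl⟩, k, hk, e⟩ := htop (Abelianization.of x)
    obtain ⟨k, rfl⟩ := abelianizationOf_surjective k
    rw [e, map_mul]
    refine Subgroup.mul_mem _ (hinv d a) ?_
    show delta (φ := φ) d (Abelianization.of k) ∈ _
    rw [delta_of, map_mul, map_inv, (h.mem_ker_delta hc).1 hk d, mul_inv_cancel]
    exact one_mem _
  · intro x hx
    obtain ⟨a, ha⟩ := hx
    obtain ⟨y, rfl⟩ := abelianizationOf_surjective a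
    change delta (φ := φ) c (Abelianization.of y) = _ at ha
    rw [delta_of] at ha
    have h1 : (φ c y * y⁻¹)⁻¹ * x ∈ commutator Q := QuotientGroup.eq.1 ha
    have := (movMod φ).mul_mem (delta_mem_movMod φ c y) (commutator_le_movMod φ h1)
    rwa [mul_inv_cancel_left] at this

theorem QData.exists_ne_one (h : QData φ q) : ∃ c : C, c ≠ 1 := by
  obtain ⟨c, x, hx⟩ := h.moved
  exact ⟨c, fun e => hx (by rw [e, map_one, MulAut.one_apply])⟩

theorem QData.fixMod_inf_movMod (h : QData φ q) {x : Q} (hx : x ∈ fixMod φ) (hx' : x ∈ movMod φ) :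
    x ∈ commutator Q := by
  obtain ⟨c, hc⟩ := h.exists_ne_one
  rw [h.movMod_eq hc, Subgroup.mem_comap] at hx'
  have : Abelianization.of x ∈ (delta (φ := φ) c).range ⊓ (delta (φ := φ) c).ker :=
    ⟨hx', (h.mem_ker_delta hc).2 hx⟩
  rw [h.range_inf_ker hc, Subgroup.mem_bot] at this
  exact (QuotientGroup.eq_one_iff x).1 this

theorem QData.exists_decomp (h : QData φ q) (x : Q) :
    ∃ w ∈ movMod φ, ∃ m ∈ fixMod φ, x = w * m := by
  obtain ⟨c, hc⟩ := h.exists_ne_one
  have hinj := h.range_inf_ker hc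
  have hsurj : ∀ a : (delta (φ := φ) c).range, ∃ b : (delta (φ := φ) c).range,
      delta (φ := φ) c (b : Abelianization Q) = (a : Abelianization Q) := by
    let R := (delta (φ := φ) c).range
    let f : R →* R := ((delta (φ := φ) c).comp R.subtype).codRestrict R fun a => ⟨_, rfl⟩
    have hf : Function.Injective f := (injective_iff_map_eq_one f).2 fun a ha => Subtype.ext (by
      have : (a : Abelianization Q) ∈ R ⊓ (delta (φ := φ) c).ker := ⟨a.2, congrArg Subtype.val ha⟩
      rwa [hinj, Subgroup.mem_bot] at this)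
    exact fun a => ((Finite.injective_iff_surjective.1 hf) a).imp fun b hb => congrArg Subtype.val hb
  obtain ⟨⟨b, hb⟩, e⟩ := hsurj ⟨_, ⟨Abelianization.of x, rfl⟩⟩
  obtain ⟨w, rfl⟩ := abelianizationOf_surjective b
  refine ⟨w, by rw [h.movMod_eq hc]; exact hb, w⁻¹ * x, ?_, (mul_inv_cancel_left w x).symm⟩
  refine (h.mem_ker_delta hc).1 ?_
  rw [map_mul, map_inv, MonoidHom.mem_ker, map_mul, map_inv]
  exact inv_mul_eq_one.2 e

theorem QData.delta_injective (h : QData φ q) {c : C} (hc : c ≠ 1) {w : Q} (hw : w ∈ movMod φ)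
    (he : Abelianization.of (φ c w) = Abelianization.of w) : w ∈ commutator Q :=
  h.fixMod_inf_movMod (h.semireg c hc w he) hw

theorem QData.exists_delta (h : QData φ q) {c : C} (hc : c ≠ 1) {w : Q} (hw : w ∈ movMod φ) :
    ∃ u ∈ movMod φ, (φ c u * u⁻¹)⁻¹ * w ∈ commutator Q := by
  rw [h.movMod_eq hc] at hw
  obtain ⟨a, ha⟩ := hw
  obtain ⟨y, rfl⟩ := abelianizationOf_surjective a
  obtain ⟨u, hu, m, hm, rfl⟩ := h.exists_decomp y
  refine ⟨u, hu, QuotientGroup.eq.1 ?_⟩
  show Abelianization.of (φ c u * u⁻¹) = Abelianization.of w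
  rw [← ha]
  show Abelianization.of (φ c u * u⁻¹) = delta (φ := φ) c (Abelianization.of (u * m))
  rw [map_mul Abelianization.of u m, map_mul (delta (φ := φ) c), delta_of, delta_of c m,
    map_mul _ (φ c m), map_inv, hm c, mul_inv_cancel, mul_one]

theorem QData.moved_mem (h : QData φ q) : ∃ w ∈ movMod φ, w ∉ commutator Q := by
  obtain ⟨c, x, hx⟩ := h.moved
  refine ⟨_, delta_mem_movMod φ c x, fun hm => hx ?_⟩
  refine (mul_inv_eq_one.1 ?_)
  rw [← map_inv, ← map_mul]
  exact (QuotientGroup.eq_one_iff _).2 hm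

/-- Nonlinear characters vanish off `fixMod`. -/
theorem QData.apply_eq_zero (h : QData φ q) {θ : IrrCharacter Q} (hθ : charDegree (θ : Q → ℂ) ≠ 1)
    {x : Q} (hx : x ∉ fixMod φ) : (θ : Q → ℂ) x = 0 := by
  classical
  haveI := Fintype.ofFinite Q
  set f : Q → ℂ := (θ : Q → ℂ)
  let S : (Q →* ℂˣ) → Prop := fun l => ∀ y, f y * (l y : ℂ) = f y
  let tr : C → (Q →* ℂˣ) → (Q →* ℂˣ) := fun c l => l.comp (φ c).toMonoidHom
  let T : (Q →* ℂˣ) → Prop := fun l => ∀ m ∈ fixMod φ, l m = 1
  -- stable subgroups of twists: an element moving a twist only inside them fixes it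
  have key : ∀ d : C, d ≠ 1 → (∀ l, S l → S (tr d l)) → ∀ l, T l → (∀ y, f y * (l (φ d y) : ℂ) = f y * (l y : ℂ)) →
      S l := by
    intro d hd hS l hl hld
    have hinj : ∀ y, f y ≠ 0 → l (φ d y) = l y := fun y hy => Units.ext (mul_left_cancel₀ hy (hld y))
    have hstable : ∀ (i : ℕ) (y : Q), f y ≠ 0 → l (φ (d ^ i) y) = l y := by
      intro i
      induction i with
      | zero => intro y _; rw [pow_zero, map_one, MulAut.one_apply]
      | succ i ih =>
        intro y hy
        let μ : Q →* ℂˣ := l.comp (φ (d ^ i)).toMonoidHom * l⁻¹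
        have hμ : S μ := fun z => by
          by_cases hz : f z = 0
          · rw [hz, zero_mul]
          · rw [MonoidHom.mul_apply, MonoidHom.comp_apply, MulEquiv.coe_toMonoidHom, ih z hz,
              MonoidHom.inv_apply, mul_inv_cancel, Units.val_one, mul_one]
        have h1 : μ (φ d y) = 1 := Units.ext (mul_left_cancel₀ hy (by
          rw [Units.val_one, mul_one]; exact hS μ hμ y))
        rw [MonoidHom.mul_apply, MonoidHom.comp_apply, MulEquiv.coe_toMonoidHom, MonoidHom.inv_apply,
          mul_inv_eq_one, ← phi_mul_apply, ← pow_succ, hinj y hy] at h1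
        exact h1
    -- the norm is fixed, so trivial
    let nrm : Q →* ℂˣ := ∏ i ∈ Finset.range (Nat.card C), l.comp (φ (d ^ i)).toMonoidHom
    have hnfix : ∀ y, nrm (φ d y) = nrm y := fun y => by
      simp only [nrm, MonoidHom.finsetProd_apply, MonoidHom.comp_apply, MulEquiv.coe_toMonoidHom, ← phi_mul_apply,
        ← pow_succ]
      refine mul_right_cancel (b := l (φ (d ^ 0) y)) ?_
      rw [← Finset.prod_range_succ' (fun i => l (φ (d ^ i) y)) (Nat.card C), Finset.prod_range_succ,
        pow_card_eq_one', pow_zero]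
    have hn1 : ∀ y, nrm y = 1 := by
      intro y
      obtain ⟨w, hw, m, hm, rfl⟩ := h.exists_decomp y
      have hTn : ∀ m ∈ fixMod φ, nrm m = 1 := fun m hm => by
        simp only [nrm, MonoidHom.finsetProd_apply, MonoidHom.comp_apply, MulEquiv.coe_toMonoidHom]
        exact Finset.prod_eq_one fun i _ => hl _ (phi_mem_fixMod φ _ hm)
      rw [map_mul, hTn m hm, mul_one]
      obtain ⟨u, hu, hd'⟩ := h.exists_delta hd hw
      have h2 := hTn _ (commutator_le_fixMod φ hd')
      rw [map_mul, map_inv, inv_mul_eq_one] at h2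
      rw [← h2, map_mul, map_inv, hnfix, mul_inv_cancel]
    intro y
    by_cases hy : f y = 0
    · rw [hy, zero_mul]
    have h2 := hn1 y
    simp only [nrm, MonoidHom.finsetProd_apply, MonoidHom.comp_apply, MulEquiv.coe_toMonoidHom,
      Finset.prod_congr rfl fun i _ => hstable i y hy, Finset.prod_const, Finset.card_range] at h2
    obtain ⟨k, hk⟩ := h.pgroup y
    rw [Fpf.eq_one_of_pow_coprime (h.cop.pow_right k) h2 (by rw [← map_pow, hk, map_one]), Units.val_one,
      mul_one]
  have hSstab : ∀ d : C, d ∈ stabC φ f → ∀ l, S l → S (tr d l) := fun d hd l hl y => by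
    have := hl (φ d y)
    rw [hd y] at this
    exact this
  obtain ⟨c, hc, hc1⟩ := h.fix θ hθ
  have hTS : ∀ l, T l → S l := by
    intro l hl
    refine key c hc1 (hSstab c hc) l hl ?_
    -- the twist and its image under `c` are fixed by one operator
    have hirr : IsIrrCharacter Q (fun y => f y * (l y : ℂ)) :=
      IsIrrCharacter.mul_linear θ.2 ((Units.coeHom ℂ).comp l)
    obtain ⟨d, hd, hd1⟩ := h.fix ⟨_, hirr⟩ (by
      show charDegree (fun y => f y * (l y : ℂ)) ≠ 1
      rw [show charDegree (fun y => f y * (l y : ℂ)) = charDegree f by simp [charDegree]]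
      exact hθ)
    have hd' : ∀ y, f (φ d y) * (l (φ d y) : ℂ) = f y * (l y : ℂ) := hd
    let μ : Q →* ℂˣ := tr c l * l⁻¹
    have hμS : S μ := by
      refine key d hd1 (fun ν hν y => ?_) μ (fun m hm => ?_) ?_
      · have := hν (φ d y)
        show f y * (ν (φ d y) : ℂ) = f y
        have e := hd' y
        calc f y * (ν (φ d y) : ℂ)
            = (f (φ d y) * (ν (φ d y) : ℂ)) * (l (φ d y) : ℂ) * ((l y)⁻¹ : ℂˣ) := by
              rw [mul_right_comm (f (φ d y)), e, mul_right_comm (f y * (l y : ℂ)), mul_assoc (f y),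
                ← Units.val_mul, mul_inv_cancel, Units.val_one, mul_one]
          _ = f y := by rw [this, e, mul_assoc, ← Units.val_mul, mul_inv_cancel, Units.val_one, mul_one]
      · show l (φ c m) * (l m)⁻¹ = 1
        rw [hl m hm, hl _ (phi_mem_fixMod φ c hm), mul_inv_cancel]
      · intro y
        show f y * ((l (φ c (φ d y)) * (l (φ d y))⁻¹ : ℂˣ) : ℂ) = f y * ((l (φ c y) * (l y)⁻¹ : ℂˣ) : ℂ)
        by_cases hy : f y = 0
        · simp [hy]
        have e1 := hd' (φ c y)
        rw [← phi_mul_apply, mul_comm d c, phi_mul_apply] at e1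
        simp only [show ∀ z, f (φ c z) = f z from hc] at e1
        have e2 := hd' y
        have hfd : f (φ d y) ≠ 0 := fun h0 => mul_ne_zero hy (Units.ne_zero (l y)) (by rw [← e2, h0, zero_mul])
        congr 1
        simp only [Units.val_mul, Units.val_inv_eq_inv_val]
        field_simp
        apply mul_left_cancel₀ (mul_ne_zero hy hfd)
        linear_combination (f y * (l y : ℂ)) * e1 - (f y * (l (φ c y) : ℂ)) * e2
    intro y
    have := hμS y
    by_cases hy : f y = 0
    · simp [hy]
    have h1 : tr c l y * (l y)⁻¹ = 1 :=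
      Units.ext (mul_left_cancel₀ hy (this.trans (by rw [Units.val_one, mul_one])))
    rw [show l (φ c y) = l y from mul_inv_eq_one.1 h1]
  -- separate `x` from `fixMod`
  have hab : ∀ u v : Q ⧸ fixMod φ, u * v = v * u := by
    intro u v
    induction u using QuotientGroup.induction_on with
    | H u => induction v using QuotientGroup.induction_on with
      | H v =>
        rw [← QuotientGroup.mk_mul, ← QuotientGroup.mk_mul, QuotientGroup.eq]
        refine commutator_le_fixMod φ ?_
        rw [commutator_def]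
        simpa [commutatorElement_def, mul_assoc] using
          Subgroup.commutator_mem_commutator (Subgroup.mem_top (v⁻¹)) (Subgroup.mem_top (u⁻¹))
  obtain ⟨l₀, hl₀⟩ := TwoDegrees.exists_linear_sep hab (y := (x : Q ⧸ fixMod φ))
    fun e => hx ((QuotientGroup.eq_one_iff x).1 e)
  by_contra hfx
  refine hl₀ (mul_left_cancel₀ hfx ?_)
  rw [mul_one]
  exact hTS (l₀.comp (QuotientGroup.mk' _)).toHomUnits (fun m hm => Units.ext (by
    show l₀ (m : Q ⧸ fixMod φ) = 1
    rw [(QuotientGroup.eq_one_iff m).2 hm, map_one])) x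

/-- Comparable fixers being equal, all are. -/
theorem QData.fixer_eq_of_le (J : Subgroup Q) [J.Characteristic]
    (hle : ∀ μ ν : J →* ℂˣ, μ ∈ central J → ν ∈ central J → μ ≠ 1 → ν ≠ 1 →
      fixer φ μ ≤ fixer φ ν → fixer φ μ = fixer φ ν)
    {μ ν : J →* ℂˣ} (hμ : μ ∈ central J) (hν : ν ∈ central J) (hμ1 : μ ≠ 1) (hν1 : ν ≠ 1) :
    fixer φ μ = fixer φ ν := by
  letI : MulDistribMulAction C (central J) := MulDistribMulAction.compHom (central J) (cAct φ J)
  have hst : ∀ w : central J, MulAction.stabilizer C w = fixer φ (w : J →* ℂˣ) := by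
    intro w
    ext c
    rw [MulAction.mem_stabilizer_iff, ← inv_mem_iff (x := c) (H := fixer φ (w : J →* ℂˣ)), mem_fixer]
    show cAct φ J c w = w ↔ _
    refine ⟨fun e x hx => ?_, fun e => Subtype.ext (MonoidHom.ext fun j => ?_)⟩
    · rw [← val_cAct φ J c w hx, e]
    · rw [← val_coe _ j, val_cAct φ J c w j.2, e _ j.2, val_coe]
  haveI : Finite (central J) := inferInstance
  have := stabilizer_eq_of_le (A := C) (V := central J) (fun a b ha hb hab => by
    rw [hst, hst] at hab ⊢
    exact hle a b a.2 b.2 (fun e => ha (Subtype.ext e)) (fun e => hb (Subtype.ext e)) hab)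
    (v := ⟨μ, hμ⟩) (w := ⟨ν, hν⟩) (fun e => hμ1 (congrArg Subtype.val e))
    (fun e => hν1 (congrArg Subtype.val e))
  rwa [hst, hst] at this

end Cfsg.Agent.NoDivDeg
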