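/-
A normal subgroup with cyclic quotient of composite order `f`, `f` a degree, no divisibility: the
action on the abelianization.

Main results: `Ctx`, `conjA`, `Ctx.fix_eq`, `Ctx.range_inf_ker`, `Ctx.dvd_card_moved_sub_one`,
`Ctx.apply_eq_zero`, `Ctx.card_centralizer`, `Ctx.isConj_of_of_eq`.
-/
import Cfsg.Agent.Lib.NoDivDeg.Twists
import Cfsg.Agent.Lib.NoDivDeg.QData
import Cfsg.Agent.Lib.NoDivDeg.Split

set_option autoImplicit false
set_option linter.style.haveILetI false
set_option linter.unusedSectionVars false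

namespace Cfsg.Agent.NoDivDeg

open Cfsg Cfsg.Agent.Char Cfsg.Agent.CharApp Cfsg.Agent.CharApp.DegreeSets
open scoped ComplexConjugate commutatorElement

universe u

variable {G : Type u} [Group G] [Finite G] {N : Subgroup G} [hNn : N.Normal]

/-- A degree `inertia index × degree` coming from a character of a normal subgroup. -/
theorem exists_deg_of_cyclic (hcyc : IsCyclic (G ⧸ N)) (θ : IrrCharacter N) :
    ∃ χ : IrrCharacter G,
      charDegree (χ : G → ℂ) = (inertia N (θ : N → ℂ)).index * charDegree (θ : N → ℂ) := by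
  haveI := Fintype.ofFinite G
  haveI := Fintype.ofFinite N
  set T := inertia N (θ : N → ℂ)
  haveI := Fintype.ofFinite T
  have hNT : N ≤ T := le_inertia N (IsIrrCharacter.isClassFunction θ.2)
  set N' := N.subgroupOf T
  haveI := Fintype.ofFinite N'
  let e := Subgroup.subgroupOfEquivOfLe hNT
  have hθ' : IsIrrCharacter N' (fun x => (θ : N → ℂ) (e x)) := IsIrrCharacter.comp_equiv θ.2 e
  haveI := hcyc
  let i : T ⧸ N' →* G ⧸ N := QuotientGroup.map N' N T.subtype fun x hx => hx
  have hi : Function.Injective i := (injective_iff_map_eq_one i).2 fun x hx => by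
    induction x using QuotientGroup.induction_on with
    | H x => exact (QuotientGroup.eq_one_iff x).2 ((QuotientGroup.eq_one_iff (x : G)).1 hx)
  obtain ⟨χh, hχh, hext⟩ := FullyRamified.exists_extension_of_cyclic (isCyclic_of_injective i hi) hθ'
    fun x n => (mem_inertia_iff N).1 x.2 (e n)
  have hres : (fun n : N => χh ⟨(n : G), hNT n.2⟩) = (θ : N → ℂ) := funext fun n => by
    have h1 := hext (e.symm n)
    rw [MulEquiv.apply_symm_apply] at h1
    exact h1
  obtain ⟨hind, -, -⟩ := clifford_correspondence N θ.2 hχh (by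
    rw [hres, classInner_irr_self θ.2]; exact one_ne_zero)
  refine ⟨⟨_, hind⟩, ?_⟩
  have h1 := apply_one hind
  rw [indFun_one_apply, show χh 1 = (θ : N → ℂ) 1 from congrFun hres 1, apply_one θ.2] at h1
  exact_mod_cast h1.symm

/-- No divisibility, a cyclic quotient of composite order which is a degree. -/
structure Ctx (N : Subgroup G) [N.Normal] (g : G) (f q : ℕ) : Prop where
  nd : NoDiv G
  idx : N.index = f
  gen : ∀ x : G, ∃ i : ℤ, (g ^ i)⁻¹ * x ∈ N
  notPrime : ¬ f.Prime
  one_ne : f ≠ 1
  prime : q.Prime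
  cop : f.Coprime q
  deg_f : ∃ χ : IrrCharacter G, charDegree (χ : G → ℂ) = f
  dvd : ∀ θ : IrrCharacter N, charDegree (θ : N → ℂ) ≠ 1 → q ∣ charDegree (θ : N → ℂ)
  moved : ∃ x : N, (∃ j, x ^ (q ^ j) = 1) ∧ MulAut.conjNormal g x * x⁻¹ ∉ commutator N

variable {g : G} {f q : ℕ}

/-- The action on the abelianization. -/
noncomputable def conjA (N : Subgroup G) [N.Normal] : G →* MulAut (Abelianization N) where
  toFun x := (MulAut.conjNormal x : MulAut N).abelianizationCongr
  map_one' := MulEquiv.ext fun a => by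
    obtain ⟨n, rfl⟩ := of_surjective a
    show Abelianization.of ((MulAut.conjNormal (1 : G) : MulAut N) n) = _
    rw [map_one]
    rfl
  map_mul' x y := MulEquiv.ext fun a => by
    obtain ⟨n, rfl⟩ := of_surjective a
    show Abelianization.of ((MulAut.conjNormal (x * y) : MulAut N) n) = _
    rw [map_mul]
    rfl

theorem conjA_of (x : G) (n : N) :
    conjA N x (Abelianization.of n) = Abelianization.of (MulAut.conjNormal x n) := rfl

theorem conjA_of_mem {x : G} (hx : x ∈ N) (a : Abelianization N) : conjA N x a = a := by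
  obtain ⟨n, rfl⟩ := of_surjective a
  rw [conjA_of, show (MulAut.conjNormal x : MulAut N) n = ⟨x, hx⟩ * n * (⟨x, hx⟩ : N)⁻¹ from
    Subtype.ext (by simp), map_mul, map_mul, map_inv, mul_comm (Abelianization.of (⟨x, hx⟩ : N)),
    mul_inv_cancel_right]

/-- Displacement on the abelianization. -/
noncomputable def deltaA (N : Subgroup G) [N.Normal] (x : G) : Abelianization N →* Abelianization N where
  toFun a := conjA N x a * a⁻¹
  map_one' := by rw [map_one, inv_one, one_mul]
  map_mul' a b := by rw [map_mul, mul_inv, mul_mul_mul_comm]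

theorem mem_ker_deltaA {x : G} {a : Abelianization N} : a ∈ (deltaA N x).ker ↔ conjA N x a = a :=
  mul_inv_eq_one

theorem Ctx.conjA_eq_pow (h : Ctx N g f q) (x : G) : ∃ i : ℕ, (∀ a, conjA N x a = conjA N (g ^ i) a) ∧
    (g ^ i)⁻¹ * x ∈ N := by
  obtain ⟨j, hj⟩ := h.gen x
  obtain ⟨i, hi⟩ : g ^ j ∈ Submonoid.powers g := by
    rw [mem_powers_iff_mem_zpowers]
    exact Subgroup.zpow_mem_zpowers g j
  change g ^ i = _ at hi
  rw [← hi] at hj
  exact ⟨i, fun a => by
    conv_lhs => rw [← mul_inv_cancel_left (g ^ i) x, map_mul, MulAut.mul_apply, conjA_of_mem hj], hj⟩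

theorem Ctx.not_mem_gen (h : Ctx N g f q) {i : ℕ} (hi : ¬ f ∣ i) : g ^ i ∉ N := by
  intro hm
  refine hi ?_
  rw [← h.idx, N.index_eq_card]
  have hc : Subgroup.zpowers (g : G ⧸ N) = ⊤ := (Subgroup.eq_top_iff' _).2 fun y => by
    induction y using QuotientGroup.induction_on with
    | H x =>
      obtain ⟨j, hj⟩ := h.gen x
      exact Subgroup.mem_zpowers_iff.2 ⟨j, by rw [← QuotientGroup.mk_zpow]; exact QuotientGroup.eq.2 hj⟩
  rw [← Subgroup.card_top, ← hc, Nat.card_zpowers]
  exact orderOf_dvd_of_pow_eq_one (by rw [← QuotientGroup.mk_pow]; exact (QuotientGroup.eq_one_iff _).2 hm)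

theorem Ctx.isCyclic (h : Ctx N g f q) : IsCyclic (G ⧸ N) :=
  ⟨⟨(g : G ⧸ N), fun y => by
    induction y using QuotientGroup.induction_on with
    | H x =>
      obtain ⟨i, hi⟩ := h.gen x
      exact Subgroup.mem_zpowers_iff.2 ⟨i, by rw [← QuotientGroup.mk_zpow]; exact QuotientGroup.eq.2 hi⟩⟩⟩

theorem Ctx.pow_mem (h : Ctx N g f q) : g ^ f ∈ N := h.idx ▸ Subgroup.pow_index_mem N g

/-- The degree over a character of the normal subgroup. -/
theorem Ctx.exists_deg (h : Ctx N g f q) (θ : IrrCharacter N) : ∃ χ : IrrCharacter G,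
    charDegree (χ : G → ℂ) = (inertia N (θ : N → ℂ)).index * charDegree (θ : N → ℂ) :=
  exists_deg_of_cyclic h.isCyclic θ

theorem Ctx.inertia_index_dvd (h : Ctx N g f q) (θ : IrrCharacter N) :
    (inertia N (θ : N → ℂ)).index ∣ f :=
  h.idx ▸ Subgroup.index_dvd_of_le (le_inertia N (IsIrrCharacter.isClassFunction θ.2))

/-- A nonlinear character has inertia group larger than `N`. -/
theorem Ctx.exists_inertia (h : Ctx N g f q) (θ : IrrCharacter N) (hθ : charDegree (θ : N → ℂ) ≠ 1) :
    ∃ x ∈ inertia N (θ : N → ℂ), x ∉ N := by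
  by_contra hno
  push Not at hno
  obtain ⟨χ, hχ⟩ := h.exists_deg θ
  rw [show inertia N (θ : N → ℂ) = N from le_antisymm hno
    (le_inertia N (IsIrrCharacter.isClassFunction θ.2)), h.idx] at hχ
  obtain ⟨χf, hχf⟩ := h.deg_f
  have := h.nd.eq_of_dvd (χ := χf) (χ' := χ) (hχf ▸ h.one_ne) (hχf ▸ hχ ▸ dvd_mul_right _ _)
  rw [hχf, hχ] at this
  exact hθ (Nat.eq_of_mul_eq_mul_left (Nat.pos_of_ne_zero (h.idx ▸ Subgroup.index_ne_zero_of_finite))
    ((mul_one f).trans this)).symm

theorem conjFun_eq (x : G) (φ : N → ℂ) (n : N) :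
    CliffordChar.conjFun N x φ n = φ (MulAut.conjNormal x⁻¹ n) := by
  rw [CliffordChar.conjFun_apply]
  exact congrArg φ (Subtype.ext (by simp))

theorem conjFun_hom (x : G) (l : Abelianization N →* ℂˣ) :
    CliffordChar.conjFun N x (fun n : N => ((l (Abelianization.of n) : ℂˣ) : ℂ)) =
      fun n : N => ((l (conjA N x⁻¹ (Abelianization.of n)) : ℂˣ) : ℂ) := by
  funext n
  rw [CliffordChar.conjFun_apply, conjA_of]
  refine congrArg (fun y => ((l (Abelianization.of y) : ℂˣ) : ℂ)) (Subtype.ext ?_)
  simp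

/-- A linear character fixed outside `N` is fixed by `g`. -/
theorem Ctx.dual_fix (h : Ctx N g f q) {x : G} (hx : x ∉ N) {l : Abelianization N →* ℂˣ}
    (hl : ∀ a, l (conjA N x a) = l a) (a : Abelianization N) : l (conjA N g a) = l a := by
  haveI := Fintype.ofFinite N
  have hirr : IsIrrCharacter N (fun n : N => ((l (Abelianization.of n) : ℂˣ) : ℂ)) :=
    isIrrCharacter_of_hom ((Units.coeHom ℂ).comp (l.comp Abelianization.of))
  have hmem : ∀ y : G, y ∈ inertia N (fun n : N => ((l (Abelianization.of n) : ℂˣ) : ℂ)) ↔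
      ∀ a, l (conjA N y⁻¹ a) = l a := fun y => by
    rw [mem_inertia, conjFun_hom]
    exact ⟨fun e a => by
      obtain ⟨n, rfl⟩ := of_surjective a
      exact Units.ext (congrFun e n), fun e => funext fun n => congrArg Units.val (e _)⟩
  obtain ⟨χ, hχ⟩ := h.exists_deg ⟨_, hirr⟩
  have hd := h.inertia_index_dvd ⟨_, hirr⟩
  set T := inertia N (fun n : N => ((l (Abelianization.of n) : ℂˣ) : ℂ))
  rw [show charDegree (fun n : N => ((l (Abelianization.of n) : ℂˣ) : ℂ)) = 1 by simp [charDegree],
    mul_one] at hχ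
  by_cases h1 : T.index = 1
  · have := (hmem g⁻¹).1 (Subgroup.index_eq_one.1 h1 ▸ Subgroup.mem_top _) a
    rwa [inv_inv] at this
  exfalso
  obtain ⟨χf, hχf⟩ := h.deg_f
  have h2 := h.nd.eq_of_dvd (χ := χ) (χ' := χf) (hχ ▸ h1) (hχ ▸ hχf ▸ hd)
  rw [hχ, hχf, ← h.idx] at h2
  refine hx ?_
  have hT : N = T := by
    refine Subgroup.eq_of_le_of_card_ge (le_inertia N (IsIrrCharacter.isClassFunction hirr)) ?_
    have e1 := N.card_mul_index
    rw [← T.card_mul_index, ← h2] at e1
    exact (Nat.eq_of_mul_eq_mul_right (Nat.pos_of_ne_zero Subgroup.index_ne_zero_of_finite) e1).ge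
  rw [hT, ← inv_mem_iff, hmem, inv_inv]
  exact hl

theorem Ctx.ker_le (h : Ctx N g f q) (x : G) : (deltaA N g).ker ≤ (deltaA N x).ker := by
  intro a ha
  rw [mem_ker_deltaA] at ha ⊢
  obtain ⟨i, hi, -⟩ := h.conjA_eq_pow x
  rw [hi]
  clear hi
  induction i with
  | zero => rw [pow_zero, map_one, MulAut.one_apply]
  | succ i ih => rw [pow_succ, map_mul, MulAut.mul_apply, ha, ih]

theorem Ctx.range_eq (h : Ctx N g f q) {x : G} (hx : x ∉ N) : (deltaA N x).range = (deltaA N g).range := by
  have hle : (deltaA N g).range ≤ (deltaA N x).range := by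
    intro b hb
    by_contra hbx
    obtain ⟨l, hl, hlb⟩ := exists_dual_sep_range (deltaA N x).range hbx
    obtain ⟨a, rfl⟩ := hb
    refine hlb ?_
    show l (conjA N g a * a⁻¹) = 1
    rw [map_mul, map_inv, h.dual_fix hx (l := l) (fun c => ?_) a, mul_inv_cancel]
    have := hl _ ⟨c, rfl⟩
    change l (conjA N x c * c⁻¹) = 1 at this
    rwa [map_mul, map_inv, mul_inv_eq_one] at this
  refine (Subgroup.eq_of_le_of_card_ge hle ?_).symm
  rw [← Subgroup.index_ker, ← Subgroup.index_ker]
  exact Nat.le_of_dvd (Nat.pos_of_ne_zero Subgroup.index_ne_zero_of_finite)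
    (Subgroup.index_dvd_of_le (h.ker_le x))
where
  exists_dual_sep_range (S : Subgroup (Abelianization N)) {b : Abelianization N} (hb : b ∉ S) :
      ∃ l : Abelianization N →* ℂˣ, (∀ s ∈ S, l s = 1) ∧ l b ≠ 1 := by
    obtain ⟨l, hl⟩ := TwoDegrees.exists_linear_sep (A := Abelianization N ⧸ S) mul_comm
      (y := (b : Abelianization N ⧸ S)) fun e => hb ((QuotientGroup.eq_one_iff b).1 e)
    exact ⟨(l.comp (QuotientGroup.mk' S)).toHomUnits, fun s hs => Units.ext (by
      show l (s : Abelianization N ⧸ S) = 1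
      rw [(QuotientGroup.eq_one_iff s).2 hs, map_one]), fun e => hl (congrArg Units.val e)⟩

/-- Elements outside `N` have the fixed points of `g`. -/
theorem Ctx.fix_eq (h : Ctx N g f q) {x : G} (hx : x ∉ N) {a : Abelianization N}
    (ha : conjA N x a = a) : conjA N g a = a := by
  have hk : (deltaA N g).ker = (deltaA N x).ker := by
    refine Subgroup.eq_of_le_of_card_ge (h.ker_le x) (le_of_eq ?_)
    have h1 := (deltaA N g).ker.card_mul_index
    have h2 := (deltaA N x).ker.card_mul_index
    rw [Subgroup.index_ker] at h1 h2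
    rw [h.range_eq hx, ← h1] at h2
    exact Nat.eq_of_mul_eq_mul_right Nat.card_pos h2
  rwa [← mem_ker_deltaA, hk, mem_ker_deltaA]

theorem Ctx.range_inf_ker (h : Ctx N g f q) {z : Abelianization N} (hz : z ∈ (deltaA N g).range)
    (hz' : conjA N g z = z) : z = 1 := by
  obtain ⟨a, rfl⟩ := hz
  set z := deltaA N g a
  have hit : ∀ i : ℕ, conjA N (g ^ i) a = z ^ i * a := by
    intro i
    induction i with
    | zero => rw [pow_zero, pow_zero, map_one, MulAut.one_apply, one_mul]
    | succ i ih =>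
      rw [pow_succ', map_mul, MulAut.mul_apply, ih, map_mul, map_pow, hz', pow_succ, mul_assoc]
      congr 1
      exact (inv_mul_cancel_right (conjA N g a) a).symm
  have hzf : z ^ f = 1 := by
    have h1 := hit f
    rw [conjA_of_mem h.pow_mem] at h1
    exact right_eq_mul.1 h1
  by_contra hz1
  obtain ⟨r, hr, hrd⟩ := Nat.exists_prime_and_dvd (fun e => hz1 (orderOf_eq_one_iff.1 e))
  obtain ⟨t, ht⟩ := hrd
  have hof : orderOf z ∣ f := orderOf_dvd_of_pow_eq_one hzf
  have hrf : r ∣ f := (ht ▸ dvd_mul_right r t).trans hof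
  have hnd : ¬ f ∣ r := fun hd => h.notPrime (Nat.dvd_antisymm hrf hd ▸ hr)
  -- a power of `a` is fixed by a proper power of `g`
  have hpow : ∀ i : ℕ, conjA N (g ^ i) (a ^ t) = (z ^ t) ^ i * a ^ t := fun i => by
    rw [map_pow, hit, mul_pow, ← pow_mul, ← pow_mul, mul_comm i t]
  have h2 := h.fix_eq (h.not_mem_gen hnd) (a := a ^ t) (by
    rw [hpow, ← pow_mul, mul_comm t r, ← ht, pow_orderOf_eq_one, one_mul])
  have h3 := hpow 1
  rw [pow_one, h2, pow_one, right_eq_mul] at h3
  have h4 := orderOf_dvd_of_pow_eq_one h3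
  rw [ht] at h4
  have hop := orderOf_pos z
  rw [ht] at hop
  exact absurd (Nat.le_of_dvd (Nat.pos_of_mul_pos_left hop) h4)
    (not_le.2 (lt_mul_of_one_lt_left (Nat.pos_of_mul_pos_left hop) hr.one_lt))

/-- The moved classes. -/
noncomputable abbrev movA (N : Subgroup G) [N.Normal] (g : G) : Subgroup (Abelianization N) :=
  (deltaA N g).range

theorem Ctx.exists_decompA (h : Ctx N g f q) (a : Abelianization N) :
    ∃ w ∈ movA N g, ∃ m, conjA N g m = m ∧ a = w * m := by
  have hinj : Function.Injective (fun p : movA N g × (deltaA N g).ker =>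
      (p.1 : Abelianization N) * p.2) := by
    rintro ⟨r, k⟩ ⟨r', k'⟩ e
    have e' : (r : Abelianization N)⁻¹ * r' = k * (k' : Abelianization N)⁻¹ := by
      rw [eq_mul_inv_iff_mul_eq, mul_assoc, inv_mul_eq_iff_eq_mul]
      exact e.symm
    have h1 := h.range_inf_ker ((movA N g).mul_mem ((movA N g).inv_mem r.2) r'.2)
      (mem_ker_deltaA.1 (e' ▸ Subgroup.mul_mem _ k.2 (Subgroup.inv_mem _ k'.2)))
    have hr : r = r' := Subtype.ext (inv_mul_eq_one.1 h1)
    subst hr
    rw [inv_mul_cancel] at e'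
    exact Prod.ext rfl (Subtype.ext (mul_inv_eq_one.1 e'.symm))
  have hbij := (Nat.bijective_iff_injective_and_card _).2 ⟨hinj, by
    rw [Nat.card_prod, movA, ← Subgroup.index_ker, mul_comm, Subgroup.card_mul_index]⟩
  obtain ⟨⟨r, k⟩, hp⟩ := hbij.2 a
  exact ⟨r, r.2, k, mem_ker_deltaA.1 k.2, hp.symm⟩

theorem Ctx.conjA_mem_movA (h : Ctx N g f q) (x : G) {a : Abelianization N} (ha : a ∈ movA N g) :
    conjA N x a ∈ movA N g := by
  by_cases hx : x ∈ N
  · rwa [conjA_of_mem hx]
  have h1 : deltaA N x a ∈ (deltaA N x).range := ⟨a, rfl⟩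
  rw [h.range_eq hx] at h1
  have h2 := (movA N g).mul_mem h1 ha
  rwa [show deltaA N x a * a = conjA N x a from inv_mul_cancel_right _ _] at h2

theorem Ctx.eq_one_of_fix (h : Ctx N g f q) {x : G} (hx : x ∉ N) {a : Abelianization N}
    (ha : a ∈ movA N g) (hfix : conjA N x a = a) : a = 1 :=
  h.range_inf_ker ha (h.fix_eq hx hfix)

/-- The number of moved classes is congruent to one modulo `f`. -/
theorem Ctx.dvd_card_moved_sub_one (h : Ctx N g f q) : f ∣ Nat.card (movA N g) - 1 := by
  let act : G →* MulAut (movA N g) :=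
    { toFun := fun x =>
        { toFun := fun a => ⟨conjA N x a, h.conjA_mem_movA x a.2⟩
          invFun := fun a => ⟨conjA N x⁻¹ a, h.conjA_mem_movA _ a.2⟩
          left_inv := fun a => Subtype.ext (by simp)
          right_inv := fun a => Subtype.ext (by simp)
          map_mul' := fun a b => Subtype.ext (map_mul _ _ _) }
      map_one' := MulEquiv.ext fun a => Subtype.ext (by simp)
      map_mul' := fun x y => MulEquiv.ext fun a => Subtype.ext (by simp [map_mul]) }
  have h1 := Fpf.dvd_card_sub_one (QuotientGroup.lift N act fun x hx =>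
    MulEquiv.ext fun a => Subtype.ext (conjA_of_mem hx (a : Abelianization N))) fun c hc a ha => by
    induction c using QuotientGroup.induction_on with
    | H x =>
      exact Subtype.ext (h.eq_one_of_fix (fun hm => hc ((QuotientGroup.eq_one_iff x).2 hm)) a.2
        (congrArg Subtype.val ha))
  rwa [← N.index_eq_card, h.idx] at h1

/-- Twisting a nonlinear character by a character trivial on the fixed classes. -/
theorem Ctx.twist_eq (h : Ctx N g f q) (θ : IrrCharacter N) (hθ : charDegree (θ : N → ℂ) ≠ 1)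
    (l : Abelianization N →* ℂˣ) (hl : ∀ m, conjA N g m = m → l m = 1) (n : N) :
    (θ : N → ℂ) n * (l (Abelianization.of n) : ℂ) = (θ : N → ℂ) n := by
  classical
  haveI := Fintype.ofFinite N
  set F : N → ℂ := (θ : N → ℂ)
  let T : Subgroup (Abelianization N →* ℂˣ) :=
    { carrier := {l | ∀ m, conjA N g m = m → l m = 1}
      one_mem' := fun m _ => rfl
      mul_mem' := fun {a b} ha hb m hm => by rw [MonoidHom.mul_apply, ha m hm, hb m hm, one_mul]
      inv_mem' := fun {a} ha m hm => by rw [MonoidHom.inv_apply, ha m hm, inv_one] }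
  let tw : T → N → ℂ := fun l n => F n * (((l : Abelianization N →* ℂˣ) (Abelianization.of n) : ℂˣ) : ℂ)
  let Ω : Type u := {ψ : N → ℂ // ∃ l : T, ψ = tw l}
  have hcgen : ∀ (x : G) (m : Abelianization N), conjA N g m = m → conjA N x m = m := fun x m hm =>
    mem_ker_deltaA.1 (h.ker_le x (mem_ker_deltaA.2 hm))
  let cj : G → T → T := fun x l => ⟨(l : Abelianization N →* ℂˣ).comp (conjA N x⁻¹).toMonoidHom,
    fun m hm => by
      show (l : Abelianization N →* ℂˣ) (conjA N x⁻¹ m) = 1
      rw [hcgen _ m hm]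
      exact l.2 m hm⟩
  have hcj : ∀ (x : G) (l : T), CliffordChar.conjFun N x (fun n : N =>
      (((l : Abelianization N →* ℂˣ) (Abelianization.of n) : ℂˣ) : ℂ)) =
        fun n : N => ((((cj x l : T) : Abelianization N →* ℂˣ) (Abelianization.of n) : ℂˣ) : ℂ) := fun x l => by
    rw [conjFun_hom]; rfl
  -- elements outside `N` fix at most one twist
  have huniq : ∀ x ∉ N, ∀ l l' : T, CliffordChar.conjFun N x (tw l) = tw l →
      CliffordChar.conjFun N x (tw l') = tw l' → tw l = tw l' := by
    intro x hx l l' e e'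
    let S : Subgroup T :=
      { carrier := {s | ∀ n, F n * (((s : Abelianization N →* ℂˣ) (Abelianization.of n) : ℂˣ) : ℂ) = F n}
        one_mem' := fun n => by simp
        mul_mem' := fun {a b} ha hb n => by
          rw [Subgroup.coe_mul, MonoidHom.mul_apply, Units.val_mul, ← mul_assoc, ha n, hb n]
        inv_mem' := fun {a} ha n => by
          conv_lhs => rw [← ha n, mul_assoc]
          simp }
    have hS : ∀ s ∈ S, cj x s ∈ S := by
      intro s hs n
      have e1 := congrFun e n
      rw [conjFun_eq] at e1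
      set n' : N := MulAut.conjNormal x⁻¹ n
      have e2 := hs n'
      have e3 := congrFun (hcj x s) n
      rw [conjFun_eq] at e3
      rw [← e3]
      change F n' * _ = F n * _ at e1
      by_cases hn : F n = 0
      · rw [hn, zero_mul]
      have hn' : F n' ≠ 0 := fun h0 => hn (by simpa [h0] using e1.symm)
      rw [(mul_right_eq_self₀.1 e2).resolve_right hn', mul_one]
    let δ : T →* T := MonoidHom.mk' (fun s => cj x s * s⁻¹) fun a b => by
      have : cj x (a * b) = cj x a * cj x b := rfl
      rw [this, mul_inv, mul_mul_mul_comm]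
    have hδ : Function.Injective δ := (injective_iff_map_eq_one δ).2 fun s hs => by
      refine Subtype.ext (MonoidHom.ext fun a => ?_)
      obtain ⟨w, ⟨c, rfl⟩, m, hm, rfl⟩ := h.exists_decompA a
      rw [map_mul, s.2 m hm, mul_one]
      have hs' : ∀ a, (s : Abelianization N →* ℂˣ) (conjA N x⁻¹ a) = (s : Abelianization N →* ℂˣ) a :=
        fun a => DFunLike.congr_fun (congrArg Subtype.val (mul_inv_eq_one.1 hs)) a
      show (s : Abelianization N →* ℂˣ) (conjA N g c * c⁻¹) = 1
      rw [map_mul, map_inv, h.dual_fix (fun hm => hx (inv_mem_iff.1 hm)) hs' c, mul_inv_cancel]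
    set s := l' * l⁻¹
    have hds : δ s ∈ S := by
      intro n
      have e1 := congrFun e n
      have e1' := congrFun e' n
      rw [conjFun_eq] at e1 e1'
      set n' : N := MulAut.conjNormal x⁻¹ n
      have e3 := congrFun (hcj x s) n
      rw [conjFun_eq] at e3
      change F n' * _ = F n * _ at e1 e1'
      show F n * ((((cj x s : T) : Abelianization N →* ℂˣ) (Abelianization.of n) *
        (((s : T) : Abelianization N →* ℂˣ) (Abelianization.of n))⁻¹ : ℂˣ) : ℂ) = F n
      by_cases hn : F n = 0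
      · rw [hn, zero_mul]
      rw [Units.val_mul, ← e3, Units.val_inv_eq_inv_val]
      simp only [s, Subgroup.coe_mul, InvMemClass.coe_inv, MonoidHom.mul_apply, MonoidHom.inv_apply,
        Units.val_mul, Units.val_inv_eq_inv_val]
      set A := (((l : Abelianization N →* ℂˣ) (Abelianization.of n') : ℂˣ) : ℂ)
      set A' := (((l' : Abelianization N →* ℂˣ) (Abelianization.of n') : ℂˣ) : ℂ)
      set B := (((l : Abelianization N →* ℂˣ) (Abelianization.of n) : ℂˣ) : ℂ)
      set B' := (((l' : Abelianization N →* ℂˣ) (Abelianization.of n) : ℂˣ) : ℂ)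
      have hA : A ≠ 0 := Units.ne_zero _
      have hB : B ≠ 0 := Units.ne_zero _
      have hB' : B' ≠ 0 := Units.ne_zero _
      have hn' : F n' ≠ 0 := fun h0 => by
        rw [h0, zero_mul] at e1
        exact mul_ne_zero hn hB e1.symm
      field_simp
      apply mul_left_cancel₀ hn'
      linear_combination B * e1' - B' * e1
    obtain ⟨t, ht⟩ : ∃ t : S, δ t = δ s := by
      let δS : S → S := fun t => ⟨δ t, S.mul_mem (hS t t.2) (S.inv_mem t.2)⟩
      have : Function.Injective δS := fun a b hab => Subtype.ext (hδ (congrArg Subtype.val hab))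
      obtain ⟨t, ht⟩ := Finite.injective_iff_surjective.1 this ⟨δ s, hds⟩
      exact ⟨t, congrArg Subtype.val ht⟩
    have hsS : s ∈ S := hδ ht ▸ t.2
    funext n
    have h1 := hsS n
    simp only [s, Subgroup.coe_mul, InvMemClass.coe_inv, MonoidHom.mul_apply, MonoidHom.inv_apply,
      Units.val_mul, Units.val_inv_eq_inv_val] at h1
    show F n * _ = F n * _
    conv_lhs => rw [← h1]
    simp [mul_assoc]
  -- the operators on the twists
  obtain ⟨y, hy, hyN⟩ := h.exists_inertia θ hθ
  have hex : ∀ l : T, ∃ x ∉ N, CliffordChar.conjFun N x (tw l) = tw l := fun l => by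
    have hirr : IsIrrCharacter N (tw l) := IsIrrCharacter.mul_linear θ.2
      ((Units.coeHom ℂ).comp ((l : Abelianization N →* ℂˣ).comp Abelianization.of))
    obtain ⟨x, hx, hxN⟩ := h.exists_inertia ⟨_, hirr⟩ (by
      show charDegree (tw l) ≠ 1
      rwa [show charDegree (tw l) = charDegree F by simp [tw, charDegree]])
    exact ⟨x, hxN, hx⟩
  -- the operator fixing `θ` fixes every twist
  have hy1 : CliffordChar.conjFun N y (tw 1) = tw 1 := by
    have : tw 1 = F := funext fun n => by simp [tw]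
    rw [this]
    exact hy
  suffices hall : ∀ l : T, tw l = tw 1 by
    have h2 := congrFun (hall ⟨l, hl⟩) n
    simpa [tw] using h2
  intro l
  obtain ⟨x, hx, hxl⟩ := hex l
  have hmul : ∀ (a : T), CliffordChar.conjFun N y (tw a) = tw (cj y a) := fun a => by
    funext n
    have e1 := congrFun hy n
    have e3 := congrFun (hcj y a) n
    rw [CliffordChar.conjFun_apply] at e1 e3 ⊢
    show F _ * _ = F n * _
    rw [e3, show F _ = F n from e1]
  have hcomm : ∀ (u v : G) (φ : N → ℂ), IsClassFunction N φ →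
      CliffordChar.conjFun N u (CliffordChar.conjFun N v φ) =
        CliffordChar.conjFun N v (CliffordChar.conjFun N u φ) := by
    intro u v φ hφ
    rw [← CliffordChar.conjFun_mul, ← CliffordChar.conjFun_mul]
    have hc : v⁻¹ * u⁻¹ * (u⁻¹ * v⁻¹)⁻¹ ∈ N := by
      haveI := h.isCyclic
      rw [← QuotientGroup.eq_one_iff, QuotientGroup.mk_mul, QuotientGroup.mk_inv, QuotientGroup.mk_mul,
        QuotientGroup.mk_mul, mul_inv_eq_one]
      exact IsMulCommutative.is_comm.comm _ _
    funext n
    rw [CliffordChar.conjFun_apply, CliffordChar.conjFun_apply]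
    refine Eq.trans (congrArg φ (Subtype.ext ?_)) (hφ _ ⟨_, hc⟩)
    simp only [Subgroup.coe_mul, InvMemClass.coe_inv]
    group
  have hcf : IsClassFunction N (tw l) := IsIrrCharacter.isClassFunction (IsIrrCharacter.mul_linear θ.2
    ((Units.coeHom ℂ).comp ((l : Abelianization N →* ℂˣ).comp Abelianization.of)))
  have hyl : CliffordChar.conjFun N y (tw l) = tw l := by
    rw [hmul]
    exact huniq x hx (cj y l) l (by rw [← hmul, hcomm x y _ hcf, hxl]) hxl
  exact huniq y hyN l 1 hyl hy1

/-- Nonlinear characters vanish at moved elements. -/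
theorem Ctx.apply_eq_zero (h : Ctx N g f q) {θ : IrrCharacter N} (hθ : charDegree (θ : N → ℂ) ≠ 1)
    {n : N} (hn : conjA N g (Abelianization.of n) ≠ Abelianization.of n) : (θ : N → ℂ) n = 0 := by
  obtain ⟨w, hw, m, hm, e⟩ := h.exists_decompA (Abelianization.of n)
  have hwK : w ∉ (deltaA N g).ker := fun hk => hn (by
    rw [e, map_mul, hm, mem_ker_deltaA.1 hk])
  obtain ⟨l, hl, hlw⟩ := Ctx.range_eq.exists_dual_sep_range (deltaA N g).ker hwK
  by_contra hz
  have h1 := h.twist_eq θ hθ l (fun m hm => hl m (mem_ker_deltaA.2 hm)) n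
  rw [e, map_mul, hl m (mem_ker_deltaA.2 hm), mul_one, mul_right_eq_self₀] at h1
  exact hlw (Units.ext (h1.resolve_right hz))

theorem Ctx.card_centralizer (h : Ctx N g f q) {x : N}
    (hx : conjA N g (Abelianization.of x) ≠ Abelianization.of x) :
    Nat.card (Subgroup.centralizer ({x} : Set N)) = (commutator N).index := by
  classical
  haveI := Fintype.ofFinite N
  haveI := Fintype.ofFinite (IrrCharacter N)
  have h1 := Char.column_orth x x
  rw [if_pos (IsConj.refl x)] at h1
  have h2 : ∀ χ : IrrCharacter N, (χ : N → ℂ) x * conj ((χ : N → ℂ) x) =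
      if (χ : N → ℂ) 1 = 1 then 1 else 0 := by
    intro χ
    split_ifs with hc
    · obtain ⟨l, hl⟩ := exists_hom_of_degree_one (IsIrrCharacter.isCharacter χ.2) hc
      rw [← hl, ← IsCharacter.apply_inv (isCharacter_of_hom l), ← map_mul, mul_inv_cancel, map_one]
    · rw [h.apply_eq_zero (fun e => hc (by rw [apply_one χ.2, e, Nat.cast_one])) hx, zero_mul]
  rw [Finset.sum_congr rfl fun χ _ => h2 χ, Finset.sum_boole, Nat.cast_inj] at h1
  rw [← h1, ← Char.card_linear_irr (G := N), Nat.card_eq_fintype_card, Fintype.card_subtype]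

/-- Moved elements are conjugate to their whole coset of the derived subgroup. -/
theorem Ctx.isConj_of_of_eq (h : Ctx N g f q) {x y : N}
    (hx : conjA N g (Abelianization.of x) ≠ Abelianization.of x)
    (hy : Abelianization.of x = Abelianization.of y) : IsConj x y := by
  classical
  have h1 := Char.card_conjugates_mul_card_centralizer x
  rw [h.card_centralizer hx, ← (commutator N).card_mul_index] at h1
  have h2 := Nat.eq_of_mul_eq_mul_right
    (Nat.pos_of_ne_zero Subgroup.index_ne_zero_of_finite) h1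
  have hsub : {z : N | IsConj x z} ⊆ {z : N | x⁻¹ * z ∈ commutator N} := by
    rintro z hz
    obtain ⟨c, rfl⟩ := isConj_iff.1 hz
    refine of_eq_of_iff.1 ?_
    rw [map_mul, map_mul, map_inv, mul_comm (Abelianization.of c), mul_inv_cancel_right]
  have hcard : Nat.card {z : N | x⁻¹ * z ∈ commutator N} = Nat.card (commutator N) :=
    Nat.card_congr ((Equiv.mulLeft x⁻¹).subtypeEquiv fun _ => Iff.rfl)
  have := Set.eq_of_subset_of_ncard_le hsub (by
    rw [← Nat.card_coe_set_eq, ← Nat.card_coe_set_eq, hcard, h2]) (Set.toFinite _)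
  have hmem : y ∈ {z : N | x⁻¹ * z ∈ commutator N} := of_eq_of_iff.1 hy
  rw [← this] at hmem
  exact hmem

theorem Ctx.exists_movedA (h : Ctx N g f q) : ∃ x : N, (∃ j, x ^ (q ^ j) = 1) ∧
    conjA N g (Abelianization.of x) ≠ Abelianization.of x := by
  obtain ⟨x, hx, hm⟩ := h.moved
  refine ⟨x, hx, fun e => hm ((QuotientGroup.eq_one_iff _).1 ?_)⟩
  show Abelianization.of (MulAut.conjNormal g x * x⁻¹) = 1
  rw [map_mul, map_inv, ← conjA_of, e, mul_inv_cancel]

end Cfsg.Agent.NoDivDeg
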