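/-
`q` prime to the order of the derived subgroup of the kernel: a complement and the moved elements.

Main results: `Ctx.exists_fpf`, `Ctx.exists_retraction`, `Ctx.exists_deg_stV`, `Ctx.eq_one_of_moved`.
-/
import Cfsg.Agent.Lib.NoDivDeg.Setting

set_option autoImplicit false
set_option linter.style.haveILetI false
set_option linter.unusedSectionVars false

namespace Cfsg.Agent.NoDivDeg

open Cfsg Cfsg.Agent.Char Cfsg.Agent.CharApp Cfsg.Agent.CharApp.DegreeSets
open scoped ComplexConjugate commutatorElement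

universe u

variable {G : Type u} [Group G] [Finite G] {N : Subgroup G} [hNn : N.Normal] {g : G} {f q : ℕ}

theorem coe_mem_derN {n : N} : (n : G) ∈ (⁅N, N⁆ : Subgroup G) ↔ n ∈ commutator N := by
  rw [← Subgroup.map_subtype_commutator N]
  exact ⟨fun ⟨b, hb, e⟩ => by rwa [← Subtype.ext e], fun h => ⟨n, h, rfl⟩⟩

theorem derN_le : (⁅N, N⁆ : Subgroup G) ≤ N := Subgroup.commutator_le_self N

theorem card_derN : Nat.card (⁅N, N⁆ : Subgroup G) = Nat.card (commutator N) := by
  rw [← Subgroup.map_subtype_commutator N, Subgroup.card_map_of_injective N.subtype_injective]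

/-- `g` fixes the class of `x`. -/
def Fixed (N : Subgroup G) [N.Normal] (g : G) (x : N) : Prop :=
  conjA N g (Abelianization.of x) = Abelianization.of x

theorem Fixed.of_eq {x y : N} (hx : Fixed N g x) (e : Abelianization.of x = Abelianization.of y) :
    Fixed N g y := by
  unfold Fixed at hx ⊢
  rwa [← e]

/-- Moved elements centralize nothing in the derived subgroup; the centralizer of a moved `q`-element
is a complement. -/
theorem Ctx.exists_fpf (h : Ctx N g f q) (hD : ¬ q ∣ Nat.card (commutator N)) :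
    ∃ C : Subgroup N, (∀ a, ∃ c ∈ C, Abelianization.of c = a) ∧
      (∀ c ∈ C, c ∈ commutator N → c = 1) ∧ (∀ a ∈ C, ∀ b ∈ C, a * b = b * a) ∧
      (∃ x₀ ∈ C, ¬ Fixed N g x₀ ∧ C = Subgroup.centralizer ({x₀} : Set N)) ∧
      (∀ x ∈ C, ¬ Fixed N g x → C = Subgroup.centralizer ({x} : Set N)) ∧
      ∀ x : N, ¬ Fixed N g x → ∀ d ∈ commutator N, x * d = d * x → d = 1 := by
  classical
  obtain ⟨x₀, ⟨j, hj⟩, hx₀⟩ := h.exists_movedA
  haveI := Fact.mk h.prime
  set C := Subgroup.centralizer ({x₀} : Set N)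
  let f₀ : C →* Abelianization N := Abelianization.of.comp C.subtype
  have hP : IsPGroup q (Subgroup.zpowers x₀) := by
    obtain ⟨i, -, hi⟩ := (Nat.dvd_prime_pow h.prime).1 (orderOf_dvd_of_pow_eq_one hj)
    exact IsPGroup.of_card (n := i) (by rw [Nat.card_zpowers, hi])
  have hsurj : Function.Surjective f₀ := by
    intro a
    obtain ⟨n, rfl⟩ := of_surjective a
    let Ω := {y : N // n⁻¹ * y ∈ commutator N}
    have hΩ : ∀ (s y : N), n⁻¹ * y ∈ commutator N → n⁻¹ * (s * y * s⁻¹) ∈ commutator N := by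
      intro s y hy
      refine of_eq_of_iff.1 ?_
      rw [of_eq_of_iff.2 hy, map_mul, map_mul, map_inv, mul_comm (Abelianization.of s),
        mul_inv_cancel_right]
    letI : MulAction (Subgroup.zpowers x₀) Ω :=
      { smul := fun s y => ⟨(s : N) * y.1 * (s : N)⁻¹, hΩ _ _ y.2⟩
        one_smul := fun y => Subtype.ext (by show (1 : N) * y.1 * (1 : N)⁻¹ = y.1; simp)
        mul_smul := fun s t y => Subtype.ext (by
          show ((s : N) * t) * y.1 * ((s : N) * t)⁻¹ = (s : N) * ((t : N) * y.1 * (t : N)⁻¹) * (s : N)⁻¹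
          group) }
    have hcard : Nat.card Ω = Nat.card (commutator N) :=
      Nat.card_congr ((Equiv.mulLeft n⁻¹).subtypeEquiv fun _ => Iff.rfl)
    obtain ⟨y, hy⟩ := hP.nonempty_fixed_point_of_prime_not_dvd_card (α := Ω) (by rw [hcard]; exact hD)
    have hy' : x₀ * y.1 * x₀⁻¹ = y.1 := congrArg Subtype.val (hy ⟨x₀, Subgroup.mem_zpowers x₀⟩)
    refine ⟨⟨y.1, Subgroup.mem_centralizer_singleton_iff.2 ?_⟩, (of_eq_of_iff.2 y.2).symm⟩
    calc y.1 * x₀ = (x₀ * y.1 * x₀⁻¹) * x₀ := by rw [hy']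
      _ = x₀ * y.1 := by group
  have hbij : Function.Bijective f₀ := by
    refine (Nat.bijective_iff_surjective_and_card f₀).2 ⟨hsurj, ?_⟩
    rw [h.card_centralizer hx₀, Subgroup.index_eq_card]
    rfl
  have hCD : ∀ c ∈ C, c ∈ commutator N → c = 1 := fun c hc hcD => by
    have : f₀ ⟨c, hc⟩ = f₀ 1 := by
      rw [map_one]
      exact (QuotientGroup.eq_one_iff c).2 hcD
    exact congrArg Subtype.val (hbij.1 this)
  have hcomm : ∀ a ∈ C, ∀ b ∈ C, a * b = b * a := fun a ha b hb => by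
    have : f₀ (⟨a, ha⟩ * ⟨b, hb⟩) = f₀ (⟨b, hb⟩ * ⟨a, ha⟩) := by rw [map_mul, map_mul, mul_comm]
    exact congrArg Subtype.val (hbij.1 this)
  have hCC : ∀ x ∈ C, ¬ Fixed N g x → C = Subgroup.centralizer ({x} : Set N) := by
    intro x hx hmv
    refine Subgroup.eq_of_le_of_card_ge (fun c hc => Subgroup.mem_centralizer_singleton_iff.2
      (hcomm c hc x hx)) ?_
    rw [h.card_centralizer hmv, h.card_centralizer hx₀]
  have hx₀C : x₀ ∈ C := Subgroup.mem_centralizer_singleton_iff.2 rfl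
  refine ⟨C, fun a => ?_, hCD, hcomm, ⟨x₀, hx₀C, hx₀, rfl⟩, hCC, fun x hx d hd hxd => ?_⟩
  · obtain ⟨c, hc⟩ := hsurj a
    exact ⟨c, c.2, hc⟩
  obtain ⟨c, hc⟩ := hsurj (Abelianization.of x)
  change Abelianization.of (c : N) = Abelianization.of x at hc
  have hcm : ¬ Fixed N g (c : N) := fun hm => hx (hm.of_eq hc)
  obtain ⟨u, hu⟩ := isConj_iff.1 (h.isConj_of_of_eq hx hc.symm)
  have hmem : u * d * u⁻¹ ∈ Subgroup.centralizer ({(c : N)} : Set N) :=
    Subgroup.mem_centralizer_singleton_iff.2 (by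
      rw [← hu]
      calc u * d * u⁻¹ * (u * x * u⁻¹) = u * (d * x) * u⁻¹ := by group
        _ = u * (x * d) * u⁻¹ := by rw [hxd]
        _ = u * x * u⁻¹ * (u * d * u⁻¹) := by group)
  rw [← hCC _ c.2 hcm] at hmem
  exact conj_eq_one_iff.1 (hCD _ hmem ((inferInstance : (commutator N).Normal).conj_mem d hd u))

/-- The derived subgroup of `N` has a complement in `G`. -/
theorem Ctx.exists_retraction (h : Ctx N g f q) (hD : ¬ q ∣ Nat.card (commutator N)) :
    ∃ π : G →* G, (∀ x, x * (π x)⁻¹ ∈ (⁅N, N⁆ : Subgroup G)) ∧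
      ∀ d ∈ (⁅N, N⁆ : Subgroup G), π d = 1 := by
  classical
  obtain ⟨C, hsurj, hCD, hcomm, ⟨x₀, hx₀C, hx₀, hC₀⟩, hCC, -⟩ := h.exists_fpf hD
  set D₁ : Subgroup G := ⁅N, N⁆
  -- adjust the generator
  obtain ⟨y₁, hy₁C, hy₁⟩ := hsurj (Abelianization.of (MulAut.conjNormal g x₀))
  have hconjfix : ∀ x : N, Fixed N g (MulAut.conjNormal g x) → Fixed N g x := by
    intro x hx
    unfold Fixed at hx ⊢
    rw [← conjA_of] at hx
    exact (conjA N g).injective.eq_iff.1 hx
  have hmv₁ : ¬ Fixed N g (MulAut.conjNormal g x₀) := fun e => hx₀ (hconjfix _ e)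
  have hy₁m : ¬ Fixed N g y₁ := fun e => hmv₁ (e.of_eq hy₁)
  obtain ⟨u, hu⟩ := isConj_iff.1 (h.isConj_of_of_eq hy₁m hy₁)
  set g' : G := (u : G)⁻¹ * g
  set H := C.map N.subtype
  set Γ := Subgroup.normalizer (H : Set G)
  have hmemΓ : ∀ y : G, (∀ c ∈ C, MulAut.conjNormal y c ∈ C) → y ∈ Γ := by
    intro y hy
    rw [Subgroup.mem_normalizer_iff_map_conj_eq]
    refine Subgroup.eq_of_le_of_card_ge ?_ (le_of_eq ?_)
    · rintro _ ⟨_, ⟨c, hc, rfl⟩, rfl⟩
      exact ⟨_, hy c hc, by simp⟩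
    · exact (Subgroup.card_map_of_injective (MulAut.conj y).injective).symm
  have hg' : g' ∈ Γ := hmemΓ g' fun c hc => by
    rw [hCC y₁ hy₁C hy₁m, Subgroup.mem_centralizer_singleton_iff]
    have he : y₁ = MulAut.conjNormal g' x₀ := by
      have h1 : MulAut.conjNormal g x₀ = u * y₁ * u⁻¹ := hu.symm
      refine Subtype.ext ?_
      have h2 := congrArg (fun z : N => (z : G)) h1
      simp only [MulAut.conjNormal_apply, Subgroup.coe_mul, InvMemClass.coe_inv] at h2
      simp only [MulAut.conjNormal_apply, g', mul_inv_rev, inv_inv]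
      calc (y₁ : G) = (u : G)⁻¹ * ((u : G) * y₁ * (u : G)⁻¹) * u := by group
        _ = _ := by rw [← h2]; group
    rw [he, ← map_mul, ← map_mul, hcomm c hc x₀ hx₀C]
  have hCΓ : ∀ c ∈ C, (c : G) ∈ Γ := fun c hc => hmemΓ _ fun b hb => by
    rwa [show (MulAut.conjNormal (c : G) : MulAut N) b = b from Subtype.ext (by
      rw [MulAut.conjNormal_apply]
      have := congrArg Subtype.val (hcomm c hc b hb)
      simp only [Subgroup.coe_mul] at this
      rw [this, mul_inv_cancel_right])]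
  -- every class meets the normaliser
  let e : Γ →* G ⧸ D₁ := (QuotientGroup.mk' D₁).comp Γ.subtype
  have hsur : Function.Surjective e := by
    intro z
    induction z using QuotientGroup.induction_on with
    | H x =>
      obtain ⟨i, hi⟩ := h.gen x
      have hgg : (g' : G ⧸ N) = (g : G ⧸ N) := QuotientGroup.eq.2 (by
        simpa [g', mul_assoc] using hNn.conj_mem' _ u.2 g)
      have hm : (g' ^ i)⁻¹ * x ∈ N := QuotientGroup.eq.1 (by
        rw [QuotientGroup.mk_zpow, hgg, ← QuotientGroup.mk_zpow]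
        exact QuotientGroup.eq.2 hi)
      obtain ⟨c, hc, hcx⟩ := hsurj (Abelianization.of (⟨_, hm⟩ : N))
      refine ⟨⟨g' ^ i * c, Γ.mul_mem (Γ.zpow_mem hg' i) (hCΓ c hc)⟩, QuotientGroup.eq.2 ?_⟩
      rw [of_eq_of_iff, ← coe_mem_derN] at hcx
      simpa [mul_assoc] using hcx
  have hinj : Function.Injective e := (injective_iff_map_eq_one e).2 fun x hx => by
    have hxD : (x : G) ∈ D₁ := (QuotientGroup.eq_one_iff _).1 hx
    obtain ⟨d, hd, hdx⟩ : ∃ d ∈ commutator N, (d : G) = x :=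
      ⟨⟨x, derN_le hxD⟩, coe_mem_derN.1 hxD, rfl⟩
    refine Subtype.ext ?_
    rw [OneMemClass.coe_one, ← hdx]
    have hxΓ : MulAut.conj (x : G) (x₀ : G) ∈ H := by
      rw [← Subgroup.mem_normalizer_iff_map_conj_eq.1 x.2]
      exact ⟨_, Subgroup.mem_map_of_mem _ hx₀C, rfl⟩
    obtain ⟨c, hc, hce⟩ := hxΓ
    have hc' : c = d * x₀ * d⁻¹ := Subtype.ext (hce.trans (by rw [MulAut.conj_apply, ← hdx]; rfl))
    have hone : c * x₀⁻¹ = 1 := hCD _ (C.mul_mem hc (C.inv_mem hx₀C)) (by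
      rw [hc', mul_assoc d x₀, mul_assoc d]
      exact (commutator N).mul_mem hd
        ((inferInstance : (commutator N).Normal).conj_mem _ ((commutator N).inv_mem hd) x₀))
    have hcx : d * x₀ * d⁻¹ = x₀ := hc' ▸ mul_inv_eq_one.1 hone
    have hdC : d ∈ C := by
      rw [hC₀, Subgroup.mem_centralizer_singleton_iff]
      exact mul_inv_eq_iff_eq_mul.1 hcx
    rw [hCD d hdC hd, OneMemClass.coe_one]
  let E := MulEquiv.ofBijective e ⟨hinj, hsur⟩
  refine ⟨Γ.subtype.comp (E.symm.toMonoidHom.comp (QuotientGroup.mk' D₁)), fun x => ?_, fun d hd => ?_⟩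
  · have h1 : ((E.symm (x : G ⧸ D₁) : Γ) : G ⧸ D₁) = (x : G ⧸ D₁) := E.apply_symm_apply (x : G ⧸ D₁)
    refine (QuotientGroup.eq_one_iff _).1 ?_
    show ((x * ((E.symm (x : G ⧸ D₁) : Γ) : G)⁻¹ : G) : G ⧸ D₁) = 1
    rw [QuotientGroup.mk_mul, QuotientGroup.mk_inv, h1, mul_inv_cancel]
  · show ((E.symm (d : G ⧸ D₁) : Γ) : G) = 1
    rw [(QuotientGroup.eq_one_iff d).2 hd, map_one, OneMemClass.coe_one]

/-- The stabilizer of a character of the classes. -/
noncomputable def stV (K : Subgroup G) [K.Normal] (v : Abelianization K →* ℂˣ) : Subgroup G :=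
  inertia K (fun n : K => ((v (Abelianization.of n) : ℂˣ) : ℂ))

theorem mem_stV {K : Subgroup G} [K.Normal] {v : Abelianization K →* ℂˣ} {x : G} :
    x ∈ stV K v ↔ ∀ a, v (conjA K x a) = v a := by
  rw [← inv_mem_iff, stV, mem_inertia, conjFun_hom, inv_inv]
  exact ⟨fun e a => by
    obtain ⟨n, rfl⟩ := of_surjective a
    exact Units.ext (congrFun e n), fun e => funext fun n => congrArg Units.val (e _)⟩

theorem isIrr_v {K : Subgroup G} [K.Normal] (v : Abelianization K →* ℂˣ) :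
    IsIrrCharacter K (fun n : K => ((v (Abelianization.of n) : ℂˣ) : ℂ)) := by
  haveI := Fintype.ofFinite K
  exact isIrrCharacter_of_hom ((Units.coeHom ℂ).comp (v.comp Abelianization.of))

theorem le_stV {K : Subgroup G} [K.Normal] (v : Abelianization K →* ℂˣ) : K ≤ stV K v :=
  le_inertia K (IsIrrCharacter.isClassFunction (isIrr_v v))

/-- The orbit size of a linear character of the derived subgroup of `N` is a degree. -/
theorem exists_deg_stV {K : Subgroup G} [K.Normal] (π : G →* G) (hπ : ∀ x, x * (π x)⁻¹ ∈ K)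
    (hker : ∀ d ∈ K, π d = 1) (v : Abelianization K →* ℂˣ) :
    ∃ χ : IrrCharacter G, charDegree (χ : G → ℂ) = (stV K v).index := by
  classical
  haveI := Fintype.ofFinite G
  haveI := Fintype.ofFinite K
  set φ : K → ℂ := fun n => ((v (Abelianization.of n) : ℂˣ) : ℂ)
  haveI := Fintype.ofFinite (inertia K φ)
  have hπT : ∀ s ∈ stV K v, π s ∈ stV K v := fun s hs => by
    have := (stV K v).mul_mem ((stV K v).inv_mem (le_stV v (hπ s))) hs
    simpa using this
  let ψ : inertia K φ →* ℂ :=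
    { toFun := fun t => ((v (Abelianization.of ⟨(t : G) * (π (t : G))⁻¹, hπ _⟩) : ℂˣ) : ℂ)
      map_one' := by
        rw [show (⟨((1 : inertia K φ) : G) * (π ((1 : inertia K φ) : G))⁻¹, hπ _⟩ : K) = 1 from
          Subtype.ext (by simp), map_one, map_one, Units.val_one]
      map_mul' := fun s t => by
        rw [show (⟨((s * t : inertia K φ) : G) * (π ((s * t : inertia K φ) : G))⁻¹, hπ _⟩ : K) =
            ⟨(s : G) * (π (s : G))⁻¹, hπ _⟩ *
              MulAut.conjNormal (π (s : G)) ⟨(t : G) * (π (t : G))⁻¹, hπ _⟩ by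
          apply Subtype.ext
          simp only [Subgroup.coe_mul, MulAut.conjNormal_apply, map_mul]
          group, map_mul, map_mul, Units.val_mul, ← conjA_of]
        congr 1
        exact congrArg Units.val (mem_stV.1 (hπT _ s.2) _) }
  have hirr : IsIrrCharacter (inertia K φ) ψ := isIrrCharacter_of_hom ψ
  have hover : classInner (fun n : K => ψ ⟨(n : G),
      le_inertia K (IsIrrCharacter.isClassFunction (isIrr_v v)) n.2⟩) φ ≠ 0 := by
    rw [show (fun n : K => ψ ⟨(n : G), _⟩) = φ from funext fun n => by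
      show ((v (Abelianization.of _) : ℂˣ) : ℂ) = _
      simp [φ, hker n n.2], classInner_irr_self (isIrr_v v)]
    exact one_ne_zero
  obtain ⟨hind, -, -⟩ := clifford_correspondence K (isIrr_v v) hirr hover
  refine ⟨⟨_, hind⟩, ?_⟩
  have h1 := apply_one hind
  rw [indFun_one_apply, map_one, mul_one] at h1
  exact (Nat.cast_injective (R := ℂ) h1).symm

/-- An element centralizing nothing is surjective by brackets on every invariant subgroup. -/
theorem exists_bracket_eq {K : Subgroup G} {x : G} (hK : ∀ k ∈ K, x * k * x⁻¹ ∈ K)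
    (hfpf : ∀ k ∈ K, x * k = k * x → k = 1) {k : G} (hk : k ∈ K) : ∃ j ∈ K, ⁅x, j⁆ = k := by
  let δ : K → K := fun j => ⟨⁅x, (j : G)⁆, by
    rw [commutatorElement_def]
    exact K.mul_mem (hK j j.2) (K.inv_mem j.2)⟩
  have hδ : Function.Injective δ := fun a b e => by
    have h1 : ⁅x, (a : G)⁆ = ⁅x, (b : G)⁆ := congrArg Subtype.val e
    rw [commutatorElement_def, commutatorElement_def] at h1
    have h2 := hfpf ((b : G)⁻¹ * a) (K.mul_mem (K.inv_mem b.2) a.2) (by
      calc x * ((b : G)⁻¹ * a) = (x * b * x⁻¹ * (b : G)⁻¹ * b)⁻¹ * (x * a * x⁻¹ * (a : G)⁻¹ * a) * x := by group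
        _ = (b : G)⁻¹ * a * x := by rw [h1]; group)
    exact Subtype.ext (inv_mul_eq_one.1 h2).symm
  obtain ⟨j, hj⟩ := Finite.injective_iff_surjective.1 hδ ⟨k, hk⟩
  exact ⟨j, j.2, congrArg Subtype.val hj⟩

/-- Moved elements fix no nontrivial character of the classes of the derived subgroup. -/
theorem Ctx.eq_one_of_moved (h : Ctx N g f q) (hD : ¬ q ∣ Nat.card (commutator N)) {x : N}
    (hx : ¬ Fixed N g x) {v : Abelianization (⁅N, N⁆ : Subgroup G) →* ℂˣ}
    (hv : (x : G) ∈ stV _ v) : v = 1 := by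
  obtain ⟨C, -, -, -, -, -, hfpf⟩ := h.exists_fpf hD
  refine MonoidHom.ext fun a => ?_
  obtain ⟨k, rfl⟩ := of_surjective a
  obtain ⟨j, hj, hjk⟩ := exists_bracket_eq (K := (⁅N, N⁆ : Subgroup G)) (x := (x : G))
    (fun k hk => (inferInstance : (⁅N, N⁆ : Subgroup G).Normal).conj_mem k hk _)
    (fun k hk e => by
      have := hfpf x hx ⟨k, derN_le hk⟩ (coe_mem_derN.1 hk) (Subtype.ext e)
      exact congrArg Subtype.val this) k.2
  have e : k = MulAut.conjNormal (x : G) (⟨j, hj⟩ : (⁅N, N⁆ : Subgroup G)) * (⟨j, hj⟩ : (⁅N, N⁆ : Subgroup G))⁻¹ :=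
    Subtype.ext (by rw [← hjk, commutatorElement_def]; simp [MulAut.conjNormal_apply])
  rw [e, map_mul, map_inv, map_mul, map_inv, ← conjA_of, mem_stV.1 hv, mul_inv_cancel]
  rfl

end Cfsg.Agent.NoDivDeg
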