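/-
`q` prime to the order of the derived subgroup of the kernel: all nontrivial linear characters of the
derived subgroup have the same stabilizer in `N` and the same orbit size.

Main results: `Ctx.exists_fixed_char`, `Ctx.stV_inf_eq`, `Ctx.imgOrd_eq`, `Ctx.index_eq`.
-/
import Cfsg.Agent.Lib.NoDivDeg.CompA
import Cfsg.Agent.Lib.NoDivDeg.Fpf
import Cfsg.Agent.Lib.NoDivDeg.Orbits
import Cfsg.Agent.Lib.NoDivDeg.Alg

set_option autoImplicit false
set_option linter.style.haveILetI false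
set_option linter.unusedSectionVars false

namespace Cfsg.Agent.NoDivDeg

open Cfsg Cfsg.Agent.Char Cfsg.Agent.CharApp Cfsg.Agent.CharApp.DegreeSets
open scoped ComplexConjugate commutatorElement

universe u v

variable {G : Type u} [Group G] [Finite G] {N : Subgroup G} [hNn : N.Normal] {g : G} {f q : ℕ}

/-- The dual of an action. -/
noncomputable def dualAct {Γ : Type*} [Group Γ] {U : Type v} [CommGroup U] (ρ : Γ →* MulAut U) :
    Γ →* MulAut (U →* ℂˣ) where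
  toFun x :=
    { toFun := fun l => l.comp (ρ x⁻¹).toMonoidHom
      invFun := fun l => l.comp (ρ x).toMonoidHom
      left_inv := fun l => MonoidHom.ext fun a => by
        show l (ρ x⁻¹ (ρ x a)) = l a
        rw [← MulAut.mul_apply, ← map_mul, inv_mul_cancel, map_one, MulAut.one_apply]
      right_inv := fun l => MonoidHom.ext fun a => by
        show l (ρ x (ρ x⁻¹ a)) = l a
        rw [← MulAut.mul_apply, ← map_mul, mul_inv_cancel, map_one, MulAut.one_apply]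
      map_mul' := fun a b => rfl }
  map_one' := MulEquiv.ext fun l => MonoidHom.ext fun a => by
    show l (ρ (1 : Γ)⁻¹ a) = l a
    rw [inv_one, map_one, MulAut.one_apply]
  map_mul' x y := MulEquiv.ext fun l => MonoidHom.ext fun a => by
    show l (ρ (x * y)⁻¹ a) = l (ρ y⁻¹ (ρ x⁻¹ a))
    rw [mul_inv_rev, map_mul, MulAut.mul_apply]

theorem dualAct_apply {Γ : Type*} [Group Γ] {U : Type v} [CommGroup U] (ρ : Γ →* MulAut U) (x : Γ)
    (l : U →* ℂˣ) (a : U) : dualAct ρ x l a = l (ρ x⁻¹ a) := rfl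

/-- The action on the linear characters of a normal subgroup. -/
noncomputable def conjV (K : Subgroup G) [K.Normal] : G →* MulAut (Abelianization K →* ℂˣ) :=
  dualAct (conjA K)

theorem mem_stV_iff {K : Subgroup G} [K.Normal] {v : Abelianization K →* ℂˣ} {x : G} :
    x ∈ stV K v ↔ conjV K x v = v := by
  rw [← inv_mem_iff, mem_stV, DFunLike.ext_iff]
  exact Iff.rfl

theorem mem_stV_conj {K : Subgroup G} [K.Normal] (c : G) (v : Abelianization K →* ℂˣ) {x : G} :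
    x ∈ stV K (conjV K c v) ↔ c⁻¹ * x * c ∈ stV K v := by
  rw [mem_stV_iff, mem_stV_iff, ← MulAut.mul_apply, ← map_mul,
    show x * c = c * (c⁻¹ * x * c) by group, map_mul, MulAut.mul_apply, (conjV K c).injective.eq_iff]

/-- The part of `N` with fixed classes. -/
noncomputable def fixN (N : Subgroup G) [N.Normal] (g : G) : Subgroup G :=
  ((deltaA N g).ker.comap Abelianization.of).map N.subtype

theorem coe_mem_fixN {n : N} : (n : G) ∈ fixN N g ↔ Fixed N g n := by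
  refine Iff.trans ⟨fun ⟨b, hb, e⟩ => ?_, fun h => ⟨n, h, rfl⟩⟩ mem_ker_deltaA
  rwa [← Subtype.ext e]

theorem fixN_le : fixN N g ≤ N := Subgroup.map_subtype_le _

theorem derN_le_fixN : (⁅N, N⁆ : Subgroup G) ≤ fixN N g := fun x hx => by
  have : (⟨x, derN_le hx⟩ : N) ∈ commutator N := coe_mem_derN.1 hx
  refine (coe_mem_fixN (n := ⟨x, derN_le hx⟩)).2 ?_
  unfold Fixed
  rw [show Abelianization.of (⟨x, derN_le hx⟩ : N) = 1 from (QuotientGroup.eq_one_iff _).2 this, map_one]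

theorem Ctx.bracket_fixN (h : Ctx N g f q) (x : G) {y : G} (hy : y ∈ fixN N g) :
    ⁅x, y⁆ ∈ (⁅N, N⁆ : Subgroup G) := by
  lift y to N using fixN_le hy
  have hfx := mem_ker_deltaA.1 (h.ker_le x (mem_ker_deltaA.2 (coe_mem_fixN.1 hy)))
  rw [conjA_of, ← mul_inv_eq_one, ← map_inv, ← map_mul] at hfx
  have := coe_mem_derN.2 ((QuotientGroup.eq_one_iff _).1 hfx)
  simpa [commutatorElement_def] using this

theorem Ctx.normal_between (h : Ctx N g f q) {R : Subgroup G} (hDR : (⁅N, N⁆ : Subgroup G) ≤ R)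
    (hR : R ≤ fixN N g) : R.Normal :=
  ⟨fun r hr x => by
    rw [show x * r * x⁻¹ = ⁅x, r⁆ * r by rw [commutatorElement_def]; group]
    exact R.mul_mem (hDR (h.bracket_fixN x (hR hr))) hr⟩

theorem Ctx.stV_inf_le (h : Ctx N g f q) (hD : ¬ q ∣ Nat.card (commutator N))
    {v : Abelianization (⁅N, N⁆ : Subgroup G) →* ℂˣ} (hv : v ≠ 1) : stV _ v ⊓ N ≤ fixN N g := by
  rintro x ⟨hx, hxN⟩
  lift x to N using hxN
  by_contra hf
  exact hv (h.eq_one_of_moved hD (fun e => hf (coe_mem_fixN.2 e)) hx)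

theorem derN_le_stV_inf (v : Abelianization (⁅N, N⁆ : Subgroup G) →* ℂˣ) :
    (⁅N, N⁆ : Subgroup G) ≤ stV _ v ⊓ N :=
  le_inf (le_stV v) derN_le

/-- The order of the image modulo `N`. -/
noncomputable def imgOrd (N : Subgroup G) [N.Normal] (T : Subgroup G) : ℕ :=
  Nat.card (T.map (QuotientGroup.mk' N))

theorem imgOrd_pos (T : Subgroup G) : 0 < imgOrd N T := Nat.card_pos

theorem card_eq_imgOrd_mul (T : Subgroup G) :
    Nat.card T = imgOrd N T * Nat.card (T ⊓ N : Subgroup G) := by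
  set π := (QuotientGroup.mk' N).subgroupMap T
  have hk : π.ker = (T ⊓ N).subgroupOf T := by
    ext x
    rw [MonoidHom.mem_ker, Subgroup.mem_subgroupOf, Subgroup.mem_inf]
    exact (Subtype.ext_iff.trans (QuotientGroup.eq_one_iff (x : G))).trans
      ⟨fun h => ⟨x.2, h⟩, fun h => h.2⟩
  rw [← π.ker.card_mul_index, Subgroup.index_ker, hk, MonoidHom.range_eq_top.2
    (MonoidHom.subgroupMap_surjective _ _), Subgroup.card_top,
    Nat.card_congr (Subgroup.subgroupOfEquivOfLe (inf_le_left : T ⊓ N ≤ T)).toEquiv, mul_comm]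
  rfl

theorem Ctx.exists_gen_of (h : Ctx N g f q) (T : Subgroup G) : ∃ y ∈ T, y ^ imgOrd N T ∈ N ∧
    (∀ i, 0 < i → i < imgOrd N T → y ^ i ∉ N) ∧ ∀ x ∈ T, ∃ i : ℤ, (y ^ i)⁻¹ * x ∈ N := by
  haveI := h.isCyclic
  haveI : IsCyclic (T.map (QuotientGroup.mk' N)) := Subgroup.isCyclic _
  obtain ⟨⟨_, y, hy, rfl⟩, hgen⟩ := IsCyclic.exists_generator (α := T.map (QuotientGroup.mk' N))
  have hord : orderOf (y : G ⧸ N) = imgOrd N T := by
    rw [imgOrd, ← orderOf_eq_card_of_forall_mem_zpowers hgen]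
    exact Subgroup.orderOf_coe ⟨(y : G ⧸ N), _⟩
  refine ⟨y, hy, ?_, fun i h1 h2 hm => ?_, fun x hx => ?_⟩
  · rw [← QuotientGroup.eq_one_iff, QuotientGroup.mk_pow, ← hord, pow_orderOf_eq_one]
  · rw [← hord] at h2
    exact (Nat.le_of_dvd h1 (orderOf_dvd_of_pow_eq_one (by
      rw [← QuotientGroup.mk_pow]; exact (QuotientGroup.eq_one_iff _).2 hm))).not_gt h2
  · obtain ⟨i, hi⟩ := Subgroup.mem_zpowers_iff.1 (hgen ⟨_, x, hx, rfl⟩)
    refine ⟨i, QuotientGroup.eq.1 ?_⟩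
    have := congrArg Subtype.val hi
    rw [Subgroup.coe_zpow] at this
    rw [QuotientGroup.mk_zpow]
    exact this

theorem Ctx.exists_mov_order (h : Ctx N g f q) : ∃ a ∈ movA N g, a ≠ 1 ∧ a ^ q = 1 := by
  haveI := Fact.mk h.prime
  obtain ⟨x, ⟨j, hj⟩, hx⟩ := h.exists_movedA
  obtain ⟨w, hw, m, hm, e⟩ := h.exists_decompA (Abelianization.of x)
  have hw1 : w ≠ 1 := fun hw1 => hx (by rw [e, hw1, one_mul, hm])
  have hwj : w ^ (q ^ j) = 1 := by
    have h1 : w ^ (q ^ j) * m ^ (q ^ j) = 1 := by rw [← mul_pow, ← e, ← map_pow, hj, map_one]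
    refine h.range_inf_ker ((movA N g).pow_mem hw _) ?_
    rw [eq_inv_of_mul_eq_one_left h1, map_inv, map_pow, hm]
  obtain ⟨i, -, hi⟩ := (Nat.dvd_prime_pow h.prime).1 (orderOf_dvd_of_pow_eq_one hwj)
  have hi0 : i ≠ 0 := fun e0 => hw1 (orderOf_eq_one_iff.1 (by rw [hi, e0, pow_zero]))
  have hqd : q ∣ orderOf w := hi ▸ dvd_pow_self q hi0
  have ho := orderOf_pow_orderOf_div (orderOf_pos w).ne' hqd
  refine ⟨w ^ (orderOf w / q), (movA N g).pow_mem hw _, fun e1 => h.prime.ne_one ?_, ?_⟩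
  · rw [← ho, e1, orderOf_one]
  · have := pow_orderOf_eq_one (w ^ (orderOf w / q))
    rwa [ho] at this

theorem Ctx.card_dual_coprime (h : Ctx N g f q) (hD : ¬ q ∣ Nat.card (commutator N)) :
    (Nat.card (Abelianization (⁅N, N⁆ : Subgroup G) →* ℂˣ)).Coprime q := by
  rw [card_dual, Nat.coprime_comm, h.prime.coprime_iff_not_dvd]
  intro hd
  refine hD (hd.trans ?_)
  rw [← card_derN]
  exact Subgroup.card_quotient_dvd_card _

/-- An element with proper powers outside `N`, its power in `R`: a character fixed by it and `R`. -/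
theorem Ctx.exists_fixed_char (h : Ctx N g f q) (hD : ¬ q ∣ Nat.card (commutator N)) {R : Subgroup G}
    (hDR : (⁅N, N⁆ : Subgroup G) ≤ R) (hRM : R ≤ fixN N g) {y : G} {e : ℕ} (he : 0 < e)
    (hye : y ^ e ∈ R) (hy : ∀ i, 0 < i → i < e → y ^ i ∉ N)
    {v₀ : Abelianization (⁅N, N⁆ : Subgroup G) →* ℂˣ} (hv₀ : v₀ ≠ 1) (hR : R ≤ stV _ v₀) :
    ∃ v : Abelianization (⁅N, N⁆ : Subgroup G) →* ℂˣ, v ≠ 1 ∧ R ≤ stV _ v ∧ y ∈ stV _ v := by
  classical
  haveI := Fact.mk h.prime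
  haveI hRn := h.normal_between hDR hRM
  haveI : Finite (Abelianization (⁅N, N⁆ : Subgroup G) →* ℂˣ) := inferInstance
  let U : Subgroup (Abelianization (⁅N, N⁆ : Subgroup G) →* ℂˣ) :=
    { carrier := {v | ∀ r ∈ R, conjV (⁅N, N⁆ : Subgroup G) r v = v}
      one_mem' := fun r _ => map_one _
      mul_mem' := fun {a b} ha hb r hr => by rw [map_mul, ha r hr, hb r hr]
      inv_mem' := fun {a} ha r hr => by rw [map_inv, ha r hr] }
  have hU : ∀ {v}, v ∈ U ↔ R ≤ stV (⁅N, N⁆ : Subgroup G) v := fun {v} =>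
    ⟨fun hv r hr => mem_stV_iff.2 (hv r hr), fun hv r hr => mem_stV_iff.1 (hv hr)⟩
  have hUinv : ∀ (x : G) (v), v ∈ U → conjV (⁅N, N⁆ : Subgroup G) x v ∈ U := fun x v hv => hU.2 fun r hr =>
    (mem_stV_conj x v).2 (hU.1 hv (hRn.conj_mem' r hr x))
  let act : G →* MulAut U :=
    { toFun := fun x =>
        { toFun := fun v => ⟨conjV (⁅N, N⁆ : Subgroup G) x v, hUinv x v v.2⟩
          invFun := fun v => ⟨conjV (⁅N, N⁆ : Subgroup G) x⁻¹ v, hUinv _ v v.2⟩
          left_inv := fun v => Subtype.ext (by simp)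
          right_inv := fun v => Subtype.ext (by simp)
          map_mul' := fun a b => Subtype.ext (map_mul _ _ _) }
      map_one' := MulEquiv.ext fun v => Subtype.ext (by simp)
      map_mul' := fun x y => MulEquiv.ext fun v => Subtype.ext (by simp [map_mul]) }
  haveI : Nontrivial U := ⟨⟨v₀, hU.2 hR⟩, 1, fun e => hv₀ (congrArg Subtype.val e)⟩
  let ρ : G ⧸ (⁅N, N⁆ : Subgroup G) →* MulAut U := QuotientGroup.lift (⁅N, N⁆ : Subgroup G) act fun d hd => MulEquiv.ext fun v =>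
    Subtype.ext (mem_stV_iff.1 (le_stV (v : Abelianization (⁅N, N⁆ : Subgroup G) →* ℂˣ) hd))
  let Tq : Subgroup (Abelianization N) := movA N g ⊓ (powMonoidHom q : Abelianization N →* _).ker
  let E : Subgroup (G ⧸ (⁅N, N⁆ : Subgroup G)) := ((Tq.comap Abelianization.of).map N.subtype).map (QuotientGroup.mk' (⁅N, N⁆ : Subgroup G))
  have hE : IsPGroup q E := by
    rintro ⟨_, _, ⟨n, hn, rfl⟩, rfl⟩
    refine ⟨1, Subtype.ext ((QuotientGroup.eq_one_iff _).2 ?_)⟩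
    rw [pow_one]
    show ((n ^ q : N) : G) ∈ _
    refine coe_mem_derN.2 ((QuotientGroup.eq_one_iff _).1 ?_)
    show Abelianization.of (n ^ q) = 1
    rw [map_pow]
    exact hn.2
  obtain ⟨k, hk⟩ := hE.exists_card_eq
  have hco : (Nat.card U).Coprime (Nat.card E) := by
    rw [hk]
    exact ((h.card_dual_coprime hD).coprime_dvd_left (Subgroup.card_subgroup_dvd_card U)).pow_right k
  obtain ⟨a, ha, ha1, haq⟩ := h.exists_mov_order
  obtain ⟨n₀, hn₀⟩ := of_surjective a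
  have hEfix : ∀ u : U, (∀ z ∈ E, ρ z u = u) → u = 1 := fun u hu => by
    refine Subtype.ext (h.eq_one_of_moved hD (x := n₀) (fun hf => ha1 (h.range_inf_ker ha ?_)) ?_)
    · rw [← hn₀]; exact hf
    · refine mem_stV_iff.2 (congrArg Subtype.val (hu ((n₀ : G) : G ⧸ (⁅N, N⁆ : Subgroup G)) ⟨_, ⟨n₀, ?_, rfl⟩, rfl⟩))
      show Abelianization.of n₀ ∈ Tq
      rw [hn₀]
      exact ⟨ha, haq⟩
  obtain ⟨u, hu1, hu⟩ : ∃ u : U, u ≠ 1 ∧ ρ (y : G ⧸ (⁅N, N⁆ : Subgroup G)) u = u := by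
    refine Fpf.exists_fixed ρ E hco hEfix (y : G ⧸ (⁅N, N⁆ : Subgroup G)) e he
      (MulEquiv.ext fun v => Subtype.ext (mem_stV_iff.1 (hU.1 v.2 hye))) ?_ ?_
    · rintro _ ⟨_, ⟨n, ⟨hn, hnq⟩, rfl⟩, rfl⟩
      refine ⟨_, ⟨MulAut.conjNormal y n, ⟨?_, ?_⟩, rfl⟩, by simp [MulAut.conjNormal_apply]⟩
      · rw [← conjA_of]
        exact h.conjA_mem_movA y hn
      · show Abelianization.of (MulAut.conjNormal y n) ^ q = 1
        rw [← conjA_of, ← map_pow, show Abelianization.of n ^ q = 1 from hnq, map_one]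
    · rintro i hi hie _ ⟨_, ⟨n, hn, rfl⟩, rfl⟩ hc
      refine (QuotientGroup.eq_one_iff _).2 (coe_mem_derN.2 ((QuotientGroup.eq_one_iff n).1 ?_))
      refine h.eq_one_of_fix (hy i hi hie) hn.1 ?_
      show conjA N (y ^ i) (Abelianization.of n) = Abelianization.of n
      rw [conjA_of, of_eq_of_iff, ← coe_mem_derN]
      have h1 : (((n : G) * y ^ i : G) : G ⧸ (⁅N, N⁆ : Subgroup G)) = ((y ^ i * (n : G) : G) : G ⧸ _) := by
        simpa using hc
      have h3 := (⁅N, N⁆ : Subgroup G).inv_mem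
        ((inferInstance : (⁅N, N⁆ : Subgroup G).Normal).conj_mem _ (QuotientGroup.eq.1 h1) (y ^ i))
      simp only [Subgroup.coe_mul, InvMemClass.coe_inv, MulAut.conjNormal_apply]
      simpa [mul_assoc] using h3
  exact ⟨u, fun e1 => hu1 (Subtype.ext e1), hU.1 u.2, mem_stV_iff.2 (congrArg Subtype.val hu)⟩

theorem Ctx.stV_ne_top (h : Ctx N g f q) (hD : ¬ q ∣ Nat.card (commutator N))
    {v : Abelianization (⁅N, N⁆ : Subgroup G) →* ℂˣ} (hv : v ≠ 1) : (stV _ v).index ≠ 1 := fun e => by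
  obtain ⟨x, -, hx⟩ := h.exists_movedA
  exact hv (h.eq_one_of_moved hD hx (Subgroup.index_eq_one.1 e ▸ Subgroup.mem_top _))

/-- A larger stabilizer has the same order. -/
theorem Ctx.card_stV_eq (h : Ctx N g f q) (hD : ¬ q ∣ Nat.card (commutator N))
    {v w : Abelianization (⁅N, N⁆ : Subgroup G) →* ℂˣ} (hw : w ≠ 1)
    (hd : Nat.card (stV _ v) ∣ Nat.card (stV _ w)) :
    Nat.card (stV _ v) = Nat.card (stV _ w) ∧ (stV _ v).index = (stV _ w).index := by
  obtain ⟨π, hπ, hker⟩ := h.exists_retraction hD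
  obtain ⟨χ, hχ⟩ := exists_deg_stV π hπ hker v
  obtain ⟨χ', hχ'⟩ := exists_deg_stV π hπ hker w
  have e1 := (stV _ v).card_mul_index
  have e2 := (stV _ w).card_mul_index
  have hidx : (stV _ w).index ∣ (stV _ v).index := by
    obtain ⟨c, hc⟩ := hd
    refine ⟨c, ?_⟩
    rw [← e2, hc, mul_assoc] at e1
    rw [Nat.eq_of_mul_eq_mul_left Nat.card_pos e1, mul_comm]
  rw [← hχ, ← hχ'] at hidx
  have h3 := h.nd.eq_of_dvd (χ := χ') (χ' := χ) (hχ' ▸ h.stV_ne_top hD hw) hidx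
  rw [hχ, hχ'] at h3
  rw [h3] at e2
  exact ⟨Nat.eq_of_mul_eq_mul_right (Nat.pos_of_ne_zero Subgroup.index_ne_zero_of_finite)
    (e1.trans e2.symm), h3.symm⟩

theorem Ctx.stV_inf_eq_of_le (h : Ctx N g f q) (hD : ¬ q ∣ Nat.card (commutator N))
    {v w : Abelianization (⁅N, N⁆ : Subgroup G) →* ℂˣ} (hv : v ≠ 1) (hw : w ≠ 1)
    (hle : stV _ v ⊓ N ≤ stV _ w) : stV _ v ⊓ N = stV _ w ⊓ N := by
  set R := stV _ w ⊓ N
  obtain ⟨y, hy, hyN, hymin, hgen⟩ := h.exists_gen_of (stV _ v)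
  have hye : y ^ imgOrd N (stV _ v) ∈ R := ⟨hle ⟨(stV _ v).pow_mem hy _, hyN⟩, hyN⟩
  obtain ⟨u, hu, hRu, hyu⟩ := h.exists_fixed_char hD (derN_le_stV_inf w) (h.stV_inf_le hD hw)
    (imgOrd_pos _) hye hymin hw inf_le_left
  have hsub : stV _ v ≤ stV _ u := fun x hx => by
    obtain ⟨i, hi⟩ := hgen x hx
    have hm : (y ^ i)⁻¹ * x ∈ stV _ v := (stV _ v).mul_mem ((stV _ v).inv_mem ((stV _ v).zpow_mem hy i)) hx
    have h1 := (stV _ u).mul_mem ((stV _ u).zpow_mem hyu i) (hRu ⟨hle ⟨hm, hi⟩, hi⟩)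
    rwa [mul_inv_cancel_left] at h1
  have heq : stV _ v = stV _ u := Subgroup.eq_of_le_of_card_ge hsub
    (h.card_stV_eq hD hu (Subgroup.card_dvd_of_le hsub)).1.ge
  refine le_antisymm (le_inf hle inf_le_right) (le_inf ?_ inf_le_right)
  rw [heq]
  exact hRu

/-- All nontrivial characters have one stabilizer in `N`. -/
theorem Ctx.stV_inf_eq (h : Ctx N g f q) (hD : ¬ q ∣ Nat.card (commutator N))
    {v w : Abelianization (⁅N, N⁆ : Subgroup G) →* ℂˣ} (hv : v ≠ 1) (hw : w ≠ 1) :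
    stV _ v ⊓ N = stV _ w ⊓ N := by
  classical
  let τ : Abelianization N →* MulAut (Abelianization (⁅N, N⁆ : Subgroup G) →* ℂˣ) :=
    QuotientGroup.lift (commutator N) ((conjV (⁅N, N⁆ : Subgroup G)).comp N.subtype) fun n hn => MulEquiv.ext fun l =>
      mem_stV_iff.1 (le_stV l (coe_mem_derN.2 hn))
  letI : MulDistribMulAction (deltaA N g).ker (Abelianization (⁅N, N⁆ : Subgroup G) →* ℂˣ) :=
    { smul := fun a l => τ a l
      one_smul := fun l => by
        show τ ((1 : (deltaA N g).ker) : Abelianization N) l = l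
        rw [OneMemClass.coe_one, map_one, MulAut.one_apply]
      mul_smul := fun a b l => by
        show τ ((a * b : (deltaA N g).ker) : Abelianization N) l = τ a (τ b l)
        rw [Subgroup.coe_mul, map_mul, MulAut.mul_apply]
      smul_mul := fun a l l' => map_mul (τ a) l l'
      smul_one := fun a => map_one (τ a) }
  have hsm : ∀ (n : N) (hn : Abelianization.of n ∈ (deltaA N g).ker) (l : Abelianization (⁅N, N⁆ : Subgroup G) →* ℂˣ),
      (⟨_, hn⟩ : (deltaA N g).ker) • l = conjV (⁅N, N⁆ : Subgroup G) (n : G) l := fun n hn l => rfl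
  have key : ∀ {a b : Abelianization (⁅N, N⁆ : Subgroup G) →* ℂˣ}, a ≠ 1 →
      (MulAction.stabilizer (deltaA N g).ker a ≤ MulAction.stabilizer (deltaA N g).ker b ↔
        stV (⁅N, N⁆ : Subgroup G) a ⊓ N ≤ stV (⁅N, N⁆ : Subgroup G) b) := by
    intro a b ha
    constructor
    · rintro hle x ⟨hx, hxN⟩
      lift x to N using hxN
      have hf : Abelianization.of x ∈ (deltaA N g).ker :=
        mem_ker_deltaA.2 (coe_mem_fixN.1 (h.stV_inf_le hD ha ⟨hx, x.2⟩))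
      refine mem_stV_iff.2 ((hsm x hf b).symm.trans ?_)
      exact hle ((hsm x hf a).trans (mem_stV_iff.1 hx))
    · rintro hle ⟨c, hc⟩ hca
      obtain ⟨x, rfl⟩ := of_surjective c
      exact (hsm x hc b).trans (mem_stV_iff.1 (hle ⟨mem_stV_iff.2 ((hsm x hc a).symm.trans hca), x.2⟩))
  have e : MulAction.stabilizer (deltaA N g).ker v = MulAction.stabilizer (deltaA N g).ker w :=
    stabilizer_eq_of_le (A := (deltaA N g).ker) (V := Abelianization (⁅N, N⁆ : Subgroup G) →* ℂˣ)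
      (fun a b ha hb hab => ?_) hv hw
  · exact le_antisymm (le_inf ((key hv).1 e.le) inf_le_right) (le_inf ((key hw).1 e.ge) inf_le_right)
  · refine le_antisymm hab ((key hb).2 ?_)
    rw [← h.stV_inf_eq_of_le hD ha hb ((key ha).1 hab)]
    exact inf_le_left

/-- The elements commuting with `g` modulo the derived subgroup. -/
noncomputable def cenG (N : Subgroup G) [N.Normal] (g : G) : Subgroup G :=
  (Subgroup.centralizer ({(g : G ⧸ (⁅N, N⁆ : Subgroup G))} : Set _)).comap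
    (QuotientGroup.mk' (⁅N, N⁆ : Subgroup G))

theorem mem_cenG {x : G} : x ∈ cenG N g ↔
    Commute (x : G ⧸ (⁅N, N⁆ : Subgroup G)) (g : G ⧸ (⁅N, N⁆ : Subgroup G)) :=
  Subgroup.mem_centralizer_singleton_iff

theorem Ctx.commute_fixN (h : Ctx N g f q) (x : G) {y : G} (hy : y ∈ fixN N g) :
    Commute (x : G ⧸ (⁅N, N⁆ : Subgroup G)) (y : G ⧸ (⁅N, N⁆ : Subgroup G)) := by
  refine commutatorElement_eq_one_iff_mul_comm.1 ?_
  exact (map_commutatorElement (QuotientGroup.mk' (⁅N, N⁆ : Subgroup G)) x y).symm.trans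
    ((QuotientGroup.eq_one_iff _).2 (h.bracket_fixN x hy))

theorem Ctx.fixN_le_cenG (h : Ctx N g f q) : fixN N g ≤ cenG N g := fun _ hy =>
  mem_cenG.2 (h.commute_fixN g hy).symm

theorem cenG_inf_le {x : G} (hx : x ∈ cenG N g) (hxN : x ∈ N) : x ∈ fixN N g := by
  lift x to N using hxN
  refine coe_mem_fixN.2 ?_
  unfold Fixed
  rw [conjA_of]
  refine (of_eq_of_iff.2 (coe_mem_derN.1 ?_)).symm
  simp only [Subgroup.coe_mul, InvMemClass.coe_inv, MulAut.conjNormal_apply]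
  refine QuotientGroup.eq.1 ?_
  rw [QuotientGroup.mk_mul, QuotientGroup.mk_mul, QuotientGroup.mk_inv,
    ← (mem_cenG.1 hx).eq, mul_inv_cancel_right]

theorem Ctx.commute_cenG (h : Ctx N g f q) {x y : G} (hx : x ∈ cenG N g) (hy : y ∈ cenG N g) :
    Commute (x : G ⧸ (⁅N, N⁆ : Subgroup G)) (y : G ⧸ (⁅N, N⁆ : Subgroup G)) := by
  obtain ⟨i, hi⟩ := h.gen y
  have hg : g ^ i ∈ cenG N g := (cenG N g).zpow_mem (mem_cenG.2 (Commute.refl _)) i
  have hm := cenG_inf_le ((cenG N g).mul_mem ((cenG N g).inv_mem hg) hy) hi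
  rw [show (y : G ⧸ (⁅N, N⁆ : Subgroup G)) =
    ((g : G ⧸ (⁅N, N⁆ : Subgroup G)) ^ i) * (((g ^ i)⁻¹ * y : G) : G ⧸ (⁅N, N⁆ : Subgroup G)) by
    rw [QuotientGroup.mk_mul, QuotientGroup.mk_inv, QuotientGroup.mk_zpow, mul_inv_cancel_left]]
  exact ((mem_cenG.1 hx).zpow_right i).mul_right (h.commute_fixN x hm)

/-- Conjugation into the centralizer of `g`. -/
theorem Ctx.exists_conj_cenG (h : Ctx N g f q) {y : G} (hy : y ∉ N) :
    ∃ c : N, Abelianization.of c ∈ movA N g ∧ (c : G) * y * (c : G)⁻¹ ∈ cenG N g := by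
  obtain ⟨i, hi⟩ := h.gen y
  set x : G := (g ^ i)⁻¹
  have hxN : x ∉ N := fun hm => hy (by
    simpa [x] using N.mul_mem (inv_mem_iff.1 hm) hi)
  set n : N := ⟨(g ^ i)⁻¹ * y, hi⟩
  obtain ⟨w, hw, m, hm, e⟩ := h.exists_decompA (Abelianization.of n)
  have hw' : w⁻¹ ∈ (deltaA N x).range := by
    rw [h.range_eq hxN]
    exact (movA N g).inv_mem hw
  obtain ⟨a, ha⟩ := hw'
  obtain ⟨a', ha', m', hm', rfl⟩ := h.exists_decompA a
  rw [map_mul, MonoidHom.mem_ker.1 (h.ker_le x (mem_ker_deltaA.2 hm')), mul_one] at ha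
  obtain ⟨c, rfl⟩ := of_surjective a'
  refine ⟨c, ha', ?_⟩
  set n' : N := MulAut.conjNormal x c * n * c⁻¹
  have hn' : Abelianization.of n' = m := by
    simp only [n', map_mul, map_inv, ← conjA_of]
    rw [mul_right_comm, show conjA N x (Abelianization.of c) * (Abelianization.of c)⁻¹ = w⁻¹ from ha, e,
      inv_mul_cancel_left]
  rw [show (c : G) * y * (c : G)⁻¹ = g ^ i * (n' : G) by
    simp only [n', n, x, Subgroup.coe_mul, InvMemClass.coe_inv, MulAut.conjNormal_apply, inv_inv]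
    group]
  refine (cenG N g).mul_mem ((cenG N g).zpow_mem (mem_cenG.2 (Commute.refl _)) i) (h.fixN_le_cenG ?_)
  refine coe_mem_fixN.2 ?_
  unfold Fixed
  rw [hn']
  exact hm

/-- A representative of the stabilizer inside the centralizer of `g`. -/
theorem Ctx.exists_rep (h : Ctx N g f q) (hD : ¬ q ∣ Nat.card (commutator N))
    {v : Abelianization (⁅N, N⁆ : Subgroup G) →* ℂˣ} (hv : v ≠ 1) :
    ∃ z ∈ cenG N g, ∃ c : N, Abelianization.of c ∈ movA N g ∧
      z ∈ stV _ (conjV _ (c : G) v) ∧ z ^ imgOrd N (stV _ v) ∈ stV _ v ⊓ N ∧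
      orderOf (z : G ⧸ N) = imgOrd N (stV _ v) := by
  set T := stV _ v
  obtain ⟨y, hy, hyN, hymin, -⟩ := h.exists_gen_of T
  have hord : ∀ z : G, (z : G ⧸ N) = (y : G ⧸ N) → orderOf (z : G ⧸ N) = imgOrd N T := fun z hz => by
    rw [hz]
    refine (orderOf_eq_iff (imgOrd_pos T)).2 ⟨?_, fun m hm hm0 => ?_⟩
    · rw [← QuotientGroup.mk_pow]; exact (QuotientGroup.eq_one_iff _).2 hyN
    · rw [← QuotientGroup.mk_pow]; exact fun e => hymin m hm0 hm ((QuotientGroup.eq_one_iff _).1 e)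
  by_cases hy1 : y ∈ N
  · have he : imgOrd N T = 1 := by
      by_contra hne
      exact hymin 1 one_pos (lt_of_le_of_ne (imgOrd_pos T) (Ne.symm hne)) (by rwa [pow_one])
    refine ⟨1, one_mem _, 1, by rw [map_one]; exact one_mem _, one_mem _, by
      rw [one_pow]; exact one_mem _, hord 1 ?_⟩
    rw [QuotientGroup.mk_one, (QuotientGroup.eq_one_iff y).2 hy1]
  obtain ⟨c, hc, hz⟩ := h.exists_conj_cenG hy1
  refine ⟨_, hz, c, hc, (mem_stV_conj _ v).2 (by simpa [T, mul_assoc] using hy), ?_, hord _ ?_⟩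
  · haveI := h.normal_between (derN_le_stV_inf v) (h.stV_inf_le hD hv)
    rw [conj_pow]
    exact Subgroup.Normal.conj_mem (H := T ⊓ N) inferInstance _ (Subgroup.mem_inf.2 ⟨T.pow_mem hy _, hyN⟩) _
  · rw [QuotientGroup.mk_mul, QuotientGroup.mk_mul, QuotientGroup.mk_inv,
      (QuotientGroup.eq_one_iff (c : G)).2 c.2, one_mul, inv_one, mul_one]

/-- All stabilizers have images of the same order. -/
theorem Ctx.imgOrd_eq (h : Ctx N g f q) (hD : ¬ q ∣ Nat.card (commutator N))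
    {v w : Abelianization (⁅N, N⁆ : Subgroup G) →* ℂˣ} (hv : v ≠ 1) (hw : w ≠ 1) :
    imgOrd N (stV _ v) = imgOrd N (stV _ w) := by
  classical
  haveI := h.isCyclic
  set R := stV (⁅N, N⁆ : Subgroup G) v ⊓ N
  haveI hRn := h.normal_between (derN_le_stV_inf v) (h.stV_inf_le hD hv)
  obtain ⟨z₁, hz₁, -, -, -, hp₁, ho₁⟩ := h.exists_rep hD hv
  obtain ⟨z₂, hz₂, -, -, -, hp₂, ho₂⟩ := h.exists_rep hD hw
  rw [← h.stV_inf_eq hD hv hw] at hp₂
  set e₁ := imgOrd N (stV (⁅N, N⁆ : Subgroup G) v)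
  set e₂ := imgOrd N (stV (⁅N, N⁆ : Subgroup G) w)
  set L := Nat.lcm e₁ e₂
  obtain ⟨A, B, hAB⟩ : ∃ A B : ℕ, orderOf ((z₁ ^ A * z₂ ^ B : G) : G ⧸ N) = L := by
    refine ⟨orderOf (z₁ : G ⧸ N) / Nat.factorizationLCMLeft (orderOf (z₁ : G ⧸ N)) (orderOf (z₂ : G ⧸ N)),
      orderOf (z₂ : G ⧸ N) / Nat.factorizationLCMRight (orderOf (z₁ : G ⧸ N)) (orderOf (z₂ : G ⧸ N)),
      Eq.trans ?_ ((Commute.orderOf_mul_pow_eq_lcm (x := (z₁ : G ⧸ N)) (y := (z₂ : G ⧸ N))
      (IsMulCommutative.is_comm.comm _ _) (orderOf_pos _).ne' (orderOf_pos _).ne').trans (by rw [ho₁, ho₂]))⟩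
    rw [QuotientGroup.mk_mul, QuotientGroup.mk_pow, QuotientGroup.mk_pow]
  set y := z₁ ^ A * z₂ ^ B
  have hL : 0 < L := Nat.lcm_pos (imgOrd_pos _) (imgOrd_pos _)
  have hyL : y ^ L ∈ R := by
    have hc : Commute (z₁ : G ⧸ R) (z₂ : G ⧸ R) := by
      refine commutatorElement_eq_one_iff_mul_comm.1 ((map_commutatorElement (QuotientGroup.mk' R) z₁ z₂).symm.trans
        ((QuotientGroup.eq_one_iff _).2 (derN_le_stV_inf v ?_)))
      exact (QuotientGroup.eq_one_iff _).1 ((map_commutatorElement (QuotientGroup.mk' (⁅N, N⁆ : Subgroup G)) z₁ z₂).trans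
        (commutatorElement_eq_one_iff_mul_comm.2 (h.commute_cenG hz₁ hz₂)))
    rw [← QuotientGroup.eq_one_iff, QuotientGroup.mk_pow, QuotientGroup.mk_mul, QuotientGroup.mk_pow,
      QuotientGroup.mk_pow, (hc.pow_pow A B).mul_pow, ← pow_mul, ← pow_mul]
    have hk : ∀ (z : G) (e A : ℕ), z ^ e ∈ R → e ∣ L → (z : G ⧸ R) ^ (A * L) = 1 := by
      rintro z e A hz ⟨t, ht⟩
      rw [ht, show A * (e * t) = e * (A * t) by ring, pow_mul, ← QuotientGroup.mk_pow,
        (QuotientGroup.eq_one_iff _).2 hz, one_pow]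
    rw [hk z₁ e₁ A hp₁ (Nat.dvd_lcm_left _ _), hk z₂ e₂ B hp₂ (Nat.dvd_lcm_right _ _), one_mul]
  obtain ⟨u, hu, -, hyu⟩ := h.exists_fixed_char hD (derN_le_stV_inf v) (h.stV_inf_le hD hv) hL hyL
    (fun i h1 h2 hm => (Nat.le_of_dvd h1 (hAB ▸ orderOf_dvd_of_pow_eq_one (by
      rw [← QuotientGroup.mk_pow]; exact (QuotientGroup.eq_one_iff _).2 hm))).not_gt h2) hv inf_le_left
  have hLu : L ∣ imgOrd N (stV (⁅N, N⁆ : Subgroup G) u) := by
    rw [← hAB]
    exact Subgroup.orderOf_dvd_natCard _ (Subgroup.mem_map_of_mem (QuotientGroup.mk' N) hyu)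
  have key : ∀ x : Abelianization (⁅N, N⁆ : Subgroup G) →* ℂˣ, x ≠ 1 → imgOrd N (stV (⁅N, N⁆ : Subgroup G) x) ∣ L →
      imgOrd N (stV (⁅N, N⁆ : Subgroup G) x) = imgOrd N (stV (⁅N, N⁆ : Subgroup G) u) := by
    intro x hx hd
    have hd' := hd.trans hLu
    have hc := card_eq_imgOrd_mul (N := N) (stV (⁅N, N⁆ : Subgroup G) x)
    have hc' := card_eq_imgOrd_mul (N := N) (stV (⁅N, N⁆ : Subgroup G) u)
    rw [h.stV_inf_eq hD hx hu] at hc
    have := (h.card_stV_eq hD hu (v := x) (hc ▸ hc' ▸ Nat.mul_dvd_mul_right hd' _)).1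
    rw [hc, hc'] at this
    exact Nat.eq_of_mul_eq_mul_right Nat.card_pos this
  exact (key v hv (Nat.dvd_lcm_left _ _)).trans (key w hw (Nat.dvd_lcm_right _ _)).symm

theorem Ctx.card_stV (h : Ctx N g f q) (hD : ¬ q ∣ Nat.card (commutator N))
    {v w : Abelianization (⁅N, N⁆ : Subgroup G) →* ℂˣ} (hv : v ≠ 1) (hw : w ≠ 1) :
    Nat.card (stV _ v) = Nat.card (stV _ w) := by
  rw [card_eq_imgOrd_mul (N := N), card_eq_imgOrd_mul (N := N) (stV _ w), h.imgOrd_eq hD hv hw,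
    h.stV_inf_eq hD hv hw]

/-- All orbits have the same size. -/
theorem Ctx.index_eq (h : Ctx N g f q) (hD : ¬ q ∣ Nat.card (commutator N))
    {v w : Abelianization (⁅N, N⁆ : Subgroup G) →* ℂˣ} (hv : v ≠ 1) (hw : w ≠ 1) :
    (stV _ v).index = (stV _ w).index :=
  (h.card_stV_eq hD hw (h.card_stV hD hv hw).dvd).2

end Cfsg.Agent.NoDivDeg
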