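/-
`q` prime to the order of the derived subgroup of the kernel: counting the orbits of its linear
characters.

Main results: `Ctx.false_of_count`.
-/
import Cfsg.Agent.Lib.NoDivDeg.DualA

set_option autoImplicit false
set_option linter.style.haveILetI false
set_option linter.unusedSectionVars false

namespace Cfsg.Agent.NoDivDeg

open Cfsg Cfsg.Agent.Char Cfsg.Agent.CharApp Cfsg.Agent.CharApp.DegreeSets
open scoped ComplexConjugate commutatorElement

universe u

variable {G : Type u} [Group G] [Finite G] {N : Subgroup G} [hNn : N.Normal] {g : G} {f q : ℕ}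

/-- The characters fixed by an element. -/
def fixV (K : Subgroup G) [K.Normal] (x : G) : Subgroup (Abelianization K →* ℂˣ) where
  carrier := {v | conjV K x v = v}
  one_mem' := map_one _
  mul_mem' := fun {a b} ha hb => by
    show conjV K x (a * b) = a * b
    rw [map_mul, show conjV K x a = a from ha, show conjV K x b = b from hb]
  inv_mem' := fun {a} ha => by
    show conjV K x a⁻¹ = a⁻¹
    exact (map_inv (conjV K x) a).trans (congrArg _ ha)

theorem conjV_eq_one_of_mem {K : Subgroup G} [K.Normal] {x : G} (hx : x ∈ K) : conjV K x = 1 :=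
  MulEquiv.ext fun l => mem_stV_iff.1 (le_stV l hx)

/-- Moved classes of order `q` form a cyclic group. -/
theorem Ctx.mem_zpowers_mov (h : Ctx N g f q) (hD : ¬ q ∣ Nat.card (commutator N))
    {v₁ : Abelianization (⁅N, N⁆ : Subgroup G) →* ℂˣ} (hv₁ : v₁ ≠ 1)
    {a b : Abelianization N} (ha : a ∈ movA N g) (ha1 : a ≠ 1) (haq : a ^ q = 1)
    (hb : b ∈ movA N g) (hbq : b ^ q = 1) : b ∈ Subgroup.zpowers a := by
  classical
  by_contra hba
  haveI := Fact.mk h.prime
  have hoa : orderOf a = q := orderOf_eq_prime haq ha1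
  obtain ⟨x, rfl⟩ := of_surjective a
  obtain ⟨y, rfl⟩ := of_surjective b
  let ρ : G ⧸ (⁅N, N⁆ : Subgroup G) →* MulAut (Abelianization (⁅N, N⁆ : Subgroup G) →* ℂˣ) :=
    QuotientGroup.lift _ (conjV _) fun d hd => conjV_eq_one_of_mem hd
  have hq1 : ∀ n : N, Abelianization.of n ^ q = 1 → ρ ((((n : G) : G ⧸ (⁅N, N⁆ : Subgroup G))) ^ q) = 1 := by
    intro n hn
    rw [← QuotientGroup.mk_pow]
    refine conjV_eq_one_of_mem ?_
    rw [← SubmonoidClass.coe_pow, coe_mem_derN]
    refine (QuotientGroup.eq_one_iff _).1 ?_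
    show Abelianization.of (n ^ q) = 1
    rw [map_pow, hn]
  have hc : Commute ((x : G) : G ⧸ (⁅N, N⁆ : Subgroup G)) ((y : G) : G ⧸ (⁅N, N⁆ : Subgroup G)) :=
    commutatorElement_eq_one_iff_mul_comm.1
      ((map_commutatorElement (QuotientGroup.mk' (⁅N, N⁆ : Subgroup G)) (x : G) (y : G)).symm.trans
        ((QuotientGroup.eq_one_iff _).2 (Subgroup.commutator_mem_commutator x.2 y.2)))
  refine hv₁ (Fpf.eq_one_of_two ρ h.prime (h.card_dual_coprime hD) (hc.map ρ) (hq1 x haq) (hq1 y hbq)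
    (fun i j hij v hv => h.eq_one_of_moved hD (x := x ^ i * y ^ j) (fun hf => ?_) ?_) v₁)
  · have h1 : Abelianization.of x ^ i * Abelianization.of y ^ j = 1 := by
      rw [← map_pow, ← map_pow, ← map_mul]
      refine h.range_inf_ker ?_ hf
      rw [map_mul, map_pow, map_pow]
      exact (movA N g).mul_mem ((movA N g).pow_mem ha i) ((movA N g).pow_mem hb j)
    have hj : q ∣ j := by
      by_contra hj
      refine hba ?_
      have h2 : Abelianization.of y ^ j ∈ Subgroup.zpowers (Abelianization.of x) := by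
        rw [eq_inv_of_mul_eq_one_right h1]
        exact inv_mem (Subgroup.npow_mem_zpowers _ _)
      obtain ⟨l, hl⟩ := exists_pow_eq_self_of_coprime (x := Abelianization.of y)
        ((h.prime.coprime_iff_not_dvd.2 hj).symm.coprime_dvd_right (orderOf_dvd_of_pow_eq_one hbq))
      rw [← hl]
      exact Subgroup.pow_mem _ h2 _
    refine hij ⟨?_, hj⟩
    obtain ⟨l, rfl⟩ := hj
    rw [pow_mul, hbq, one_pow, mul_one, ← orderOf_dvd_iff_pow_eq_one, hoa] at h1
    exact h1
  · refine mem_stV_iff.2 ?_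
    rw [Subgroup.coe_mul, SubmonoidClass.coe_pow, SubmonoidClass.coe_pow, map_mul, MulAut.mul_apply]
    exact hv

/-- The fixed characters of an element outside `N`. -/
theorem Ctx.card_fixV_pow_le (h : Ctx N g f q) (hD : ¬ q ∣ Nat.card (commutator N))
    {v₁ : Abelianization (⁅N, N⁆ : Subgroup G) →* ℂˣ} (hv₁ : v₁ ≠ 1) (z : G) {e : ℕ}
    (hz : orderOf (z : G ⧸ N) = e) :
    Nat.card (fixV (⁅N, N⁆ : Subgroup G) z) ^ e ≤ Nat.card (Abelianization (⁅N, N⁆ : Subgroup G) →* ℂˣ) := by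
  classical
  haveI := Fact.mk h.prime
  obtain ⟨a, ha, ha1, haq⟩ := h.exists_mov_order
  obtain ⟨n₀, hn₀⟩ := of_surjective a
  let ρ : G ⧸ (⁅N, N⁆ : Subgroup G) →* MulAut (Abelianization (⁅N, N⁆ : Subgroup G) →* ℂˣ) :=
    QuotientGroup.lift _ (conjV _) fun d hd => conjV_eq_one_of_mem hd
  have hcls : ∀ n m : N, Abelianization.of n = Abelianization.of m →
      ((n : G) : G ⧸ (⁅N, N⁆ : Subgroup G)) = ((m : G) : G ⧸ (⁅N, N⁆ : Subgroup G)) := fun n m e =>
    QuotientGroup.eq.2 (coe_mem_derN.2 (of_eq_of_iff.1 e) :)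
  have hzc : ∀ (i : ℕ) (n : N), (z : G ⧸ (⁅N, N⁆ : Subgroup G)) ^ i *
      ((n : G) : G ⧸ (⁅N, N⁆ : Subgroup G)) * ((z : G ⧸ (⁅N, N⁆ : Subgroup G)) ^ i)⁻¹ =
      (((MulAut.conjNormal (z ^ i) n : N) : G) : G ⧸ (⁅N, N⁆ : Subgroup G)) := fun i n => by
    rw [MulAut.conjNormal_apply, QuotientGroup.mk_mul, QuotientGroup.mk_mul, QuotientGroup.mk_inv,
      QuotientGroup.mk_pow]
  refine Fpf.card_fixed_pow_le ρ h.prime (z : G ⧸ (⁅N, N⁆ : Subgroup G))
    ((n₀ : G) : G ⧸ (⁅N, N⁆ : Subgroup G)) e ?_ (fun i hi v hv => ?_) (fun i _ => ?_)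
    (fun i j hij hje he => ?_) (fixV _ z) ?_
  · rw [← QuotientGroup.mk_pow]
    refine conjV_eq_one_of_mem ?_
    rw [← SubmonoidClass.coe_pow, coe_mem_derN]
    refine (QuotientGroup.eq_one_iff _).1 ?_
    show Abelianization.of (n₀ ^ q) = 1
    rw [map_pow, hn₀, haq]
  · refine h.eq_one_of_moved hD (x := n₀ ^ i) (fun hf => ha1 ?_) (mem_stV_iff.2 ?_)
    · have hai : a ^ i = 1 := by
        refine h.range_inf_ker ((movA N g).pow_mem ha i) ?_
        unfold Fixed at hf
        rwa [map_pow Abelianization.of, hn₀] at hf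
      exact Fpf.eq_one_of_pow_coprime ((h.prime.coprime_iff_not_dvd.2 hi)) haq hai
    · rw [SubmonoidClass.coe_pow]
      exact hv
  · obtain ⟨t, ht⟩ : conjA N (z ^ i) a ∈ Submonoid.powers a := by
      rw [mem_powers_iff_mem_zpowers]
      exact h.mem_zpowers_mov hD hv₁ ha ha1 haq (h.conjA_mem_movA _ ha) (by rw [← map_pow, haq, map_one])
    refine ⟨t, ?_⟩
    rw [hzc, ← QuotientGroup.mk_pow, ← SubmonoidClass.coe_pow]
    refine hcls _ _ ?_
    rw [← conjA_of, map_pow Abelianization.of, hn₀]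
    exact ht.symm
  · set n : N := (MulAut.conjNormal (z ^ i) n₀)⁻¹ * MulAut.conjNormal (z ^ j) n₀
    have hn : (n : G) ∈ stV _ v₁ := by
      refine mem_stV_iff.2 ?_
      rw [hzc, hzc] at he
      change conjV _ _ = conjV _ _ at he
      simp only [n, Subgroup.coe_mul, InvMemClass.coe_inv, map_mul, map_inv, he, inv_mul_cancel,
        MulAut.one_apply]
    refine hv₁ (h.eq_one_of_moved hD (fun hf => ?_) hn)
    have h1 : (conjA N (z ^ i) a)⁻¹ * conjA N (z ^ j) a = 1 := by
      refine h.range_inf_ker ((movA N g).mul_mem ((movA N g).inv_mem (h.conjA_mem_movA _ ha))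
        (h.conjA_mem_movA _ ha)) ?_
      unfold Fixed at hf
      simp only [n, map_mul, map_inv, ← conjA_of, hn₀] at hf
      rw [map_mul, map_inv]
      exact hf
    obtain ⟨l, rfl⟩ := Nat.exists_eq_add_of_le hij.le
    rw [inv_mul_eq_one, pow_add, map_mul, MulAut.mul_apply] at h1
    refine ha1 (h.eq_one_of_fix (x := z ^ l) (fun hm => ?_) ha ((conjA N (z ^ i)).injective h1).symm)
    have := Nat.le_of_dvd (by omega) (orderOf_dvd_of_pow_eq_one (x := (z : G ⧸ N))
      ((QuotientGroup.mk_pow N z l).symm.trans ((QuotientGroup.eq_one_iff _).2 hm)))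
    omega
  · exact fun c hc => hc

/-- The elementary estimate. -/
theorem count_arith {V k s α B e : ℕ} (hV : 1 < V) (hle : V - 1 ≤ k * α * (B - 1)) (hαe : α ∣ e)
    (hα : α ≠ e) (hα0 : 0 < α) (he : 0 < e) (hB : B ^ e ≤ V) (hk : k < s) (hs : s ^ 2 ≤ V) : False := by
  obtain ⟨c, rfl⟩ := hαe
  have hc : 2 ≤ c := by
    rcases c with _ | _ | c
    · simp at he
    · exact absurd (mul_one α).symm hα
    · omega
  have hB2 : 2 ≤ B := by
    by_contra hh
    rw [show B - 1 = 0 by omega, mul_zero] at hle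
    omega
  have h1 : α ≤ 2 ^ (α - 1) := by
    have := Nat.lt_two_pow_self (n := α - 1)
    omega
  have h2 : (α * B) ^ 2 ≤ V := by
    calc (α * B) ^ 2 ≤ (B ^ (α - 1) * B) ^ 2 := by
          gcongr
          exact h1.trans (Nat.pow_le_pow_left hB2 _)
      _ = B ^ (α * 2) := by rw [← pow_succ, Nat.sub_add_cancel hα0, ← pow_mul]
      _ ≤ B ^ (α * c) := Nat.pow_le_pow_right (by omega) (Nat.mul_le_mul_left α hc)
      _ ≤ V := hB
  have h3 : s * (α * B) ≤ V := by
    rw [← Nat.pow_le_pow_iff_left (two_ne_zero), mul_pow, sq V]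
    exact Nat.mul_le_mul hs h2
  have h4 : (k + 1) * (α * B) ≤ V := (Nat.mul_le_mul_right _ hk).trans h3
  have h5 : k * α * (B - 1) ≤ k * α * B := Nat.mul_le_mul_left _ (Nat.sub_le _ _)
  have h6 : 2 ≤ α * B := hB2.trans (Nat.le_mul_of_pos_left B hα0)
  rw [add_mul, one_mul, ← mul_assoc] at h4
  omega

/-- The orbits are too small to cover all linear characters. -/
theorem Ctx.false_of_count (h : Ctx N g f q) (hD : ¬ q ∣ Nat.card (commutator N))
    {v₁ : Abelianization (⁅N, N⁆ : Subgroup G) →* ℂˣ} (hv₁ : v₁ ≠ 1) {s : ℕ}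
    (hk : Nat.card (movA N g) < s)
    (hs : s ^ 2 ≤ Nat.card (Abelianization (⁅N, N⁆ : Subgroup G) →* ℂˣ)) : False := by
  classical
  haveI hcG := h.isCyclic
  set e := imgOrd N (stV _ v₁)
  set R₀ := stV _ v₁ ⊓ N
  have hR₀M : R₀ ≤ fixN N g := h.stV_inf_le hD hv₁
  have hall : ∀ x ∈ R₀, conjV (⁅N, N⁆ : Subgroup G) x = 1 := fun x hx => MulEquiv.ext fun l => by
    by_cases hl : l = 1
    · rw [hl, map_one, MulAut.one_apply]
    · refine mem_stV_iff.1 (inf_le_left (b := N) ?_)
      rw [← h.stV_inf_eq hD hv₁ hl]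
      exact hx
  -- the fixed classes modulo `R₀`
  let τA : Abelianization N →* MulAut (Abelianization (⁅N, N⁆ : Subgroup G) →* ℂˣ) :=
    QuotientGroup.lift (commutator N) ((conjV _).comp N.subtype) fun n hn =>
      conjV_eq_one_of_mem (coe_mem_derN.2 hn)
  let Rb : Subgroup (Abelianization N) := (R₀.subgroupOf N).map Abelianization.of
  set Rk : Subgroup (deltaA N g).ker := Rb.subgroupOf (deltaA N g).ker
  let F := (deltaA N g).ker ⧸ Rk
  let τ : F →* MulAut (Abelianization (⁅N, N⁆ : Subgroup G) →* ℂˣ) :=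
    QuotientGroup.lift Rk (τA.comp (deltaA N g).ker.subtype) (by
      rintro ⟨c, hc⟩ ⟨n, hn, e⟩
      change τA c = 1
      rw [show c = Abelianization.of n from e.symm]
      exact hall _ hn)
  have hlift : ∀ p : F, ∃ m : N, ∃ hm : Abelianization.of m ∈ (deltaA N g).ker,
      ((⟨_, hm⟩ : (deltaA N g).ker) : F) = p := fun p => by
    induction p using QuotientGroup.induction_on with
    | H c =>
      obtain ⟨c, hc⟩ := c
      obtain ⟨m, rfl⟩ := of_surjective c
      exact ⟨m, hc, rfl⟩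
  choose mp hmp hmpe using hlift
  have hτ : ∀ p, τ p = conjV _ (mp p : G) := fun p => by
    conv_lhs => rw [← hmpe p]
    rfl
  haveI : Nontrivial (Abelianization (⁅N, N⁆ : Subgroup G) →* ℂˣ) := ⟨⟨v₁, 1, hv₁⟩⟩
  have hfree : ∀ p : F, p ≠ 1 → ∀ u, τ p u = u → u = 1 := fun p hp u hu => by
    by_contra hu1
    refine hp ?_
    have : (mp p : G) ∈ stV _ u ⊓ N := ⟨mem_stV_iff.2 (hτ p ▸ hu), (mp p).2⟩
    rw [← h.stV_inf_eq hD hv₁ hu1] at this
    rw [← hmpe p, QuotientGroup.eq_one_iff]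
    exact ⟨mp p, this, rfl⟩
  let P := (powMonoidHom e : F →* F).ker
  haveI hPc : IsCyclic P := by
    haveI := Fintype.ofFinite P
    refine isCyclic_of_card_pow_eq_one_le fun n hn => ?_
    refine le_trans ?_ (Fpf.card_pow_eq_one_le_of_fpf (U := Abelianization (⁅N, N⁆ : Subgroup G) →* ℂˣ) τ hfree n hn)
    rw [← Fintype.card_subtype, ← Nat.card_eq_fintype_card]
    exact Nat.card_le_card_of_injective
      (fun x => (⟨((x.1 : P) : F), by
        show ((x.1 : P) : F) ^ n = 1
        rw [← SubmonoidClass.coe_pow, x.2, OneMemClass.coe_one]⟩ : (powMonoidHom n : F →* F).ker))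
      fun x y exy => Subtype.ext (Subtype.ext (Subtype.mk.inj exy :))
  have hαe : Nat.card P ∣ e := by
    obtain ⟨p, hp⟩ := IsCyclic.exists_generator (α := P)
    rw [← orderOf_eq_card_of_forall_mem_zpowers hp]
    exact orderOf_dvd_of_pow_eq_one (Subtype.ext (by rw [SubmonoidClass.coe_pow]; exact p.2))
  -- `e` is not its order
  have hαne : Nat.card P ≠ e := by
    intro hPe
    obtain ⟨t, ht⟩ : e ∣ Nat.card F := hPe ▸ Subgroup.card_subgroup_dvd_card P
    obtain ⟨π, hπ, hker⟩ := h.exists_retraction hD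
    obtain ⟨χ, hχ⟩ := exists_deg_stV π hπ hker v₁
    have e1 : Rb.index = R₀.relIndex N := by
      refine Subgroup.index_map_eq _ QuotientGroup.mk_surjective ?_
      intro x hx
      refine derN_le_stV_inf v₁ (coe_mem_derN.2 ?_)
      exact (QuotientGroup.eq_one_iff x).1 hx
    have hRbK : Rb ≤ (deltaA N g).ker := by
      rintro _ ⟨n, hn, rfl⟩
      exact mem_ker_deltaA.2 (coe_mem_fixN.1 (hR₀M hn))
    have e2 : Nat.card F * Nat.card (movA N g) = R₀.relIndex N := by
      rw [← e1, ← Subgroup.relIndex_mul_index hRbK, Subgroup.index_ker]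
      rfl
    have e3 : R₀.relIndex N * Nat.card R₀ = Nat.card N := by
      rw [mul_comm, ← Subgroup.relIndex_bot_left (H := R₀),
        Subgroup.relIndex_mul_relIndex _ _ _ bot_le (inf_le_right : R₀ ≤ N), Subgroup.relIndex_bot_left]
    have e4 := card_eq_imgOrd_mul (N := N) (stV _ v₁)
    have e5 := (stV _ v₁).card_mul_index
    rw [← N.card_mul_index, h.idx, e4, ← e3, ← e2, ht] at e5
    have hdf : (stV _ v₁).index = f * t * Nat.card (movA N g) := by
      refine Nat.eq_of_mul_eq_mul_left (Nat.mul_pos (imgOrd_pos (N := N) (stV _ v₁)) (Nat.card_pos (α := R₀))) ?_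
      refine e5.trans ?_
      show _ = e * Nat.card R₀ * _
      ring
    obtain ⟨χf, hχf⟩ := h.deg_f
    have h6 := h.nd.eq_of_dvd (χ := χf) (χ' := χ) (hχf ▸ h.one_ne) (by
      rw [hχf, hχ, hdf, mul_assoc]; exact dvd_mul_right _ _)
    rw [hχf, hχ, hdf, mul_assoc] at h6
    have h7 : t * Nat.card (movA N g) = 1 :=
      (Nat.eq_of_mul_eq_mul_left (Nat.pos_of_ne_zero (h.idx ▸ Subgroup.index_ne_zero_of_finite))
        ((mul_one f).trans h6)).symm
    obtain ⟨a, ha, ha1, -⟩ := h.exists_mov_order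
    haveI : Nontrivial (movA N g) := ⟨⟨a, ha⟩, 1, fun e => ha1 (congrArg Subtype.val e)⟩
    exact (Finite.one_lt_card (α := movA N g)).ne' (Nat.eq_one_of_mul_eq_one_left h7)
  -- representatives
  obtain ⟨z₁, hz₁, -, -, -, hp₁, ho₁⟩ := h.exists_rep hD hv₁
  haveI := Fintype.ofFinite (Abelianization (⁅N, N⁆ : Subgroup G) →* ℂˣ)
  haveI := Fintype.ofFinite P
  haveI := Fintype.ofFinite (movA N g)
  let Z : P → G := fun p => z₁ * (mp (p : F) : G)
  have hoZ : ∀ p, orderOf (Z p : G ⧸ N) = e := fun p => by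
    rw [show (Z p : G ⧸ N) = (z₁ : G ⧸ N) from QuotientGroup.eq.2 (by
      simp only [Z, mul_inv_rev, mul_assoc, inv_mul_cancel, mul_one]
      exact N.inv_mem (mp (p : F)).2)]
    exact ho₁
  choose rep hrep using fun a : Abelianization N => of_surjective a
  let S : P → Finset (Abelianization (⁅N, N⁆ : Subgroup G) →* ℂˣ) := fun p =>
    Finset.univ.filter fun x => x ∈ fixV _ (Z p) ∧ x ≠ 1
  obtain ⟨p₀, -, hp₀⟩ := Finset.exists_max_image (Finset.univ : Finset P)
    (fun p => Nat.card (fixV (⁅N, N⁆ : Subgroup G) (Z p))) Finset.univ_nonempty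
  set B := Nat.card (fixV (⁅N, N⁆ : Subgroup G) (Z p₀))
  have hScard : ∀ p, (S p).card ≤ B - 1 := fun p => by
    have h1 : (S p).card = ((Finset.univ.filter fun x => x ∈ fixV (⁅N, N⁆ : Subgroup G) (Z p)).erase 1).card := by
      congr 1
      ext x
      simp [S, and_comm]
    rw [h1, Finset.card_erase_of_mem (by simp [Subgroup.one_mem]), ← Fintype.card_subtype,
      ← Nat.card_eq_fintype_card]
    exact Nat.sub_le_sub_right (hp₀ p (Finset.mem_univ p)) 1
  have hcover : ∀ v : Abelianization (⁅N, N⁆ : Subgroup G) →* ℂˣ, v ≠ 1 →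
      ∃ a : movA N g, ∃ p : P, ∃ x ∈ S p, v = conjV _ (rep (a : Abelianization N) : G)⁻¹ x := by
    intro v hv
    obtain ⟨z, hz, c, hc, hzv, hzp, hzo⟩ := h.exists_rep hD hv
    rw [h.imgOrd_eq hD hv hv₁, ← h.stV_inf_eq hD hv₁ hv] at hzp
    rw [h.imgOrd_eq hD hv hv₁] at hzo
    -- the same image as `z₁`
    obtain ⟨i, hi⟩ : ∃ i : ℕ, (z : G ⧸ N) ^ i = (z₁ : G ⧸ N) := by
      have hle : (z₁ : G ⧸ N) ∈ Subgroup.zpowers (z : G ⧸ N) := by
        haveI := Fintype.ofFinite (G ⧸ N)
        have he : 0 < e := imgOrd_pos _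
        have hz : ∀ x ∈ (Subgroup.zpowers (z : G ⧸ N) : Set (G ⧸ N)).toFinset,
            x ∈ Finset.univ.filter fun x : G ⧸ N => x ^ e = 1 := fun x hx => by
          obtain ⟨l, rfl⟩ := Subgroup.mem_zpowers_iff.1 (Set.mem_toFinset.1 hx)
          refine Finset.mem_filter.2 ⟨Finset.mem_univ _, ?_⟩
          rw [← zpow_natCast, ← zpow_mul, mul_comm, zpow_mul, zpow_natCast, show e = orderOf (z : G ⧸ N) from hzo.symm, pow_orderOf_eq_one,
            one_zpow]
        have := Finset.eq_of_subset_of_card_le hz ((IsCyclic.card_pow_eq_one_le he).trans (le_of_eq (by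
          rw [Set.toFinset_card, ← Nat.card_eq_fintype_card]
          exact hzo.symm.trans (Nat.card_zpowers _).symm)))
        have hm : (z₁ : G ⧸ N) ∈ Finset.univ.filter fun x : G ⧸ N => x ^ e = 1 :=
          Finset.mem_filter.2 ⟨Finset.mem_univ _, by rw [show e = orderOf (z₁ : G ⧸ N) from ho₁.symm, pow_orderOf_eq_one]⟩
        rw [← this] at hm
        exact Set.mem_toFinset.1 hm
      exact mem_powers_iff_mem_zpowers.2 hle
    set z' := z ^ i
    have hz' : z' ∈ cenG N g := (cenG N g).pow_mem hz i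
    have hmN : z₁⁻¹ * z' ∈ N := QuotientGroup.eq.1 (by rw [QuotientGroup.mk_pow, hi])
    have hmM := cenG_inf_le ((cenG N g).mul_mem ((cenG N g).inv_mem hz₁) hz') hmN
    set m : N := ⟨z₁⁻¹ * z', hmN⟩
    have hmk : Abelianization.of m ∈ (deltaA N g).ker := mem_ker_deltaA.2 (coe_mem_fixN.1 hmM)
    set p : F := ((⟨_, hmk⟩ : (deltaA N g).ker) : F)
    have hpP : p ^ e = 1 := by
      rw [← QuotientGroup.mk_pow, QuotientGroup.eq_one_iff]
      refine ⟨m ^ e, ?_, by rw [map_pow]; rfl⟩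
      show (((m ^ e : N)) : G) ∈ R₀
      rw [SubmonoidClass.coe_pow]
      haveI := h.normal_between (derN_le_stV_inf v₁) hR₀M
      rw [← QuotientGroup.eq_one_iff, QuotientGroup.mk_pow, QuotientGroup.mk_mul, QuotientGroup.mk_inv]
      have hcomm : Commute (z₁ : G ⧸ R₀) (z' : G ⧸ R₀) := by
        refine commutatorElement_eq_one_iff_mul_comm.1 ((map_commutatorElement (QuotientGroup.mk' R₀) z₁ z').symm.trans
          ((QuotientGroup.eq_one_iff _).2 (derN_le_stV_inf v₁ ?_)))
        exact (QuotientGroup.eq_one_iff _).1 ((map_commutatorElement (QuotientGroup.mk' (⁅N, N⁆ : Subgroup G)) z₁ z').trans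
          (commutatorElement_eq_one_iff_mul_comm.2 (h.commute_cenG hz₁ hz')))
      rw [hcomm.inv_left.mul_pow, inv_pow, ← QuotientGroup.mk_pow, ← QuotientGroup.mk_pow,
        (QuotientGroup.eq_one_iff _).2 hp₁, inv_one, one_mul, ← pow_mul, mul_comm i e, pow_mul,
        QuotientGroup.mk_pow, (QuotientGroup.eq_one_iff _).2 hzp, one_pow]
    refine ⟨⟨_, hc⟩, ⟨p, hpP⟩, conjV _ (c : G) v, ?_, ?_⟩
    · refine Finset.mem_filter.2 ⟨Finset.mem_univ _, ?_, fun e1 => hv ((conjV _ (c : G)).injective (e1.trans (map_one _).symm))⟩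
      show conjV _ (Z ⟨p, hpP⟩) _ = _
      have hpm : conjV (⁅N, N⁆ : Subgroup G) (mp p : G) = conjV _ (m : G) := by
        rw [← hτ p]
        rfl
      simp only [Z]
      rw [map_mul, hpm, ← map_mul, show z₁ * (m : G) = z' from mul_inv_cancel_left _ _]
      exact mem_stV_iff.1 ((stV _ _).pow_mem hzv i)
    · have hrc : conjV (⁅N, N⁆ : Subgroup G) (rep (Abelianization.of c) : G) = conjV _ (c : G) := by
        show τA (Abelianization.of (rep (Abelianization.of c))) = τA (Abelianization.of c)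
        rw [hrep]
      show v = conjV _ (rep (Abelianization.of c) : G)⁻¹ _
      rw [map_inv, hrc, MulAut.inv_apply_self]
  -- count
  let T := (Finset.univ : Finset (movA N g × P)).biUnion fun ap =>
    (S ap.2).image fun x => conjV _ (rep (ap.1 : Abelianization N) : G)⁻¹ x
  have hsub : Finset.univ.erase (1 : Abelianization (⁅N, N⁆ : Subgroup G) →* ℂˣ) ⊆ T := fun v hv => by
    obtain ⟨a, p, x, hx, rfl⟩ := hcover v (Finset.ne_of_mem_erase hv)
    exact Finset.mem_biUnion.2 ⟨(a, p), Finset.mem_univ _, Finset.mem_image_of_mem _ hx⟩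
  have hT : T.card ≤ (Finset.univ : Finset (movA N g × P)).card * (B - 1) :=
    Finset.card_biUnion_le_card_mul _ _ _ fun ap _ => Finset.card_image_le.trans (hScard ap.2)
  refine count_arith (k := Nat.card (movA N g)) (α := Nat.card P) (B := B) (e := e)
    (Finite.one_lt_card (α := Abelianization (⁅N, N⁆ : Subgroup G) →* ℂˣ)) ?_ hαe hαne Nat.card_pos
    (imgOrd_pos _) (h.card_fixV_pow_le hD hv₁ (Z p₀) (hoZ p₀)) hk hs
  have := (Finset.card_le_card hsub).trans hT
  rwa [Finset.card_erase_of_mem (Finset.mem_univ _), Finset.card_univ, Finset.card_univ,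
    Fintype.card_prod, ← Nat.card_eq_fintype_card, ← Nat.card_eq_fintype_card,
    ← Nat.card_eq_fintype_card] at this

end Cfsg.Agent.NoDivDeg
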