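/-
The first layer `commutator Q / [commutator Q, Q]`: either every character is fixed by all
operators, or the operators move every invariant character and these have one stabilizer.

Main results: `lowLay`, `QData.AllFixed`, `QData.exists_deg_of_allFixed`, `QData.NoneFixed`.
-/
import Cfsg.Agent.Lib.NoDivDeg.QData

set_option autoImplicit false
set_option linter.style.haveILetI false

namespace Cfsg.Agent.NoDivDeg

open Cfsg Cfsg.Agent.Char Cfsg.Agent.CharApp Cfsg.Agent.CharApp.DegreeSets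
open Cfsg.Agent.Codegree (kerSub mem_kerSub)
open scoped ComplexConjugate commutatorElement

universe u v

variable {Q : Type u} [Group Q]

/-- The lower central series from the derived subgroup on. -/
def lowLay (Q : Type u) [Group Q] : ℕ → Subgroup Q
  | 0 => commutator Q
  | k + 1 => ⁅lowLay Q k, ⊤⁆

instance lowLay_characteristic : ∀ k : ℕ, (lowLay Q k).Characteristic
  | 0 => inferInstanceAs (commutator Q).Characteristic
  | k + 1 => by
    haveI := lowLay_characteristic k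
    exact inferInstanceAs (⁅lowLay Q k, (⊤ : Subgroup Q)⁆).Characteristic

theorem bracket_mem_lowLay {k : ℕ} {a : Q} (ha : a ∈ lowLay Q k) (b : Q) :
    ⁅a, b⁆ ∈ lowLay Q (k + 1) ∧ ⁅b, a⁆ ∈ lowLay Q (k + 1) := by
  have h : ⁅a, b⁆ ∈ lowLay Q (k + 1) := Subgroup.commutator_mem_commutator ha (Subgroup.mem_top b)
  exact ⟨h, bracket_swap_mem h⟩

theorem lowLay_succ_le (k : ℕ) : lowLay Q (k + 1) ≤ lowLay Q k :=
  Subgroup.commutator_le_left _ _

theorem lowLay_le (k : ℕ) : lowLay Q k ≤ commutator Q := by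
  induction k with
  | zero => exact le_rfl
  | succ k ih => exact (lowLay_succ_le k).trans ih

theorem bracket_mem_commutator (a b : Q) : ⁅a, b⁆ ∈ lowLay Q 0 :=
  Subgroup.commutator_mem_commutator (Subgroup.mem_top a) (Subgroup.mem_top b)

theorem three_subgroup {A B D N : Subgroup Q} [N.Normal] (h1 : ⁅⁅B, D⁆, A⁆ ≤ N)
    (h2 : ⁅⁅D, A⁆, B⁆ ≤ N) : ⁅⁅A, B⁆, D⁆ ≤ N := by
  have key : ∀ {K : Subgroup Q}, K ≤ N ↔ K.map (QuotientGroup.mk' N) = ⊥ := fun {K} => by
    rw [Subgroup.map_eq_bot_iff, QuotientGroup.ker_mk']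
  rw [key, Subgroup.map_commutator, Subgroup.map_commutator] at h1 h2 ⊢
  exact Subgroup.commutator_commutator_eq_bot_of_rotate h1 h2

/-- The derived subgroup shifts by two. -/
theorem commutator_lowLay_le (k : ℕ) : ⁅commutator Q, lowLay Q k⁆ ≤ lowLay Q (k + 2) := by
  refine three_subgroup ?_ le_rfl
  rw [Subgroup.commutator_comm (⊤ : Subgroup Q) (lowLay Q k)]
  exact le_rfl

theorem lowLay_le_lowerCentralSeries (k : ℕ) :
    lowLay Q k ≤ (⊤ : Subgroup Q).lowerCentralSeries (k + 1) := by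
  induction k with
  | zero =>
    rw [Subgroup.lowerCentralSeries_succ, Subgroup.lowerCentralSeries_zero, lowLay, commutator_def]
  | succ k ih =>
    rw [Subgroup.lowerCentralSeries_succ]
    exact Subgroup.commutator_mono ih le_rfl

theorem lowLay_eventually_bot [Group.IsNilpotent Q] : ∃ n, lowLay Q n = ⊥ := by
  obtain ⟨n, hn⟩ := Subgroup.nilpotent_iff_lowerCentralSeries.1 (inferInstance : Group.IsNilpotent Q)
  exact ⟨n, le_bot_iff.1 ((lowLay_le_lowerCentralSeries n).trans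
    (hn ▸ Subgroup.lowerCentralSeries_antitone _ (Nat.le_succ n)))⟩

theorem lowLay_eq_bot_of_le [Group.IsNilpotent Q] {k : ℕ} (h : lowLay Q k ≤ lowLay Q (k + 1)) :
    lowLay Q k = ⊥ := by
  obtain ⟨n, hn⟩ := lowLay_eventually_bot (Q := Q)
  refine le_bot_iff.1 (hn ▸ ?_)
  have : ∀ j, lowLay Q k ≤ lowLay Q (k + j) := fun j => by
    induction j with
    | zero => exact le_rfl
    | succ j ih => exact h.trans (Subgroup.commutator_mono ih le_rfl)
  refine (this n).trans ?_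
  clear this h hn
  induction k with
  | zero => rw [Nat.zero_add]
  | succ k ih => exact (show lowLay Q (k + 1 + n) ≤ lowLay Q (k + n) by
      rw [show k + 1 + n = (k + n) + 1 by omega]; exact lowLay_succ_le _).trans ih

variable [Finite Q]

section overJ

variable {J : Subgroup Q} [J.Normal]

/-- A nonlinear character over a nontrivial invariant character inside the derived subgroup. -/
theorem exists_nonlinear_over (hJ : J ≤ commutator Q) {ν : J →* ℂˣ} (hν : ν ∈ central J) (hν1 : ν ≠ 1) :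
    ∃ θ : IrrCharacter Q, charDegree (θ : Q → ℂ) ≠ 1 ∧
      ∀ j ∈ J, (θ : Q → ℂ) j = (θ : Q → ℂ) 1 * (val ν j : ℂ) := by
  haveI := Fintype.ofFinite Q
  haveI := Fintype.ofFinite J
  have hirr : IsIrrCharacter J (fun j : J => (ν j : ℂ)) := isIrrCharacter_of_hom ((Units.coeHom ℂ).comp ν)
  obtain ⟨θ, hθ, hover⟩ := exists_over J hirr
  have hres := restrict_invariant J hθ hirr hover fun x => funext fun j => by
    rw [CliffordChar.conjFun_apply]
    refine congrArg Units.val (Eq.trans (congrArg ν (Subtype.ext ?_)) (hν x⁻¹ j))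
    simp [MulAut.conjNormal_apply]
  set c := classInner (fun j : J => θ j) (fun j : J => (ν j : ℂ))
  have h1 : θ 1 = c := by
    have := congrFun hres 1
    simp only [Pi.smul_apply, smul_eq_mul, map_one, Units.val_one, mul_one, OneMemClass.coe_one] at this
    exact this
  have hval : ∀ j ∈ J, θ j = θ 1 * (val ν j : ℂ) := fun j hj => by
    rw [val_of_mem ν hj, h1]
    exact congrFun hres ⟨j, hj⟩
  refine ⟨⟨θ, hθ⟩, fun e => ?_, hval⟩
  obtain ⟨x, hx, hne⟩ := exists_val_ne hν1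
  refine hne (Units.ext (mul_left_cancel₀ (IsIrrCharacter.apply_one_ne_zero hθ) ?_))
  rw [← hval x hx, Units.val_one, mul_one]
  exact apply_commutator_of_linear hθ e (hJ hx)

/-- A character trivial on the next layer is scalar on a layer. -/
theorem exists_central_of_trivial (θ : IrrCharacter Q) {J' : Subgroup Q}
    (hc : ∀ j ∈ J, ∀ w : Q, ⁅j, w⁆ ∈ J') (hJ' : J' ≤ kerSub θ) :
    ∃ ν ∈ central J, (∀ j ∈ J, (θ : Q → ℂ) j = (θ : Q → ℂ) 1 * (val ν j : ℂ)) ∧
      ∀ j ∈ J', j ∈ J → val ν j = 1 := by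
  haveI := Fintype.ofFinite Q
  haveI := Fintype.ofFinite J
  obtain ⟨η, hη⟩ := exists_constituent (IsCharacter.restrict (IsIrrCharacter.isCharacter θ.2) J)
    (by rw [OneMemClass.coe_one]; exact IsIrrCharacter.apply_one_ne_zero θ.2)
  obtain ⟨l, hl⟩ := exists_hom_of_degree_one (IsIrrCharacter.isCharacter η.2)
    (by rw [apply_one η.2, ThreeDegrees.deg_one_of_commutator_le_kerSub J θ η hη
      (Subgroup.commutator_le.2 fun a ha b _ => hJ' (hc a ha b)), Nat.cast_one])
  have hinv : ∀ x : Q, CliffordChar.conjFun J x (η : J → ℂ) = (η : J → ℂ) := by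
    intro x
    funext j
    rw [CliffordChar.conjFun_apply]
    have hz : ∀ z : J, (z : Q) ∈ J' → l z = 1 := by
      intro z hz
      have h1 : classInner (fun j : J => (θ : Q → ℂ) j) (η : J → ℂ) =
          conj (l z) * classInner (fun j : J => (θ : Q → ℂ) j) (η : J → ℂ) := by
        simp only [classInner, Finset.mul_sum, ← hl]
        refine (Fintype.sum_equiv (Equiv.mulLeft z) _ _ fun j => ?_).symm
        simp only [Equiv.coe_mulLeft, Subgroup.coe_mul, map_mul]
        rw [TwoClassChar.ker_mul θ.2 (mem_kerSub.1 (hJ' hz))]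
        ring
      have h2 : conj (l z) = 1 := mul_right_cancel₀ hη (h1.symm.trans (one_mul _).symm)
      rw [← Complex.conj_conj (l z), h2, map_one]
    have hmem : ⁅x⁻¹, (j : Q)⁆ ∈ J := by
      rw [commutatorElement_def]
      exact J.mul_mem ((inferInstance : J.Normal).conj_mem _ j.2 _) (J.inv_mem j.2)
    rw [← hl]
    calc l _ = l (⟨_, hmem⟩ * j) := congrArg l (Subtype.ext (by simp [commutatorElement_def, mul_assoc]))
      _ = l j := by
          rw [map_mul, hz ⟨_, hmem⟩ (by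
            show ⁅x⁻¹, (j : Q)⁆ ∈ J'
            rw [← commutatorElement_inv]
            exact Subgroup.inv_mem _ (hc _ j.2 x⁻¹)), one_mul]
  have hres := restrict_invariant J θ.2 η.2 hη hinv
  set c := classInner (fun j : J => (θ : Q → ℂ) j) (η : J → ℂ)
  have hval : ∀ j : J, (θ : Q → ℂ) j = c * l j := fun j => by
    rw [hl]; exact congrFun hres j
  have h1 : (θ : Q → ℂ) 1 = c := by simpa using hval 1
  refine ⟨l.toHomUnits, fun x j => Units.ext ?_, fun j hj => ?_, fun j hj' hj => Units.ext ?_⟩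
  · show l (MulAut.conjNormal x j) = l j
    rw [hl]
    have := congrFun (hinv x⁻¹) j
    rw [CliffordChar.conjFun_apply] at this
    refine Eq.trans (congrArg _ (Subtype.ext ?_)) this
    simp [MulAut.conjNormal_apply]
  · rw [val_of_mem _ hj, h1, MonoidHom.coe_toHomUnits]
    exact hval ⟨j, hj⟩
  · rw [val_of_mem _ hj, MonoidHom.coe_toHomUnits, Units.val_one]
    refine mul_left_cancel₀ (IsIrrCharacter.apply_one_ne_zero θ.2) ?_
    rw [mul_one]
    nth_rewrite 1 [h1]
    rw [← hval ⟨j, hj⟩]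
    exact mem_kerSub.1 (hJ' hj')

end overJ

/-- The radical of a character of the derived subgroup. -/
abbrev rad2 {μ : lowLay Q 0 →* ℂˣ} (hμ : μ ∈ central (lowLay Q 0)) : Subgroup Q :=
  leftKer hμ ⊤ ⊤ fun a _ b _ => bracket_mem_commutator a b

omit [Finite Q] in
theorem mem_rad2 {μ : lowLay Q 0 →* ℂˣ} (hμ : μ ∈ central (lowLay Q 0)) {a : Q} :
    a ∈ rad2 hμ ↔ ∀ b, val μ ⁅a, b⁆ = 1 :=
  ⟨fun h b => h.2 b (Subgroup.mem_top b), fun h => ⟨Subgroup.mem_top a, fun b _ => h b⟩⟩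

omit [Finite Q] in
theorem commutator_le_rad2 {μ : lowLay Q 0 →* ℂˣ} (hμ : μ ∈ central (lowLay Q 0)) :
    lowLay Q 0 ≤ rad2 hμ := fun _ hj => (mem_rad2 hμ).2 fun b => (val_bracket_self hμ b hj).1

omit [Finite Q] in
theorem pair_congr {μ : lowLay Q 0 →* ℂˣ} (hμ : μ ∈ central (lowLay Q 0)) {a a' b b' : Q}
    (ha : Abelianization.of a = Abelianization.of a') (hb : Abelianization.of b = Abelianization.of b') :
    val μ ⁅a, b⁆ = val μ ⁅a', b'⁆ := by
  have key : ∀ (a a' b : Q), Abelianization.of a = Abelianization.of a' →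
      val μ ⁅a, b⁆ = val μ ⁅a', b⁆ := fun a a' b h => by
    have hm : a * a'⁻¹ ∈ lowLay Q 0 := by
      refine (QuotientGroup.eq_one_iff _).1 ?_
      show Abelianization.of (a * a'⁻¹) = 1
      rw [map_mul, map_inv, h, mul_inv_cancel]
    conv_lhs => rw [← inv_mul_cancel_right a a']
    exact pair_mem_left hμ hm (bracket_mem_commutator _ _)
  rw [key a a' b ha, pair_swap μ (bracket_mem_commutator b a'), key b b' a' hb,
    ← pair_swap μ (bracket_mem_commutator b' a')]

variable {C : Type v} [CommGroup C] [Finite C] {φ : C →* MulAut Q} {q : ℕ}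

theorem stabC_le_fixer {J : Subgroup Q} [J.Characteristic] {θ : IrrCharacter Q} {ν : J →* ℂˣ}
    (hres : ∀ j ∈ J, (θ : Q → ℂ) j = (θ : Q → ℂ) 1 * (val ν j : ℂ)) :
    stabC φ (θ : Q → ℂ) ≤ fixer φ ν := fun c hc x hx => by
  have h1 := hc x
  rw [hres _ (phi_mem φ c hx), hres x hx] at h1
  exact Units.ext (mul_left_cancel₀ (IsIrrCharacter.apply_one_ne_zero θ.2) h1)

theorem QData.exists_mem_fixer (h : QData φ q) {J : Subgroup Q} [J.Characteristic]
    (hJ : J ≤ commutator Q) {ν : J →* ℂˣ} (hν : ν ∈ central J) (hν1 : ν ≠ 1) :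
    ∃ c ∈ fixer φ ν, c ≠ 1 := by
  obtain ⟨θ, hθ, hres⟩ := exists_nonlinear_over hJ hν hν1
  obtain ⟨c, hc, hc1⟩ := h.fix θ hθ
  exact ⟨c, stabC_le_fixer hres hc, hc1⟩

theorem QData.exists_pow (h : QData φ q) (θ : IrrCharacter Q) : ∃ a, charDegree (θ : Q → ℂ) = q ^ a := by
  haveI := Fact.mk h.prime
  obtain ⟨k, hk⟩ := IsPGroup.iff_card.1 h.pgroup
  obtain ⟨a, -, ha⟩ := (Nat.dvd_prime_pow h.prime).1 (hk ▸ Codegree.deg_dvd_card θ)
  exact ⟨a, ha⟩

section layer2

variable {μ : lowLay Q 0 →* ℂˣ}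

theorem QData.char_over (h : QData φ q) (hμ : μ ∈ central (lowLay Q 0)) {θ : IrrCharacter Q}
    (hθ : charDegree (θ : Q → ℂ) ≠ 1)
    (hres : ∀ j ∈ lowLay Q 0, (θ : Q → ℂ) j = (θ : Q → ℂ) 1 * (val μ j : ℂ)) :
    rad2 hμ ≤ fixMod φ ∧ charDegree (θ : Q → ℂ) ^ 2 = (rad2 hμ).index ∧
      stabC φ (θ : Q → ℂ) = fixer φ μ := by
  classical
  obtain ⟨hdeg, hvan, hne⟩ := deg_sq_radical θ.2 hμ bracket_mem_commutator hres
  have hRM : rad2 hμ ≤ fixMod φ := fun x hx => by
    by_contra hxM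
    exact hne x hx (h.apply_eq_zero hθ hxM)
  refine ⟨hRM, hdeg, le_antisymm (stabC_le_fixer hres) fun d hd => ?_⟩
  haveI : (rad2 hμ).Normal := normal_of_commutator_le (commutator_le_rad2 hμ)
  haveI := Fintype.ofFinite (rad2 hμ)
  haveI := Fintype.ofFinite Q
  obtain ⟨τ, hτ⟩ := exists_linear_constituent θ.2 μ
    (fun a ha b _ => ⟨bracket_mem_commutator a b, (mem_rad2 hμ).1 ha b⟩) hres (H := rad2 hμ)
  have hinvR : ∀ x ∈ rad2 hμ, φ d x ∈ rad2 hμ := fun x hx => (mem_rad2 hμ).2 fun b => by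
    obtain ⟨b, rfl⟩ := (φ d).surjective b
    rw [← phi_bracket, hd _ (bracket_mem_commutator _ _)]
    exact (mem_rad2 hμ).1 hx b
  have hj : ∀ x ∈ rad2 hμ, φ d x * x⁻¹ ∈ lowLay Q 0 := fun x hx => by
    refine (QuotientGroup.eq_one_iff _).1 ?_
    show Abelianization.of (φ d x * x⁻¹) = 1
    rw [map_mul, map_inv, hRM hx d, mul_inv_cancel]
  have htau : ∀ j ∈ lowLay Q 0, ∀ x ∈ rad2 hμ, val τ (j * x) = val μ j * val τ x := fun j hj x hx => by
    rw [val_mul τ (commutator_le_rad2 hμ hj) hx, val_of_mem τ (commutator_le_rad2 hμ hj),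
      constituent_val θ.2 hμ hres (commutator_le_rad2 hμ) τ hτ hj]
  have hτd : ∀ x ∈ rad2 hμ, val τ (φ d x) = val τ x := fun x hx => by
    refine h.val_fix τ d hinvR (fun y hy => ?_) hx
    have e1 : val τ (φ d y) = val μ (φ d y * y⁻¹) * val τ y := by
      rw [← htau _ (hj y hy) y hy, inv_mul_cancel_right]
    have e2 : val τ (φ d (φ d y)) = val μ (φ d y * y⁻¹) * val τ (φ d y) := by
      have e : φ d (φ d y) = φ d (φ d y * y⁻¹) * φ d y := by rw [← map_mul, inv_mul_cancel_right]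
      rw [e, htau _ (phi_mem φ d (hj y hy)) _ (hinvR y hy), hd _ (hj y hy)]
    rw [e2, e1]
    ac_rfl
  have hirr : IsIrrCharacter Q (fun x => (θ : Q → ℂ) (φ d x)) := IsIrrCharacter.comp_equiv θ.2 (φ d)
  have hτ' : classInner (fun x : rad2 hμ => (θ : Q → ℂ) (φ d (x : Q))) (fun x : rad2 hμ => (τ x : ℂ)) ≠ 0 := by
    let e : rad2 hμ → rad2 hμ := fun x => ⟨φ d x, hinvR x x.2⟩
    have he : Function.Bijective e := Finite.injective_iff_bijective.1 fun x y hxy =>
      Subtype.ext ((φ d).injective (congrArg Subtype.val hxy))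
    have : classInner (fun x : rad2 hμ => (θ : Q → ℂ) (φ d (x : Q))) (fun x : rad2 hμ => (τ x : ℂ)) =
        classInner (fun x : rad2 hμ => (θ : Q → ℂ) x) (fun x : rad2 hμ => (τ x : ℂ)) := by
      simp only [classInner]
      congr 1
      refine Fintype.sum_bijective e he _ _ fun x => ?_
      have := hτd x x.2
      rw [val_of_mem τ (hinvR x x.2), val_coe] at this
      simp only [e, this]
    rw [this]
    exact hτ
  exact fun x => (congrFun (eq_of_common θ.2 hirr hvan τ hτ hτ') x).symm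

theorem QData.pair_mov_fix (h : QData φ q) (hμ : μ ∈ central (lowLay Q 0)) {w m : Q}
    (hw : w ∈ movMod φ) (hm : m ∈ fixMod φ) : val μ ⁅w, m⁆ = 1 := by
  by_cases hμ1 : μ = 1
  · rw [hμ1, val_of_mem _ (bracket_mem_commutator w m)]; rfl
  obtain ⟨c, hc, hc1⟩ := h.exists_mem_fixer le_rfl hμ hμ1
  obtain ⟨u, hu, hd⟩ := h.exists_delta hc1 hw
  rw [← pair_congr hμ (a := φ c u * u⁻¹) (b := m) (QuotientGroup.eq.2 hd) rfl,
    pair_mul_left hμ (bracket_mem_commutator _ _) (bracket_mem_commutator _ _)]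
  have e : val μ ⁅φ c u, m⁆ = val μ ⁅u, m⁆ := by
    rw [pair_congr hμ (a := φ c u) (a' := φ c u) (b' := φ c m) rfl (hm c).symm, ← phi_bracket]
    exact hc _ (bracket_mem_commutator u m)
  rw [e, ← pair_mul_left hμ (bracket_mem_commutator _ _) (bracket_mem_commutator _ _), mul_inv_cancel,
    commutatorElement_one_left, val_one]

theorem QData.rad2_mov (h : QData φ q) (hμ : μ ∈ central (lowLay Q 0)) (hμ1 : μ ≠ 1) {w : Q}
    (hw : w ∈ rad2 hμ) (hw' : w ∈ movMod φ) : w ∈ commutator Q := by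
  obtain ⟨θ, hθ, hres⟩ := exists_nonlinear_over le_rfl hμ hμ1
  exact h.fixMod_inf_movMod ((h.char_over hμ hθ hres).1 hw) hw'

theorem QData.pow_mem_commutator (h : QData φ q) (hμ : μ ∈ central (lowLay Q 0)) (hμ1 : μ ≠ 1) {w : Q}
    (hw : w ∈ movMod φ) : w ^ q ∈ commutator Q := by
  haveI := Fact.mk h.prime
  haveI : Finite (lowLay Q 0 →* ℂˣ) := inferInstance
  have hpow : ∀ n, μ ^ n ∈ central (lowLay Q 0) := fun n => Subgroup.pow_mem _ hμ n
  obtain ⟨k, hk⟩ := IsPGroup.iff_card.1 h.pgroup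
  have hμk : μ ^ q ^ k = 1 := MonoidHom.ext fun j => by
    rw [MonoidHom.pow_apply, ← map_pow, show j ^ q ^ k = 1 from Subtype.ext (by
      rw [SubgroupClass.coe_pow, ← hk, pow_card_eq_one', OneMemClass.coe_one]), map_one]; rfl
  obtain ⟨i, -, hi⟩ := (Nat.dvd_prime_pow h.prime).1 (orderOf_dvd_of_pow_eq_one (x := μ) (by exact hμk))
  obtain ⟨j, rfl⟩ : ∃ j, i = j + 1 := ⟨i - 1, by
    rcases Nat.eq_zero_or_pos i with rfl | hp
    · exact absurd (orderOf_eq_one_iff.1 (by simpa using hi)) hμ1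
    · omega⟩
  have hne : μ ^ q ^ j ≠ 1 := fun e => by
    have := orderOf_dvd_of_pow_eq_one (x := μ) (by exact e)
    rw [hi] at this
    exact absurd ((Nat.pow_dvd_pow_iff_le_right h.prime.one_lt).1 this) (by omega)
  refine h.rad2_mov (hpow _) hne ((mem_rad2 _).2 fun b => ?_) ((movMod φ).pow_mem hw q)
  rw [pair_pow_left (hpow _) (⊤ : Subgroup Q) (fun a _ => bracket_mem_commutator a b) (Subgroup.mem_top w),
    val_of_mem _ (bracket_mem_commutator w b), ← MonoidHom.pow_apply, ← pow_mul, ← pow_succ, ← hi,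
    pow_orderOf_eq_one]
  rfl

theorem QData.pow_eq_one (h : QData φ q) (hμ : μ ∈ central (lowLay Q 0)) : μ ^ q = 1 := by
  by_contra hne
  have hμ1 : μ ≠ 1 := fun e => hne (MonoidHom.ext fun j => by rw [MonoidHom.pow_apply, e]; simp)
  obtain ⟨w, hw, hwD⟩ := h.moved_mem
  refine hwD (h.rad2_mov (Subgroup.pow_mem _ hμ q) hne ((mem_rad2 _).2 fun b => ?_) hw)
  rw [val_of_mem _ (bracket_mem_commutator w b), MonoidHom.pow_apply, ← val_of_mem μ,
    ← pair_pow_left hμ (⊤ : Subgroup Q) (fun a _ => bracket_mem_commutator a b) (Subgroup.mem_top w)]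
  exact (val_bracket_self hμ b (h.pow_mem_commutator hμ hμ1 hw)).1

/-- A moved character is trivial on brackets of fixed elements. -/
theorem QData.pair_fix_fix (h : QData φ q) (hμ : μ ∈ central (lowLay Q 0)) (hmoved : fixer φ μ ≠ ⊤)
    {m m' : Q} (hm : m ∈ fixMod φ) (hm' : m' ∈ fixMod φ) : val μ ⁅m, m'⁆ = 1 := by
  classical
  haveI := Fintype.ofFinite C
  by_contra hne
  have hμ1 : μ ≠ 1 := fun e => hne (by rw [e, val_of_mem _ (bracket_mem_commutator m m')]; rfl)
  let μ₀ : central (lowLay Q 0) := ∏ c : C, cAct φ (lowLay Q 0) c ⟨μ, hμ⟩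
  have hval : ∀ x ∈ lowLay Q 0, val (μ₀ : lowLay Q 0 →* ℂˣ) x = ∏ c : C, val μ (φ c⁻¹ x) := by
    intro x hx
    simp only [μ₀, Subgroup.val_finset_prod]
    rw [val_of_mem _ hx, MonoidHom.finsetProd_apply]
    exact Finset.prod_congr rfl fun c _ => by rw [← val_of_mem _ hx, val_cAct φ _ c ⟨μ, hμ⟩ hx]
  have hfix : fixer φ (μ₀ : lowLay Q 0 →* ℂˣ) = ⊤ := by
    refine (Subgroup.eq_top_iff' _).2 fun d x hx => ?_
    rw [hval _ (phi_mem φ d hx), hval x hx]
    refine Fintype.prod_equiv (Equiv.mulLeft d⁻¹) _ _ fun c => ?_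
    rw [← phi_mul_apply]
    congr 3
    rw [Equiv.coe_mulLeft, mul_inv_rev, inv_inv, mul_comm]
  have hMM : ∀ a ∈ fixMod φ, ∀ b ∈ fixMod φ,
      val (μ₀ : lowLay Q 0 →* ℂˣ) ⁅a, b⁆ = val μ ⁅a, b⁆ ^ Nat.card C := by
    intro a ha b hb
    rw [hval _ (bracket_mem_commutator a b), Nat.card_eq_fintype_card, ← Finset.card_univ,
      ← Finset.prod_const]
    refine Finset.prod_congr rfl fun c _ => ?_
    rw [phi_bracket, pair_congr hμ (ha c⁻¹) (hb c⁻¹)]
  have hcop : ∀ a b : Q, val μ ⁅a, b⁆ ^ Nat.card C = 1 → val μ ⁅a, b⁆ = 1 := fun a b e =>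
    h.units_eq_one μ (val_of_mem μ (bracket_mem_commutator a b)) e
  have hμ₀1 : (μ₀ : lowLay Q 0 →* ℂˣ) ≠ 1 := fun e => hne (hcop m m' (by
    rw [← hMM m hm m' hm', e, val_of_mem _ (bracket_mem_commutator m m')]; rfl))
  obtain ⟨θ, hθ, hres⟩ := exists_nonlinear_over le_rfl hμ hμ1
  obtain ⟨θ₀, hθ₀, hres₀⟩ := exists_nonlinear_over le_rfl μ₀.2 hμ₀1
  obtain ⟨hR, hd, hs⟩ := h.char_over hμ hθ hres
  obtain ⟨hR₀, hd₀, hs₀⟩ := h.char_over μ₀.2 hθ₀ hres₀
  have hRR : rad2 hμ = rad2 μ₀.2 := by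
    have key : ∀ {ν : lowLay Q 0 →* ℂˣ} (hν : ν ∈ central (lowLay Q 0)), ∀ a ∈ fixMod φ,
        (∀ b ∈ fixMod φ, val ν ⁅a, b⁆ = 1) → a ∈ rad2 hν := fun {ν} hν a ha hb => (mem_rad2 hν).2 fun x => by
      obtain ⟨w, hw, b, hb', rfl⟩ := h.exists_decomp x
      rw [pair_mul_right hν (bracket_mem_commutator _ _) (bracket_mem_commutator _ _), hb b hb',
        pair_swap ν (bracket_mem_commutator w a), h.pair_mov_fix hν hw ha, inv_one, one_mul]
    refine le_antisymm (fun a ha => key μ₀.2 a (hR ha) fun b hb => ?_)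
      (fun a ha => key hμ a (hR₀ ha) fun b hb => hcop a b ?_)
    · rw [hMM a (hR ha) b hb, (mem_rad2 hμ).1 ha b, one_pow]
    · rw [← hMM a (hR₀ ha) b hb, (mem_rad2 _).1 ha b]
  have hdd : charDegree (θ₀ : Q → ℂ) = charDegree (θ : Q → ℂ) :=
    Nat.pow_left_injective two_ne_zero (show _ ^ 2 = _ ^ 2 by rw [hd, hd₀, hRR])
  have hanti := h.anti θ₀ θ hθ₀ hθ (by rw [hs₀, hfix, Subgroup.index_top, one_mul, hdd]; exact dvd_mul_left _ _)
  rw [hs₀, hfix, Subgroup.index_top, one_mul, hdd, hs] at hanti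
  refine hmoved (Subgroup.index_eq_one.1 ?_)
  exact (Nat.eq_of_mul_eq_mul_right (TwoClassChar.deg_pos θ.2) (hanti.symm.trans (one_mul _).symm))

theorem QData.deg_sq_of_moved (h : QData φ q) (hμ : μ ∈ central (lowLay Q 0)) (hmoved : fixer φ μ ≠ ⊤)
    {θ : IrrCharacter Q} (hθ : charDegree (θ : Q → ℂ) ≠ 1)
    (hres : ∀ j ∈ lowLay Q 0, (θ : Q → ℂ) j = (θ : Q → ℂ) 1 * (val μ j : ℂ)) :
    rad2 hμ = fixMod φ ∧ charDegree (θ : Q → ℂ) ^ 2 = (fixMod φ).index := by
  obtain ⟨hR, hd, -⟩ := h.char_over hμ hθ hres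
  have : rad2 hμ = fixMod φ := le_antisymm hR fun a ha => (mem_rad2 hμ).2 fun x => by
    obtain ⟨w, hw, b, hb, rfl⟩ := h.exists_decomp x
    rw [pair_mul_right hμ (bracket_mem_commutator _ _) (bracket_mem_commutator _ _),
      h.pair_fix_fix hμ hmoved ha hb, pair_swap μ (bracket_mem_commutator w a),
      h.pair_mov_fix hμ hw ha, inv_one, one_mul]
  exact ⟨this, this ▸ hd⟩

end layer2

/-- Every invariant character of the derived subgroup is fixed by all operators. -/
def AllFixed (φ : C →* MulAut Q) : Prop :=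
  ∀ μ : lowLay Q 0 →* ℂˣ, μ ∈ central (lowLay Q 0) → fixer φ μ = ⊤

/-- Every nontrivial invariant character of the derived subgroup is moved. -/
def NoneFixed (φ : C →* MulAut Q) : Prop :=
  ∀ μ : lowLay Q 0 →* ℂˣ, μ ∈ central (lowLay Q 0) → μ ≠ 1 → fixer φ μ ≠ ⊤

theorem QData.allFixed_or_noneFixed (h : QData φ q) : AllFixed φ ∨ NoneFixed φ := by
  by_contra hh
  simp only [AllFixed, NoneFixed, not_or, not_forall, Classical.not_imp, not_not] at hh
  obtain ⟨⟨ν, hν, hνm⟩, μ, hμ, hμ1, hμf⟩ := hh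
  have hprod : fixer φ (μ * ν) ≠ ⊤ := fun e => hνm ((Subgroup.eq_top_iff' _).2 fun c x hx => by
    have h1 : val (μ * ν) (φ c x) = val (μ * ν) x := (e ▸ Subgroup.mem_top c : c ∈ fixer φ (μ * ν)) x hx
    have h2 : val μ (φ c x) = val μ x := (hμf ▸ Subgroup.mem_top c : c ∈ fixer φ μ) x hx
    rw [val_of_mem _ (phi_mem φ c hx), val_of_mem _ hx, MonoidHom.mul_apply, MonoidHom.mul_apply,
      ← val_of_mem μ, ← val_of_mem μ hx, h2, ← val_of_mem ν (phi_mem φ c hx), ← val_of_mem ν hx] at h1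
    exact mul_left_cancel h1)
  have hν1 : ν ≠ 1 := fun e => hνm ((Subgroup.eq_top_iff' _).2 fun c x hx => by
    rw [e, val_of_mem _ hx, val_of_mem _ (phi_mem φ c hx)]; rfl)
  obtain ⟨θ, hθ, hres⟩ := exists_nonlinear_over le_rfl hμ hμ1
  obtain ⟨θ', hθ', hres'⟩ := exists_nonlinear_over le_rfl hν hν1
  obtain ⟨hR, hd, hs⟩ := h.char_over hμ hθ hres
  obtain ⟨-, -, hs'⟩ := h.char_over hν hθ' hres'
  obtain ⟨-, hd'⟩ := h.deg_sq_of_moved hν hνm hθ' hres'
  have hMμ : fixMod φ ≤ rad2 hμ := fun a ha => (mem_rad2 hμ).2 fun x => by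
    obtain ⟨w, hw, b, hb, rfl⟩ := h.exists_decomp x
    have h1 := h.pair_fix_fix (Subgroup.mul_mem _ hμ hν) hprod ha hb
    rw [val_of_mem _ (bracket_mem_commutator a b), MonoidHom.mul_apply, ← val_of_mem μ,
      ← val_of_mem ν (bracket_mem_commutator a b), h.pair_fix_fix hν hνm ha hb, mul_one] at h1
    rw [pair_mul_right hμ (bracket_mem_commutator _ _) (bracket_mem_commutator _ _), h1,
      pair_swap μ (bracket_mem_commutator w a), h.pair_mov_fix hμ hw ha, inv_one, one_mul]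
  rw [le_antisymm hR hMμ, ← hd'] at hd
  have hdd := Nat.pow_left_injective two_ne_zero hd
  have hanti := h.anti θ θ' hθ hθ' (by
    rw [hs, hμf, Subgroup.index_top, one_mul, hdd]; exact dvd_mul_left _ _)
  rw [hs, hμf, Subgroup.index_top, one_mul, hdd, hs'] at hanti
  exact hνm (Subgroup.index_eq_one.1
    (Nat.eq_of_mul_eq_mul_right (TwoClassChar.deg_pos θ'.2) (hanti.symm.trans (one_mul _).symm)))

/-- With all characters fixed, every layer is centralized. -/
theorem QData.delta_mem_lowLay (h : QData φ q) (hA : AllFixed φ) :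
    ∀ (k : ℕ) (x : Q), x ∈ lowLay Q k → ∀ c : C, φ c x * x⁻¹ ∈ lowLay Q (k + 1) := by
  intro k
  induction k with
  | zero =>
    intro x hx c
    refine separation (J := lowLay Q 0) (fun j hj w => (bracket_mem_lowLay hj w).1)
      ((lowLay Q 0).mul_mem (phi_mem φ c hx) (Subgroup.inv_mem _ hx)) fun μ hμ _ => ?_
    rw [val_mul μ (phi_mem φ c hx) (Subgroup.inv_mem _ hx), val_inv μ hx,
      (hA μ hμ ▸ Subgroup.mem_top c : c ∈ fixer φ μ) x hx, mul_inv_cancel]
  | succ k ih =>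
    intro x hx c
    -- kill the brackets with the moved part
    have hkill : ∀ ν ∈ central (lowLay Q (k + 1)), ∀ v ∈ lowLay Q k, ∀ w ∈ movMod φ,
        val ν ⁅v, w⁆ = 1 := by
      intro ν hν v hv w hw
      by_cases hν1 : ν = 1
      · rw [hν1, val_of_mem _ (bracket_mem_lowLay hv w).1]; rfl
      obtain ⟨d, hd, hd1⟩ := h.exists_mem_fixer (lowLay_le _) hν hν1
      obtain ⟨u, hu, hdd⟩ := h.exists_delta hd1 hw
      have hmem : ∀ z, ⁅v, z⁆ ∈ lowLay Q (k + 1) := fun z => (bracket_mem_lowLay hv z).1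
      have htriv : ∀ z ∈ commutator Q, val ν ⁅v, z⁆ = 1 := fun z hz => by
        have h2 : ⁅v, z⁆ ∈ lowLay Q (k + 2) := by
          rw [← commutatorElement_inv]
          exact Subgroup.inv_mem _ (commutator_lowLay_le k (Subgroup.commutator_mem_commutator hz hv))
        refine Subgroup.closure_induction (p := fun a _ => val ν a = 1) ?_ (val_one ν) ?_ ?_
          (show ⁅v, z⁆ ∈ Subgroup.closure {g | ∃ a ∈ lowLay Q (k + 1), ∃ b ∈ (⊤ : Subgroup Q), ⁅a, b⁆ = g}
            from h2)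
        · rintro _ ⟨a, ha, b, -, rfl⟩
          exact (val_bracket_self hν b ha).1
        · intro a b ha hb e1 e2
          rw [val_mul ν (lowLay_succ_le _ ha) (lowLay_succ_le _ hb), e1, e2, one_mul]
        · intro a ha e
          rw [val_inv ν (lowLay_succ_le _ ha), e, inv_one]
      have e1 : w = (φ d u * u⁻¹) * ((φ d u * u⁻¹)⁻¹ * w) := (mul_inv_cancel_left _ _).symm
      rw [e1, pair_mul_right hν (hmem _) (hmem _), htriv _ hdd, mul_one,
        pair_mul_right hν (hmem _) (hmem _)]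
      have e2 : val ν ⁅v, φ d u⁆ = val ν ⁅v, u⁆ := by
        rw [← hd _ (hmem u), phi_bracket]
        have hvv : φ d v * v⁻¹ ∈ lowLay Q (k + 1) := ih v hv d
        conv_rhs => rw [← inv_mul_cancel_right (φ d v) v]
        exact (pair_mem_left hν hvv (hmem _)).symm
      rw [e2, ← pair_mul_right hν (hmem _) (hmem _), mul_inv_cancel, commutatorElement_one_right, val_one]
    have hfix : ∀ ν ∈ central (lowLay Q (k + 1)), ∀ g ∈ lowLay Q (k + 1), val ν (φ c g) = val ν g := by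
      intro ν hν g hg
      refine Subgroup.closure_induction (p := fun g _ => val ν (φ c g) = val ν g) ?_ ?_ ?_ ?_
        (show g ∈ Subgroup.closure {g | ∃ a ∈ lowLay Q k, ∃ b ∈ (⊤ : Subgroup Q), ⁅a, b⁆ = g} from hg)
      · rintro _ ⟨v, hv, z, -, rfl⟩
        have hmem : ∀ y, ⁅v, y⁆ ∈ lowLay Q (k + 1) := fun y => (bracket_mem_lowLay hv y).1
        have e3 := pair_mem_left hν (ih v hv c) (hmem (φ c z))
        rw [inv_mul_cancel_right] at e3
        rw [phi_bracket, e3]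
        conv_lhs => rw [← inv_mul_cancel_right (φ c z) z]
        rw [pair_mul_right hν (hmem _) (hmem _),
          hkill ν hν v hv _ (delta_mem_movMod φ c z), one_mul]
      · rw [map_one]
      · intro a b ha hb e1 e2
        have ha' : a ∈ lowLay Q (k + 1) := ha
        have hb' : b ∈ lowLay Q (k + 1) := hb
        rw [map_mul, val_mul ν (phi_mem φ c ha') (phi_mem φ c hb'), val_mul ν ha' hb', e1, e2]
      · intro a ha e
        have ha' : a ∈ lowLay Q (k + 1) := ha
        rw [map_inv, val_inv ν (phi_mem φ c ha'), val_inv ν ha', e]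
    refine separation (J := lowLay Q (k + 1)) (fun j hj w => (bracket_mem_lowLay hj w).1)
      ((lowLay Q (k + 1)).mul_mem (phi_mem φ c hx) (Subgroup.inv_mem _ hx)) fun ν hν _ => ?_
    rw [val_mul ν (phi_mem φ c hx) (Subgroup.inv_mem _ hx), val_inv ν hx, hfix ν hν x hx, mul_inv_cancel]

theorem QData.fixed_of_allFixed (h : QData φ q) (hA : AllFixed φ) {x : Q} (hx : x ∈ fixMod φ) (c : C) :
    φ c x = x := by
  haveI := Fact.mk h.prime
  haveI : Group.IsNilpotent Q := h.pgroup.isNilpotent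
  obtain ⟨n, hn⟩ := lowLay_eventually_bot (Q := Q)
  have hpow : ∀ (z j : Q), φ c z = z → φ c j = z * j → ∀ i : ℕ, φ (c ^ i) j = z ^ i * j := by
    intro z j hz hj i
    induction i with
    | zero => rw [pow_zero, pow_zero, one_mul, map_one, MulAut.one_apply]
    | succ i ih => rw [pow_succ', phi_mul_apply, ih, map_mul, map_pow, hz, hj, pow_succ, mul_assoc]
  -- fixed elements form each layer, from the bottom up
  have hlay : ∀ d k, k + d = n → ∀ y ∈ lowLay Q k, φ c y = y := by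
    intro d
    induction d with
    | zero =>
      intro k hk y hy
      rw [Nat.add_zero] at hk
      rw [hk, hn, Subgroup.mem_bot] at hy
      rw [hy, map_one]
    | succ d ih =>
      intro k hk y hy
      have hz := h.delta_mem_lowLay hA k y hy c
      have h2 := hpow (φ c y * y⁻¹) y (ih (k + 1) (by omega) _ hz) (inv_mul_cancel_right _ _).symm
        (Nat.card C)
      rw [pow_card_eq_one', map_one, MulAut.one_apply] at h2
      exact mul_inv_eq_one.1 (h.eq_one_of_pow (right_eq_mul.1 h2))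
  have hD : ∀ y ∈ lowLay Q 0, φ c y = y := hlay n 0 (Nat.zero_add n)
  have hz : φ c x * x⁻¹ ∈ lowLay Q 0 := by
    refine (QuotientGroup.eq_one_iff _).1 ?_
    show Abelianization.of (φ c x * x⁻¹) = 1
    rw [map_mul, map_inv, hx c, mul_inv_cancel]
  have h2 := hpow _ x (hD _ hz) (inv_mul_cancel_right _ _).symm (Nat.card C)
  rw [pow_card_eq_one', map_one, MulAut.one_apply] at h2
  exact mul_inv_eq_one.1 (h.eq_one_of_pow (right_eq_mul.1 h2))

theorem QData.stabC_of_allFixed (h : QData φ q) (hA : AllFixed φ) (θ : IrrCharacter Q)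
    (hθ : charDegree (θ : Q → ℂ) ≠ 1) : stabC φ (θ : Q → ℂ) = ⊤ := by
  refine (Subgroup.eq_top_iff' _).2 fun c x => ?_
  by_cases hx : x ∈ fixMod φ
  · rw [h.fixed_of_allFixed hA hx c]
  · rw [h.apply_eq_zero hθ hx, h.apply_eq_zero hθ fun hc => hx (by
      have := phi_mem_fixMod φ c⁻¹ hc
      rwa [← phi_mul_apply, inv_mul_cancel, map_one, MulAut.one_apply] at this)]

/-- With all characters fixed there is one nonlinear degree. -/
theorem QData.exists_deg_of_allFixed (h : QData φ q) (hA : AllFixed φ) :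
    ∃ m : ℕ, ∀ θ : IrrCharacter Q, charDegree (θ : Q → ℂ) = 1 ∨
      (stabC φ (θ : Q → ℂ) = ⊤ ∧ charDegree (θ : Q → ℂ) = m) := by
  classical
  by_cases hex : ∃ θ : IrrCharacter Q, charDegree (θ : Q → ℂ) ≠ 1
  swap
  · push Not at hex
    exact ⟨1, fun θ => Or.inl (hex θ)⟩
  obtain ⟨θ₀, h₀⟩ := hex
  refine ⟨charDegree (θ₀ : Q → ℂ), fun θ => or_iff_not_imp_left.2 fun hθ => ⟨h.stabC_of_allFixed hA θ hθ, ?_⟩⟩
  obtain ⟨a, ha⟩ := h.exists_pow θ
  obtain ⟨b, hb⟩ := h.exists_pow θ₀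
  have key : ∀ χ χ' : IrrCharacter Q, charDegree (χ : Q → ℂ) ≠ 1 → charDegree (χ' : Q → ℂ) ≠ 1 →
      charDegree (χ : Q → ℂ) ∣ charDegree (χ' : Q → ℂ) → charDegree (χ : Q → ℂ) = charDegree (χ' : Q → ℂ) := by
    intro χ χ' h1 h2 hd
    have := h.anti χ χ' h1 h2
    rw [h.stabC_of_allFixed hA χ h1, h.stabC_of_allFixed hA χ' h2, Subgroup.index_top, one_mul, one_mul] at this
    exact this hd
  rcases le_total a b with hab | hab
  · exact key θ θ₀ hθ h₀ (by rw [ha, hb]; exact pow_dvd_pow q hab)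
  · exact (key θ₀ θ h₀ hθ (by rw [ha, hb]; exact pow_dvd_pow q hab)).symm

/-- With none fixed, the invariant characters of the derived subgroup have one fixer. -/
theorem QData.fixer_eq (h : QData φ q) (hN : NoneFixed φ) {μ ν : lowLay Q 0 →* ℂˣ}
    (hμ : μ ∈ central (lowLay Q 0)) (hν : ν ∈ central (lowLay Q 0)) (hμ1 : μ ≠ 1) (hν1 : ν ≠ 1) :
    fixer φ μ = fixer φ ν := by
  refine QData.fixer_eq_of_le (φ := φ) _ (fun a b ha hb ha1 hb1 hab => ?_) hμ hν hμ1 hν1
  obtain ⟨θ, hθ, hres⟩ := exists_nonlinear_over le_rfl ha ha1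
  obtain ⟨θ', hθ', hres'⟩ := exists_nonlinear_over le_rfl hb hb1
  obtain ⟨-, -, hs⟩ := h.char_over ha hθ hres
  obtain ⟨-, -, hs'⟩ := h.char_over hb hθ' hres'
  obtain ⟨-, hd⟩ := h.deg_sq_of_moved ha (hN a ha ha1) hθ hres
  obtain ⟨-, hd'⟩ := h.deg_sq_of_moved hb (hN b hb hb1) hθ' hres'
  have hdd : charDegree (θ : Q → ℂ) = charDegree (θ' : Q → ℂ) :=
    Nat.pow_left_injective two_ne_zero (hd.trans hd'.symm)
  have := h.anti θ' θ hθ' hθ (by
    rw [hs, hs', hdd]; exact mul_dvd_mul_right (Subgroup.index_dvd_of_le hab) _)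
  rw [hs, hs', hdd] at this
  exact eq_of_le_of_index_dvd hab (Nat.eq_of_mul_eq_mul_right (TwoClassChar.deg_pos θ'.2) this).symm

end Cfsg.Agent.NoDivDeg
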