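/-
The second layer when no invariant character of the derived subgroup is fixed.

Main results: `FixesLayer`, `QData.bracket_fix_mem`, `QData.left_radical`, `QData.exists_fixed_ext`,
`QData.perp`, `QData.forms_nondeg`, `QData.char_over_three`, `QData.fixer_eq_three`.
-/
import Cfsg.Agent.Lib.NoDivDeg.Layer2
import Cfsg.Agent.Lib.NoDivDeg.Alg

set_option autoImplicit false
set_option linter.style.haveILetI false

namespace Cfsg.Agent.NoDivDeg

open Cfsg Cfsg.Agent.Char Cfsg.Agent.CharApp Cfsg.Agent.CharApp.DegreeSets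
open Cfsg.Agent.Codegree (kerSub mem_kerSub)
open scoped ComplexConjugate commutatorElement

universe u v

variable {Q : Type u} [Group Q]

section identities

variable {J : Subgroup Q} [hJ : J.Normal] {ν : J →* ℂˣ}

theorem pair_conj_right (hν : ν ∈ central J) {a k g : Q} (hk : ⁅a, k⁆ ∈ J)
    (hg : ⁅a, ⁅g, k⁆⁆ ∈ J ∧ val ν ⁅a, ⁅g, k⁆⁆ = 1) : val ν ⁅a, g * k * g⁻¹⁆ = val ν ⁅a, k⁆ := by
  rw [show g * k * g⁻¹ = ⁅g, k⁆ * k by rw [commutatorElement_def]; group,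
    pair_mul_right hν hg.1 hk, hg.2, one_mul]

theorem pair_inv_left (hν : ν ∈ central J) {a b : Q} (h : ⁅a, b⁆ ∈ J) :
    ⁅a⁻¹, b⁆ ∈ J ∧ val ν ⁅a⁻¹, b⁆ = (val ν ⁅a, b⁆)⁻¹ := by
  have hm : ⁅a⁻¹, b⁆ ∈ J := by
    rw [show ⁅a⁻¹, b⁆ = a⁻¹ * ⁅a, b⁆⁻¹ * a⁻¹⁻¹ by simp only [commutatorElement_def]; group]
    exact hJ.conj_mem _ (J.inv_mem h) _
  refine ⟨hm, eq_inv_of_mul_eq_one_left ?_⟩
  rw [← pair_mul_left hν hm h, inv_mul_cancel, commutatorElement_one_left, val_one]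

theorem pair_inv_right (hν : ν ∈ central J) {a b : Q} (h : ⁅a, b⁆ ∈ J) :
    ⁅a, b⁻¹⁆ ∈ J ∧ val ν ⁅a, b⁻¹⁆ = (val ν ⁅a, b⁆)⁻¹ := by
  have h' := bracket_swap_mem h
  obtain ⟨h1, h2⟩ := pair_inv_left hν h'
  exact ⟨bracket_swap_mem h1, by rw [pair_swap ν h1, h2, pair_swap ν h, inv_inv]⟩

/-- The Hall–Witt identity under an invariant character. -/
theorem jacobi (hν : ν ∈ central J) {x y z : Q} (h1 : ⁅z, ⁅x, y⁆⁆ ∈ J) (h2 : ⁅y, ⁅z, x⁆⁆ ∈ J)
    (h2' : ∀ g : Q, ⁅y, ⁅g, ⁅z, x⁆⁆⁆ ∈ J ∧ val ν ⁅y, ⁅g, ⁅z, x⁆⁆⁆ = 1) (h3 : ⁅x, ⁅y, z⁆⁆ ∈ J)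
    (h3' : ∀ g : Q, ⁅x⁻¹, ⁅g, ⁅z, y⁆⁆⁆ ∈ J ∧ val ν ⁅x⁻¹, ⁅g, ⁅z, y⁆⁆⁆ = 1) :
    val ν ⁅z, ⁅x, y⁆⁆ * val ν ⁅y, ⁅z, x⁆⁆ * val ν ⁅x, ⁅y, z⁆⁆ = 1 := by
  have eA : ⁅z⁻¹, x⁻¹⁆ = (x * z)⁻¹ * ⁅z, x⁆ * (x * z)⁻¹⁻¹ := by
    simp only [commutatorElement_def]; group
  have eB : ⁅y⁻¹, z⁆ = y⁻¹ * ⁅z, y⁆ * y⁻¹⁻¹ := by simp only [commutatorElement_def]; group
  have hA : ⁅y, ⁅z⁻¹, x⁻¹⁆⁆ ∈ J := by
    rw [eA, show (x * z)⁻¹ * ⁅z, x⁆ * (x * z)⁻¹⁻¹ = ⁅(x * z)⁻¹, ⁅z, x⁆⁆ * ⁅z, x⁆ by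
      simp only [commutatorElement_def]; group,
      show ∀ p r : Q, ⁅y, p * r⁆ = ⁅y, p⁆ * (p * ⁅y, r⁆ * p⁻¹) from fun p r => by
        simp only [commutatorElement_def]; group]
    exact J.mul_mem (h2' _).1 (hJ.conj_mem _ h2 _)
  obtain ⟨h3a, h3b⟩ := pair_inv_right hν h3
  rw [commutatorElement_inv] at h3a h3b
  obtain ⟨h3c, h3d⟩ := pair_inv_left hν h3a
  have hB : ⁅x⁻¹, ⁅y⁻¹, z⁆⁆ ∈ J := by
    rw [eB, show y⁻¹ * ⁅z, y⁆ * y⁻¹⁻¹ = ⁅y⁻¹, ⁅z, y⁆⁆ * ⁅z, y⁆ by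
      simp only [commutatorElement_def]; group,
      show ∀ p r : Q, ⁅x⁻¹, p * r⁆ = ⁅x⁻¹, p⁆ * (p * ⁅x⁻¹, r⁆ * p⁻¹) from fun p r => by
        simp only [commutatorElement_def]; group]
    exact J.mul_mem (h3' _).1 (hJ.conj_mem _ h3c _)
  have e : ⁅z, ⁅x, y⁆⁆ = (x * z * ⁅y, ⁅z⁻¹, x⁻¹⁆⁆⁻¹ * (x * z)⁻¹) *
      (x * y * ⁅x⁻¹, ⁅y⁻¹, z⁆⁆⁻¹ * (x * y)⁻¹) := by
    simp only [commutatorElement_def]; group
  have h := congrArg (val ν) e
  rw [val_mul ν (hJ.conj_mem _ (J.inv_mem hA) _) (hJ.conj_mem _ (J.inv_mem hB) _),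
    val_conj hν _ (J.inv_mem hA), val_conj hν _ (J.inv_mem hB), val_inv ν hA, val_inv ν hB, eA,
    pair_conj_right hν h2 (h2' _), eB, pair_conj_right hν h3c (h3' _), h3d, h3b, inv_inv] at h
  rw [h]
  generalize val ν ⁅y, ⁅z, x⁆⁆ = P
  generalize val ν ⁅x, ⁅y, z⁆⁆ = R
  rw [mul_right_comm P⁻¹, inv_mul_cancel, one_mul, inv_mul_cancel]

end identities

theorem val_eq_one_of_bracket {k : ℕ} {μ : lowLay Q (k + 1) →* ℂˣ}
    (h : ∀ a ∈ lowLay Q k, ∀ b : Q, val μ ⁅a, b⁆ = 1) {x : Q} (hx : x ∈ lowLay Q (k + 1)) :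
    val μ x = 1 := by
  refine Subgroup.closure_induction (p := fun a _ => val μ a = 1) ?_ (val_one μ) ?_ ?_
    (show x ∈ Subgroup.closure {g | ∃ a ∈ lowLay Q k, ∃ b ∈ (⊤ : Subgroup Q), ⁅a, b⁆ = g} from hx)
  · rintro _ ⟨a, ha, b, -, rfl⟩
    exact h a ha b
  · intro a b ha hb e1 e2
    rw [val_mul μ (show a ∈ lowLay Q (k + 1) from ha) (show b ∈ lowLay Q (k + 1) from hb), e1, e2, one_mul]
  · intro a ha e
    rw [val_inv μ (show a ∈ lowLay Q (k + 1) from ha), e, inv_one]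

theorem val_next_layer {k : ℕ} {ν : lowLay Q k →* ℂˣ} (hν : ν ∈ central (lowLay Q k)) {x : Q}
    (hx : x ∈ lowLay Q (k + 1)) : val ν x = 1 := by
  refine Subgroup.closure_induction (p := fun a _ => val ν a = 1) ?_ (val_one ν) ?_ ?_
    (show x ∈ Subgroup.closure {g | ∃ a ∈ lowLay Q k, ∃ b ∈ (⊤ : Subgroup Q), ⁅a, b⁆ = g} from hx)
  · rintro _ ⟨a, ha, b, -, rfl⟩
    exact (val_bracket_self hν b ha).1
  · intro a b ha hb e1 e2
    rw [val_mul ν (lowLay_succ_le k ha) (lowLay_succ_le k hb), e1, e2, one_mul]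
  · intro a ha e
    rw [val_inv ν (lowLay_succ_le k ha), e, inv_one]

variable {C : Type v} [CommGroup C] (φ : C →* MulAut Q)

/-- The operator fixes every invariant character of the derived subgroup. -/
def FixesLayer (c : C) : Prop :=
  ∀ μ : lowLay Q 0 →* ℂˣ, μ ∈ central (lowLay Q 0) → c ∈ fixer φ μ

variable {φ} [Finite Q] [Finite C] {q : ℕ}

theorem FixesLayer.delta_mem {c : C} (hc : FixesLayer φ c) {v : Q} (hv : v ∈ lowLay Q 0) :
    φ c v * v⁻¹ ∈ lowLay Q 1 :=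
  separation (J := lowLay Q 0) (fun j hj w => (bracket_mem_lowLay hj w).1)
    ((lowLay Q 0).mul_mem (phi_mem φ c hv) (Subgroup.inv_mem _ hv)) fun μ hμ _ => by
      rw [val_mul μ (phi_mem φ c hv) (Subgroup.inv_mem _ hv), val_inv μ hv, hc μ hμ v hv, mul_inv_cancel]

theorem QData.fixesLayer_of_fixer (h : QData φ q) (hN : NoneFixed φ) {μ : lowLay Q 0 →* ℂˣ}
    (hμ : μ ∈ central (lowLay Q 0)) (hμ1 : μ ≠ 1) {c : C} (hc : c ∈ fixer φ μ) : FixesLayer φ c := by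
  intro ν hν
  by_cases hν1 : ν = 1
  · intro x hx
    rw [hν1, val_of_mem _ hx, val_of_mem _ (phi_mem φ c hx)]; rfl
  exact h.fixer_eq hN hμ hν hμ1 hν1 ▸ hc

theorem QData.pair_eq_one (h : QData φ q) (hN : NoneFixed φ) {μ : lowLay Q 0 →* ℂˣ}
    (hμ : μ ∈ central (lowLay Q 0)) (hμ1 : μ ≠ 1) {a b : Q} (ha : a ∈ fixMod φ) : val μ ⁅a, b⁆ = 1 := by
  obtain ⟨θ, hθ, hres⟩ := exists_nonlinear_over le_rfl hμ hμ1
  obtain ⟨hR, -⟩ := h.deg_sq_of_moved hμ (hN μ hμ hμ1) hθ hres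
  exact (mem_rad2 hμ).1 (hR ▸ ha) b

/-- Brackets with fixed elements lie in the next layer. -/
theorem QData.bracket_fix_lay (h : QData φ q) (hN : NoneFixed φ) {a : Q} (ha : a ∈ fixMod φ) (b : Q) :
    ⁅a, b⁆ ∈ lowLay Q 1 ∧ ⁅b, a⁆ ∈ lowLay Q 1 := by
  have : ⁅a, b⁆ ∈ lowLay Q 1 :=
    separation (J := lowLay Q 0) (fun j hj w => (bracket_mem_lowLay hj w).1) (bracket_mem_commutator a b)
      fun μ hμ _ => by
        by_cases hμ1 : μ = 1
        · rw [hμ1, val_of_mem _ (bracket_mem_commutator a b)]; rfl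
        exact h.pair_eq_one hN hμ hμ1 ha
  exact ⟨this, bracket_swap_mem this⟩

/-- The derived subgroup brackets with fixed elements two steps down. -/
theorem QData.bracket_fix_mem (h : QData φ q) (hN : NoneFixed φ) {v m : Q} (hv : v ∈ lowLay Q 0)
    (hm : m ∈ fixMod φ) : ⁅v, m⁆ ∈ lowLay Q 2 := by
  have hWM : ⁅movMod φ, fixMod φ⁆ ≤ lowLay Q 1 :=
    Subgroup.commutator_le.2 fun a _ b hb => (h.bracket_fix_lay hN hb a).2
  have h3 : ⁅⁅movMod φ, movMod φ⁆, fixMod φ⁆ ≤ lowLay Q 2 := by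
    refine three_subgroup (le_trans (Subgroup.commutator_mono hWM le_top) le_rfl)
      (le_trans (Subgroup.commutator_mono ?_ le_top) le_rfl)
    rw [Subgroup.commutator_comm]
    exact hWM
  have hle : lowLay Q 0 ≤ ⁅movMod φ, movMod φ⁆ ⊔ lowLay Q 1 := by
    intro x hx
    refine separation (J := lowLay Q 0)
      (fun j hj w => Subgroup.mem_sup_right (bracket_mem_lowLay hj w).1) hx fun μ hμ htriv => ?_
    by_contra hne
    have hμ1 : μ ≠ 1 := fun e => hne (by rw [e, val_of_mem _ hx]; rfl)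
    obtain ⟨w, hw, hwD⟩ := h.moved_mem
    refine hwD (h.rad2_mov hμ hμ1 ((mem_rad2 hμ).2 fun b => ?_) hw)
    obtain ⟨w', hw', m', hm', rfl⟩ := h.exists_decomp b
    rw [pair_mul_right hμ (bracket_mem_commutator _ _) (bracket_mem_commutator _ _),
      htriv _ (Subgroup.mem_sup_left (Subgroup.commutator_mem_commutator hw hw')) (bracket_mem_commutator _ _),
      h.pair_mov_fix hμ hw hm', mul_one]
  refine Subgroup.commutator_le.1 ?_ v hv m hm
  rw [Subgroup.commutator_le]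
  intro a ha b hb
  obtain ⟨p, hp, r, hr, rfl⟩ := Subgroup.mem_sup_of_normal_right.1 (hle ha)
  have e : ⁅p * r, b⁆ = p * ⁅r, b⁆ * p⁻¹ * ⁅p, b⁆ := by simp only [commutatorElement_def]; group
  rw [e]
  exact (lowLay Q 2).mul_mem ((inferInstance : (lowLay Q 2).Normal).conj_mem _ (bracket_mem_lowLay hr b).1 p)
    (h3 (Subgroup.commutator_mem_commutator hp hb))

section nu

variable {ν : lowLay Q 1 →* ℂˣ}

theorem mem_lay1 {v : Q} (hv : v ∈ lowLay Q 0) (w : Q) : ⁅v, w⁆ ∈ lowLay Q 1 :=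
  (bracket_mem_lowLay hv w).1

theorem QData.pair_fix (h : QData φ q) (hN : NoneFixed φ) (hν : ν ∈ central (lowLay Q 1)) {v m : Q}
    (hv : v ∈ lowLay Q 0) (hm : m ∈ fixMod φ) : val ν ⁅v, m⁆ = 1 :=
  val_next_layer hν (h.bracket_fix_mem hN hv hm)

theorem QData.not_fixesLayer (h : QData φ q) (hν : ν ∈ central (lowLay Q 1))
    (hν1 : ν ≠ 1) (hN : NoneFixed φ) {c : C} (hc : c ∈ fixer φ ν) (hc1 : c ≠ 1) : ¬ FixesLayer φ c := by
  intro hF
  apply hν1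
  refine eq_one_of_val fun x hx => val_eq_one_of_bracket (fun v hv b => ?_) hx
  obtain ⟨w, hw, m, hm, rfl⟩ := h.exists_decomp b
  rw [pair_mul_right hν (mem_lay1 hv w) (mem_lay1 hv m), h.pair_fix hN hν hv hm, mul_one]
  obtain ⟨u, hu, hd⟩ := h.exists_delta hc1 hw
  rw [← mul_inv_cancel_left (φ c u * u⁻¹) w, pair_mul_right hν (mem_lay1 hv _) (mem_lay1 hv _),
    h.pair_fix hN hν hv (commutator_le_fixMod φ hd), mul_one,
    pair_mul_right hν (mem_lay1 hv _) (mem_lay1 hv _)]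
  have e : val ν ⁅v, φ c u⁆ = val ν ⁅v, u⁆ := by
    rw [← hc _ (mem_lay1 hv u), phi_bracket]
    have e3 := pair_mem_left hν (hF.delta_mem hv) (mem_lay1 hv (φ c u))
    rw [inv_mul_cancel_right] at e3
    exact e3.symm
  rw [e, ← pair_mul_right hν (mem_lay1 hv _) (mem_lay1 hv _), mul_inv_cancel,
    commutatorElement_one_right, val_one]

/-- An operator not fixing the layer has no fixed points on it. -/
theorem QData.fpf_lay (h : QData φ q) (hN : NoneFixed φ) {c : C} (hc : ¬ FixesLayer φ c) {v : Q}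
    (hv : v ∈ lowLay Q 0) (he : φ c v * v⁻¹ ∈ lowLay Q 1) : v ∈ lowLay Q 1 := by
  refine separation (J := lowLay Q 0) (fun j hj w => (bracket_mem_lowLay hj w).1) hv fun μ hμ htriv => ?_
  let nrm : central (lowLay Q 0) := ∏ i ∈ Finset.range (Nat.card C), cAct φ (lowLay Q 0) (c ^ i) ⟨μ, hμ⟩
  have hval : ∀ x ∈ lowLay Q 0, val (nrm : lowLay Q 0 →* ℂˣ) x =
      ∏ i ∈ Finset.range (Nat.card C), val μ (φ (c ^ i)⁻¹ x) := by
    intro x hx
    simp only [nrm, Subgroup.val_finsetProd]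
    rw [val_of_mem _ hx, MonoidHom.finsetProd_apply]
    exact Finset.prod_congr rfl fun i _ => by rw [← val_of_mem _ hx, val_cAct φ _ (c ^ i) ⟨μ, hμ⟩ hx]
  have hfix : c ∈ fixer φ (nrm : lowLay Q 0 →* ℂˣ) := by
    rw [← inv_mem_iff]
    intro x hx
    rw [hval _ (phi_mem φ c⁻¹ hx), hval x hx]
    refine mul_right_cancel (b := val μ (φ (c ^ 0)⁻¹ x)) ?_
    rw [Finset.prod_congr rfl fun i _ => show val μ (φ (c ^ i)⁻¹ (φ c⁻¹ x)) = val μ (φ (c ^ (i + 1))⁻¹ x) by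
        rw [← phi_mul_apply, pow_succ', mul_inv_rev],
      ← Finset.prod_range_succ' (fun i => val μ (φ (c ^ i)⁻¹ x)) (Nat.card C), Finset.prod_range_succ,
      pow_card_eq_one', pow_zero]
  have h1 : (nrm : lowLay Q 0 →* ℂˣ) = 1 := by
    by_contra hne
    exact hc (h.fixesLayer_of_fixer hN nrm.2 hne hfix)
  have h2 := hval v hv
  rw [h1, val_of_mem _ hv, MonoidHom.one_apply] at h2
  have hpt : ∀ i : ℕ, val μ (φ (c ^ i) v) = val μ v := by
    intro i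
    induction i with
    | zero => rw [pow_zero, map_one, MulAut.one_apply]
    | succ i ih =>
      have e : φ (c ^ (i + 1)) v = φ (c ^ i) (φ c v * v⁻¹) * φ (c ^ i) v := by
        rw [← map_mul, inv_mul_cancel_right, pow_succ, phi_mul_apply]
      rw [e, val_mul μ (lowLay_succ_le 0 (phi_mem φ _ he)) (phi_mem φ _ hv),
        htriv _ (phi_mem φ _ he) (lowLay_succ_le 0 (phi_mem φ _ he)), one_mul, ih]
  have hinv : ∀ i : ℕ, val μ (φ (c ^ i)⁻¹ v) = val μ v := fun i => by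
    obtain ⟨j, hj⟩ : (c ^ i)⁻¹ ∈ Submonoid.powers c := by
      rw [mem_powers_iff_mem_zpowers]
      exact inv_mem (Subgroup.npow_mem_zpowers c i)
    change c ^ j = _ at hj
    rw [← hj]
    exact hpt j
  rw [Finset.prod_congr rfl fun i _ => hinv i, Finset.prod_const, Finset.card_range] at h2
  exact h.units_eq_one μ (val_of_mem μ hv) h2.symm

/-- An operator without fixed points on an abelian section moves onto it. -/
theorem exists_delta_mod {H J : Subgroup Q} [J.Normal] {c : C} (hH : ∀ x ∈ H, φ c x ∈ H)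
    (hJ : ∀ x ∈ J, φ c x ∈ J) (hfpf : ∀ x ∈ H, φ c x * x⁻¹ ∈ J → x ∈ J) {r : Q} (hr : r ∈ H) :
    ∃ u ∈ H, (φ c u * u⁻¹)⁻¹ * r ∈ J := by
  let π := QuotientGroup.mk' J
  let S : Subgroup (Q ⧸ J) := H.map π
  have hmem : ∀ a : S, ∃ x ∈ H, π x = a := fun a => a.2
  choose f hf hf' using hmem
  let δ : S → S := fun a => ⟨π (φ c (f a) * (f a)⁻¹), _, H.mul_mem (hH _ (hf a)) (H.inv_mem (hf a)), rfl⟩
  have hinj : Function.Injective δ := by
    intro a b e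
    have e' : π (φ c (f a)) * (π (f a))⁻¹ = π (φ c (f b)) * (π (f b))⁻¹ := by
      rw [← map_inv, ← map_inv, ← map_mul, ← map_mul]
      exact congrArg Subtype.val e
    set z := (f b)⁻¹ * f a
    have hz : z ∈ H := H.mul_mem (H.inv_mem (hf b)) (hf a)
    have hzc : π (φ c z * z⁻¹) = 1 := by
      simp only [z, map_mul, map_inv, mul_inv_rev, inv_inv]
      rw [mul_assoc, ← mul_assoc (π (φ c (f a))), e', inv_mul_cancel_right, inv_mul_cancel]
    have h1 : π z = 1 := (QuotientGroup.eq_one_iff z).2 (hfpf z hz ((QuotientGroup.eq_one_iff _).1 hzc))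
    rw [map_mul, map_inv, inv_mul_eq_one, hf', hf'] at h1
    exact Subtype.ext h1.symm
  obtain ⟨a, ha⟩ := (Finite.injective_iff_surjective.1 hinj) ⟨π r, r, hr, rfl⟩
  exact ⟨f a, hf a, QuotientGroup.eq.1 (congrArg Subtype.val ha)⟩

/-- An extension fixed by a group of operators. -/
theorem QData.exists_fixed_ext (h : QData φ q) {H J : Subgroup Q} (hJH : J ≤ H) (ν : J →* ℂˣ)
    (τ : H →* ℂˣ) (hτ : ∀ j (hj : j ∈ J), τ ⟨j, hJH hj⟩ = val ν j) (S : Subgroup C)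
    (hH : ∀ c ∈ S, ∀ x ∈ H, φ c x ∈ H) (hν : ∀ c ∈ S, ∀ j ∈ J, φ c j ∈ J ∧ val ν (φ c j) = val ν j) :
    ∃ τ₀ : H →* ℂˣ, (∀ j (hj : j ∈ J), τ₀ ⟨j, hJH hj⟩ = val ν j) ∧
      ∀ c ∈ S, ∀ x ∈ H, val τ₀ (φ c x) = val τ₀ x := by
  classical
  haveI := Fintype.ofFinite S
  haveI := Fact.mk h.prime
  obtain ⟨k, hk⟩ := IsPGroup.iff_card.1 h.pgroup
  have hco : (Nat.card S).Coprime (q ^ k) :=
    (h.cop.coprime_dvd_left (Subgroup.card_subgroup_dvd_card S)).pow_right k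
  let P : H →* ℂˣ := MonoidHom.mk' (fun x => ∏ c : S, val τ (φ (c : C) x)) fun x y => by
    rw [← Finset.prod_mul_distrib]
    exact Finset.prod_congr rfl fun c _ => by
      rw [Subgroup.coe_mul, map_mul, val_mul τ (hH c c.2 _ x.2) (hH c c.2 _ y.2)]
  have hroot : ∀ j ∈ J, val ν j ^ (q ^ k) = 1 := fun j hj => by
    rw [← hk, ← val_pow ν hj, pow_card_eq_one', val_one]
  obtain ⟨l, hl⟩ : ∃ l : ℕ, ∀ j ∈ J, (val ν j ^ Nat.card S) ^ l = val ν j := by
    rcases Nat.lt_or_ge (q ^ k) 2 with h2 | h2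
    · refine ⟨0, fun j hj => ?_⟩
      rw [pow_zero, ← hroot j hj, show q ^ k = 1 by
        have := pow_pos h.prime.pos k
        omega, pow_one]
    · obtain ⟨l, -, hl⟩ := Nat.exists_mul_mod_eq_one_of_coprime hco (by omega)
      exact ⟨l, fun j hj => by rw [← pow_mul, ← Nat.mod_add_div (Nat.card S * l) (q ^ k), hl, pow_add,
        pow_one, pow_mul, hroot j hj, one_pow, mul_one]⟩
  refine ⟨P ^ l, fun j hj => ?_, fun d hd x hx => ?_⟩
  · rw [MonoidHom.pow_apply]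
    refine Eq.trans ?_ (hl j hj)
    congr 1
    show ∏ c : S, val τ (φ (c : C) j) = _
    rw [Finset.prod_congr rfl fun (c : S) _ => show val τ (φ (c : C) j) = val ν j by
      rw [val_of_mem τ (hJH (hν c c.2 j hj).1), hτ _ (hν c c.2 j hj).1, (hν c c.2 j hj).2],
      Finset.prod_const, Finset.card_univ, Nat.card_eq_fintype_card]
  · rw [val_of_mem _ hx, val_of_mem _ (hH d hd x hx), MonoidHom.pow_apply, MonoidHom.pow_apply]
    congr 1
    show ∏ c : S, val τ (φ (c : C) (φ d x)) = ∏ c : S, val τ (φ (c : C) x)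
    exact Fintype.prod_equiv (Equiv.mulRight (⟨d, hd⟩ : S)) _ _ fun c => by
      rw [← phi_mul_apply]; rfl

theorem exists_extend {H J : Subgroup Q} (hJH : J ≤ H) (ν : J →* ℂˣ)
    (hker : ∀ a ∈ H, ∀ b ∈ H, ⁅a, b⁆ ∈ J ∧ val ν ⁅a, b⁆ = 1) :
    ∃ τ : H →* ℂˣ, ∀ j ∈ J, val τ j = val ν j := by
  let g : J.subgroupOf H →* ℂˣ := ν.comp (Subgroup.subgroupOfEquivOfLe hJH).toMonoidHom
  let f := (Abelianization.of : H →* Abelianization H).subgroupMap (J.subgroupOf H)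
  have hf : Function.Surjective f := MonoidHom.subgroupMap_surjective _ _
  have hK : commutator H ≤ g.ker.map (J.subgroupOf H).subtype := by
    rw [commutator_def, Subgroup.commutator_le]
    intro a _ b _
    refine ⟨⟨⁅a, b⁆, Subgroup.mem_subgroupOf.2 ?_⟩, ?_, rfl⟩
    · exact (hker _ a.2 _ b.2).1
    · rw [SetLike.mem_coe, MonoidHom.mem_ker]
      show ν ⟨((⁅a, b⁆ : H) : Q), _⟩ = 1
      rw [← val_coe ν]
      exact (hker _ a.2 _ b.2).2
  have hle : f.ker ≤ g.ker := fun x hx => by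
    have h1 : (x : H) ∈ commutator H := (QuotientGroup.eq_one_iff (x : H)).1 (congrArg Subtype.val hx)
    obtain ⟨y, hy, e⟩ := hK h1
    rwa [← Subtype.ext e]
  haveI : NeZero (Monoid.exponent (Abelianization H)) := ⟨Monoid.exponent_ne_zero_of_finite⟩
  haveI : NeZero ((Monoid.exponent (Abelianization H) : ℕ) : ℂ) := ⟨Nat.cast_ne_zero.2 (NeZero.ne _)⟩
  obtain ⟨l, hl⟩ := MonoidHom.restrict_surjective ℂ ((J.subgroupOf H).map Abelianization.of)
    (MonoidHom.liftOfSurjective f hf ⟨g, hle⟩)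
  refine ⟨l.comp Abelianization.of, fun j hj => ?_⟩
  rw [val_of_mem _ (hJH hj), val_of_mem _ hj]
  have h1 := DFunLike.congr_fun hl (f ⟨⟨j, hJH hj⟩, Subgroup.mem_subgroupOf.2 hj⟩)
  erw [MonoidHom.liftOfRightInverse_comp_apply] at h1
  exact h1

/-- Over a linear constituent the values on a subgroup where it is invariant. -/
theorem res_of_linear [Fintype Q] {χ : Q → ℂ} (hχ : IsIrrCharacter Q χ) {H J : Subgroup Q} [J.Normal]
    [Fintype H] (hJH : J ≤ H) {ν : J →* ℂˣ} (hν : ν ∈ central J) (τ : H →* ℂˣ)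
    (hτ : ∀ j ∈ J, val τ j = val ν j)
    (hover : classInner (fun h : H => χ h) (fun h : H => (τ h : ℂ)) ≠ 0) {j : Q} (hj : j ∈ J) :
    χ j = χ 1 * (val ν j : ℂ) := by
  haveI := Fintype.ofFinite J
  have hirr : IsIrrCharacter J (fun j : J => (ν j : ℂ)) := isIrrCharacter_of_hom ((Units.coeHom ℂ).comp ν)
  have hτi : IsIrrCharacter H (fun h : H => (τ h : ℂ)) := isIrrCharacter_of_hom ((Units.coeHom ℂ).comp τ)
  have e : (fun j : J => (τ (Subgroup.inclusion hJH j) : ℂ)) = fun j : J => (ν j : ℂ) := funext fun j => by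
    rw [← val_coe ν j, ← hτ j j.2, val_of_mem τ (hJH j.2)]
    rfl
  have hc : classInner (fun j : J => χ j) (fun j : J => (ν j : ℂ)) ≠ 0 :=
    over_trans (Subgroup.inclusion hJH) (IsCharacter.restrict (IsIrrCharacter.isCharacter hχ) H) hτi hirr
      hover (by rw [e, classInner_irr_self hirr]; exact one_ne_zero)
  have hres := restrict_invariant J hχ hirr hc fun x => funext fun j => by
    rw [CliffordChar.conjFun_apply]
    refine congrArg Units.val (Eq.trans (congrArg ν (Subtype.ext ?_)) (hν x⁻¹ j))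
    simp [MulAut.conjNormal_apply]
  have h1 := congrFun hres 1
  simp only [Pi.smul_apply, smul_eq_mul, map_one, Units.val_one, mul_one, OneMemClass.coe_one] at h1
  rw [h1, val_of_mem ν hj]
  exact congrFun hres ⟨j, hj⟩

theorem constituent_conj {θ : Q → ℂ} (hθ : IsIrrCharacter Q θ) {H : Subgroup Q} [H.Normal] [Fintype H]
    (τ τ' : H →* ℂˣ) (hτ : classInner (fun h : H => θ h) (fun h : H => (τ h : ℂ)) ≠ 0)
    (hτ' : classInner (fun h : H => θ h) (fun h : H => (τ' h : ℂ)) ≠ 0) :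
    ∃ w : Q, ∀ x ∈ H, val τ' x = val τ (w * x * w⁻¹) := by
  haveI := Fintype.ofFinite Q
  obtain ⟨w, hw⟩ := CliffordChar.constituents_conjugate H hθ
    (isIrrCharacter_of_hom ((Units.coeHom ℂ).comp τ)) (isIrrCharacter_of_hom ((Units.coeHom ℂ).comp τ'))
    hτ hτ'
  refine ⟨w⁻¹, fun x hx => Units.ext ?_⟩
  have h1 := congrFun hw ⟨x, hx⟩
  rw [CliffordChar.conjFun_apply] at h1
  rw [val_of_mem τ' hx, val_of_mem τ ((inferInstance : H.Normal).conj_mem x hx w⁻¹)]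
  refine h1.symm.trans ?_
  show ((τ _ : ℂˣ) : ℂ) = _
  congr 2
  simp

/-- Characters invariant in `H` extending `ν`, every such fixed by some `P`-operator and each
`P`-operator being free of fixed points on `H / J`: then `H = J`. -/
theorem QData.le_of_unique (h : QData φ q) {H J : Subgroup Q} [H.Normal] [J.Normal] (hJH : J ≤ H)
    (hab : ∀ a ∈ H, ∀ b ∈ H, ⁅a, b⁆ ∈ J) (ν : J →* ℂˣ) (ρ : H →* ℂˣ) (hρJ : ∀ j ∈ J, val ρ j = val ν j)
    (P : C → Prop) (hP : ∀ c, P c → (∀ x ∈ H, φ c x ∈ H) ∧ (∀ x ∈ J, φ c x ∈ J) ∧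
      (∀ x ∈ J, val ν (φ c x) = val ν x) ∧ ∀ x ∈ H, φ c x * x⁻¹ ∈ J → x ∈ J)
    (hex : ∀ ρ : H →* ℂˣ, (∀ j ∈ J, val ρ j = val ν j) →
      ∃ c, P c ∧ ∀ x ∈ H, val ρ (φ c x) = val ρ x) : H ≤ J := by
  classical
  have huniq : ∀ c, P c → ∀ ρ ρ' : H →* ℂˣ, (∀ j ∈ J, val ρ j = val ν j) → (∀ j ∈ J, val ρ' j = val ν j) →
      (∀ x ∈ H, val ρ (φ c x) = val ρ x) → (∀ x ∈ H, val ρ' (φ c x) = val ρ' x) → ρ = ρ' := by
    intro c hc ρ ρ' h1 h1' h2 h2'
    obtain ⟨hH, hJ, -, hfpf⟩ := hP c hc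
    refine MonoidHom.ext fun x => ?_
    obtain ⟨u, hu, hd⟩ := exists_delta_mod hH hJ hfpf x.2
    have key : ∀ ψ : H →* ℂˣ, (∀ x ∈ H, val ψ (φ c x) = val ψ x) →
        (∀ j ∈ J, val ψ j = val ν j) → val ψ (x : Q) = val ν ((φ c u * u⁻¹)⁻¹ * x) := by
      intro ψ hψ hψJ
      have hm : φ c u * u⁻¹ ∈ H := H.mul_mem (hH u hu) (H.inv_mem hu)
      conv_lhs => rw [← mul_inv_cancel_left (φ c u * u⁻¹) (x : Q)]
      rw [val_mul ψ hm (hJH hd), hψJ _ hd, val_mul ψ (hH u hu) (H.inv_mem hu), val_inv ψ hu, hψ u hu,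
        mul_inv_cancel, one_mul]
    rw [← val_coe ρ, ← val_coe ρ', key ρ h2 h1, key ρ' h2' h1']
  obtain ⟨c, hc, hcρ⟩ := hex ρ hρJ
  intro x hx
  by_contra hxJ
  have hab' : ∀ a b : H ⧸ J.subgroupOf H, a * b = b * a := by
    intro a b
    induction a using QuotientGroup.induction_on with
    | H a => induction b using QuotientGroup.induction_on with
      | H b =>
        rw [← QuotientGroup.mk_mul, ← QuotientGroup.mk_mul, QuotientGroup.eq, Subgroup.mem_subgroupOf]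
        simpa [commutatorElement_def, mul_assoc] using hab _ (H.inv_mem b.2) _ (H.inv_mem a.2)
  obtain ⟨l, hl⟩ := TwoDegrees.exists_linear_sep hab' (y := ((⟨x, hx⟩ : H) : H ⧸ J.subgroupOf H))
    fun e => hxJ ((QuotientGroup.eq_one_iff (⟨x, hx⟩ : H)).1 e)
  let ω : H →* ℂˣ := (l.comp (QuotientGroup.mk' _)).toHomUnits
  have hρ' : ∀ j ∈ J, val (ρ * ω) j = val ν j := fun j hj => by
    rw [val_of_mem _ (hJH hj), MonoidHom.mul_apply, ← val_of_mem ρ, hρJ j hj]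
    refine mul_eq_left.2 (Units.ext ?_)
    show l ((⟨j, hJH hj⟩ : H) : H ⧸ J.subgroupOf H) = 1
    rw [(QuotientGroup.eq_one_iff (⟨j, hJH hj⟩ : H)).2 hj, map_one]
  obtain ⟨d, hd, hdρ'⟩ := hex _ hρ'
  -- `d` moves the extension fixed by `c` to another one
  let ρd : H →* ℂˣ := MonoidHom.mk' (fun y => val ρ (φ d y)) fun a b => by
    rw [Subgroup.coe_mul, map_mul, val_mul ρ ((hP d hd).1 _ a.2) ((hP d hd).1 _ b.2)]
  have hρd : ρd = ρ := by
    refine huniq c hc ρd ρ (fun j hj => ?_) hρJ (fun y hy => ?_) hcρ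
    · rw [val_of_mem ρd (hJH hj)]
      show val ρ (φ d j) = _
      rw [hρJ _ ((hP d hd).2.1 j hj), (hP d hd).2.2.1 j hj]
    · rw [val_of_mem ρd hy, val_of_mem ρd ((hP c hc).1 y hy)]
      show val ρ (φ d (φ c y)) = val ρ (φ d y)
      rw [← phi_mul_apply, mul_comm, phi_mul_apply, hcρ _ ((hP d hd).1 y hy)]
  have hdρ : ∀ y ∈ H, val ρ (φ d y) = val ρ y := fun y hy => by
    conv_rhs => rw [← hρd]
    rw [val_of_mem ρd hy]; rfl
  have e := huniq d hd _ _ hρ' hρJ hdρ' hdρ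
  refine hl ?_
  have h1 := DFunLike.congr_fun e (⟨x, hx⟩ : H)
  rw [MonoidHom.mul_apply, mul_eq_left] at h1
  exact congrArg Units.val h1

/-- The pairing of the derived subgroup against `ν` has trivial left radical modulo the next layer. -/
theorem QData.left_radical (h : QData φ q) (hN : NoneFixed φ) (hν : ν ∈ central (lowLay Q 1))
    (hν1 : ν ≠ 1) {v : Q} (hv : v ∈ lowLay Q 0) (hzero : ∀ w, val ν ⁅v, w⁆ = 1) : v ∈ lowLay Q 1 := by
  classical
  let R : Subgroup Q := leftKer hν (lowLay Q 0) ⊤ fun a ha b _ => mem_lay1 ha b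
  have h1R : lowLay Q 1 ≤ R := fun j hj => ⟨lowLay_succ_le 0 hj, fun b _ => (val_bracket_self hν b hj).1⟩
  haveI : R.Normal := ⟨fun r hr g => by
    rw [show g * r * g⁻¹ = ⁅g, r⁆ * r by rw [commutatorElement_def]; group]
    exact R.mul_mem (h1R (bracket_mem_lowLay hr.1 g).2) hr⟩
  obtain ⟨ρ₀, hρ₀⟩ := exists_extend h1R ν fun a ha b _ => ⟨mem_lay1 ha.1 b, ha.2 b (Subgroup.mem_top b)⟩
  refine h.le_of_unique h1R (fun a ha b _ => mem_lay1 ha.1 b) ν ρ₀ hρ₀ (fun c => c ∈ fixer φ ν ∧ c ≠ 1) ?_ ?_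
    (show v ∈ R from ⟨hv, fun b _ => hzero b⟩)
  · rintro c ⟨hc, hc1⟩
    refine ⟨fun x hx => ⟨phi_mem φ c hx.1, fun b _ => ?_⟩, fun x hx => phi_mem φ c hx, hc,
      fun x hx => h.fpf_lay hN (h.not_fixesLayer hν hν1 hN hc hc1) hx.1⟩
    obtain ⟨b, rfl⟩ := (φ c).surjective b
    rw [← phi_bracket, hc _ (mem_lay1 hx.1 b)]
    exact hx.2 b (Subgroup.mem_top b)
  · intro ρ hρ
    have hρc : ρ ∈ central R := fun g r => by
      rw [← val_coe ρ, ← val_coe ρ r, MulAut.conjNormal_apply,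
        apply_conj ρ (h1R (bracket_mem_lowLay r.2.1 g).2) r.2, hρ _ (bracket_mem_lowLay r.2.1 g).2,
        pair_swap ν (mem_lay1 r.2.1 g), r.2.2 g (Subgroup.mem_top g), inv_one, one_mul]
    obtain ⟨x, hx, hne⟩ := exists_val_ne hν1
    have hρ1 : ρ ≠ 1 := fun e => hne (by rw [← hρ x hx, e, val_of_mem _ (h1R hx)]; rfl)
    obtain ⟨θ', hθ', hres'⟩ := exists_nonlinear_over (fun y (hy : y ∈ R) => hy.1) hρc hρ1
    obtain ⟨c, hc, hc1⟩ := h.fix θ' hθ'
    have hcν : c ∈ fixer φ ν := stabC_le_fixer (θ := θ') (ν := ν)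
      (fun j hj => by rw [hres' j (h1R hj), hρ j hj]) hc
    refine ⟨c, ⟨hcν, hc1⟩, fun y hy => Units.ext (mul_left_cancel₀ (IsIrrCharacter.apply_one_ne_zero θ'.2) ?_)⟩
    have hcy : φ c y ∈ R := ⟨phi_mem φ c hy.1, fun b _ => by
      obtain ⟨b, rfl⟩ := (φ c).surjective b
      rw [← phi_bracket, hcν _ (mem_lay1 hy.1 b)]
      exact hy.2 b (Subgroup.mem_top b)⟩
    rw [← hres' _ hcy, ← hres' y hy]
    exact hc y

/-- The elements killed against the derived subgroup. -/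
def lperp (hν : ν ∈ central (lowLay Q 1)) : Subgroup Q where
  carrier := {w | ∀ v ∈ lowLay Q 0, val ν ⁅v, w⁆ = 1}
  one_mem' := fun v _ => by rw [commutatorElement_one_right, val_one]
  mul_mem' := fun {a b} ha hb v hv => by
    rw [pair_mul_right hν (mem_lay1 hv a) (mem_lay1 hv b), ha v hv, hb v hv, one_mul]
  inv_mem' := fun {a} ha v hv => by rw [(pair_inv_right hν (mem_lay1 hv a)).2, ha v hv, inv_one]

theorem lay0_le_lperp (hν : ν ∈ central (lowLay Q 1)) : lowLay Q 0 ≤ lperp hν := fun x hx v hv =>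
  val_next_layer hν (commutator_lowLay_le 0 (Subgroup.commutator_mem_commutator hv hx))

theorem QData.fix_le_lperp (h : QData φ q) (hN : NoneFixed φ) (hν : ν ∈ central (lowLay Q 1)) :
    fixMod φ ≤ lperp hν := fun _ hm _ hv => h.pair_fix hN hν hv hm

theorem lperp_inv (hν : ν ∈ central (lowLay Q 1)) {c : C} (hc : c ∈ fixer φ ν) {x : Q}
    (hx : x ∈ lperp hν) : φ c x ∈ lperp hν := fun v hv => by
  obtain ⟨v, rfl⟩ := (φ c).surjective v
  have hv' : v ∈ lowLay Q 0 := by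
    have := phi_mem φ c⁻¹ hv
    rwa [← phi_mul_apply, inv_mul_cancel, map_one, MulAut.one_apply] at this
  rw [← phi_bracket, hc _ (mem_lay1 hv' x)]
  exact hx v hv'

theorem lay0_pair (hν : ν ∈ central (lowLay Q 1)) {a b : Q} (ha : a ∈ lowLay Q 0) (hb : b ∈ lowLay Q 0) :
    ⁅a, b⁆ ∈ lowLay Q 1 ∧ val ν ⁅a, b⁆ = 1 :=
  ⟨mem_lay1 ha b, lay0_le_lperp hν hb a ha⟩

/-- The extension to the derived subgroup fixed by the fixer. -/
theorem QData.exists_lambda (h : QData φ q) (hν : ν ∈ central (lowLay Q 1)) {θ : IrrCharacter Q}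
    (hres : ∀ j ∈ lowLay Q 1, (θ : Q → ℂ) j = (θ : Q → ℂ) 1 * (val ν j : ℂ)) :
    ∃ l₀ : lowLay Q 0 →* ℂˣ, (∀ j ∈ lowLay Q 1, val l₀ j = val ν j) ∧
      ∀ c ∈ fixer φ ν, ∀ x ∈ lowLay Q 0, val l₀ (φ c x) = val l₀ x := by
  haveI := Fintype.ofFinite (lowLay Q 0)
  obtain ⟨τ, hτ⟩ := exists_linear_constituent θ.2 ν (H := lowLay Q 0) (fun a ha b hb => lay0_pair hν ha hb) hres
  obtain ⟨τ₀, h1, h2⟩ := h.exists_fixed_ext (lowLay_succ_le 0) ν τ
    (fun j hj => constituent_val θ.2 hν hres (lowLay_succ_le 0) τ hτ hj) (fixer φ ν)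
    (fun c _ x hx => phi_mem φ c hx) fun c hc j hj => ⟨phi_mem φ c hj, hc j hj⟩
  exact ⟨τ₀, fun j hj => by rw [val_of_mem τ₀ (lowLay_succ_le 0 hj), h1 j hj], h2⟩

theorem val_conj_lambda {l₀ : lowLay Q 0 →* ℂˣ} (hl : ∀ j ∈ lowLay Q 1, val l₀ j = val ν j) (w : Q)
    {v : Q} (hv : v ∈ lowLay Q 0) : val l₀ (w * v * w⁻¹) = val ν ⁅w, v⁆ * val l₀ v := by
  rw [apply_conj l₀ (lowLay_succ_le 0 (bracket_mem_lowLay hv w).2) hv, hl _ (bracket_mem_lowLay hv w).2]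

theorem QData.pair_lperp (h : QData φ q) (hν : ν ∈ central (lowLay Q 1)) (hν1 : ν ≠ 1)
    (hN : NoneFixed φ) {a b : Q} (ha : a ∈ lperp hν) (hb : b ∈ lperp hν) : ⁅a, b⁆ ∈ lowLay Q 1 := by
  refine h.left_radical hN hν hν1 (bracket_mem_commutator a b) fun z => ?_
  have hk : ∀ (p k g : Q), k ∈ lowLay Q 0 → ⁅p, ⁅g, k⁆⁆ ∈ lowLay Q 1 ∧ val ν ⁅p, ⁅g, k⁆⁆ = 1 := by
    intro p k g hk
    have h1 := (bracket_mem_lowLay hk g).2
    exact ⟨(bracket_mem_lowLay (lowLay_succ_le 0 h1) p).2, (val_bracket_self hν p h1).2⟩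
  have := jacobi hν (x := a) (y := b) (z := z) (bracket_mem_lowLay (bracket_mem_commutator a b) z).2
    (bracket_mem_lowLay (bracket_mem_commutator z a) b).2 (fun g => hk b _ g (bracket_mem_commutator z a))
    (bracket_mem_lowLay (bracket_mem_commutator b z) a).2 (fun g => hk a⁻¹ _ g (bracket_mem_commutator z b))
  rw [pair_swap ν (mem_lay1 (bracket_mem_commutator z a) b), hb _ (bracket_mem_commutator z a), inv_one,
    mul_one, pair_swap ν (mem_lay1 (bracket_mem_commutator b z) a), ha _ (bracket_mem_commutator b z),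
    inv_one, mul_one] at this
  rw [pair_swap ν (bracket_mem_lowLay (bracket_mem_commutator a b) z).2, this, inv_one]

/-- Fixed elements commute modulo the third layer. -/
theorem QData.fix_fix (h : QData φ q) (hν : ν ∈ central (lowLay Q 1)) (hN : NoneFixed φ)
    {a b : Q} (ha : a ∈ fixMod φ) (hb : b ∈ fixMod φ) : val ν ⁅a, b⁆ = 1 := by
  classical
  haveI := Fintype.ofFinite C
  have hmem : ⁅a, b⁆ ∈ lowLay Q 1 := (h.bracket_fix_lay hN ha b).1
  let ν₀ : central (lowLay Q 1) := ∏ c : C, cAct φ (lowLay Q 1) c ⟨ν, hν⟩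
  have hval : ∀ x ∈ lowLay Q 1, val (ν₀ : lowLay Q 1 →* ℂˣ) x = ∏ c : C, val ν (φ c⁻¹ x) := by
    intro x hx
    simp only [ν₀, Subgroup.val_finsetProd]
    rw [val_of_mem _ hx, MonoidHom.finsetProd_apply]
    exact Finset.prod_congr rfl fun c _ => by rw [← val_of_mem _ hx, val_cAct φ _ c ⟨ν, hν⟩ hx]
  have hfix : fixer φ (ν₀ : lowLay Q 1 →* ℂˣ) = ⊤ := by
    refine (Subgroup.eq_top_iff' _).2 fun d x hx => ?_
    rw [hval _ (phi_mem φ d hx), hval x hx]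
    refine Fintype.prod_equiv (Equiv.mulLeft d⁻¹) _ _ fun c => ?_
    rw [← phi_mul_apply]
    congr 3
    rw [Equiv.coe_mulLeft, mul_inv_rev, inv_inv, mul_comm]
  have h1 : (ν₀ : lowLay Q 1 →* ℂˣ) = 1 := by
    by_contra hne
    -- some nontrivial operator fixes the whole first layer
    obtain ⟨w, hw, hwD⟩ := h.moved_mem
    obtain ⟨μ, hμ, hμ1⟩ : ∃ μ : lowLay Q 0 →* ℂˣ, μ ∈ central (lowLay Q 0) ∧ μ ≠ 1 := by
      by_contra hall
      push Not at hall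
      refine hne (eq_one_of_val fun x hx => val_eq_one_of_bracket (fun v hv b => ?_) hx)
      have hv1 : v ∈ lowLay Q 1 := separation (J := lowLay Q 0) (fun j hj w => (bracket_mem_lowLay hj w).1)
        hv fun μ hμ _ => by rw [hall μ hμ, val_of_mem _ hv]; rfl
      exact (val_bracket_self ν₀.2 b hv1).1
    obtain ⟨c, hc, hc1⟩ := h.exists_mem_fixer le_rfl hμ hμ1
    exact h.not_fixesLayer ν₀.2 hne hN (hfix ▸ Subgroup.mem_top c) hc1 (h.fixesLayer_of_fixer hN hμ hμ1 hc)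
  have h2 := hval _ hmem
  rw [h1, val_of_mem _ hmem, MonoidHom.one_apply] at h2
  refine h.units_eq_one ν (val_of_mem ν hmem) ?_
  rw [Nat.card_eq_fintype_card, ← Finset.card_univ, ← Finset.prod_const]
  refine Eq.trans (Finset.prod_congr rfl fun c _ => ?_) h2.symm
  -- brackets of fixed elements are fixed modulo the kernel
  have hch : ∀ {a a' b : Q}, a ∈ fixMod φ → b ∈ fixMod φ →
      Abelianization.of a' = Abelianization.of a → val ν ⁅a', b⁆ = val ν ⁅a, b⁆ := by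
    intro a a' b ha hb e
    have hj : a' * a⁻¹ ∈ lowLay Q 0 := by
      refine (QuotientGroup.eq_one_iff _).1 ?_
      show Abelianization.of (a' * a⁻¹) = 1
      rw [map_mul, map_inv, e, mul_inv_cancel]
    conv_lhs => rw [← inv_mul_cancel_right a' a]
    rw [pair_mul_left hν (mem_lay1 hj b) (h.bracket_fix_lay hN ha b).1, h.pair_fix hN hν hj hb, one_mul]
  rw [phi_bracket, hch ha (phi_mem_fixMod φ _ hb) (ha _),
    pair_swap ν (h.bracket_fix_lay hN (phi_mem_fixMod φ c⁻¹ hb) a).1, hch hb ha (hb _),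
    ← pair_swap ν (h.bracket_fix_lay hN hb a).1]

theorem QData.pair_lperp_fix (h : QData φ q) (hν : ν ∈ central (lowLay Q 1)) (hν1 : ν ≠ 1)
    (hN : NoneFixed φ) {a m : Q} (ha : a ∈ lperp hν) (hm : m ∈ fixMod φ) : val ν ⁅a, m⁆ = 1 := by
  obtain ⟨c, hc, hc1⟩ := h.exists_mem_fixer (lowLay_le 1) hν hν1
  obtain ⟨w, hw, m', hm', rfl⟩ := h.exists_decomp a
  have hw' : w ∈ lperp hν := by
    rw [← mul_inv_cancel_right w m']
    exact (lperp hν).mul_mem ha ((lperp hν).inv_mem (h.fix_le_lperp hN hν hm'))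
  have hmem : ∀ x, ⁅x, m⁆ ∈ lowLay Q 1 := fun x => (h.bracket_fix_lay hN hm x).2
  rw [pair_mul_left hν (hmem w) (hmem m'), h.fix_fix hν hN hm' hm, mul_one]
  -- displacements on the moved perpendicular elements
  obtain ⟨u, hu, hd⟩ := exists_delta_mod (φ := φ) (c := c) (H := movMod φ ⊓ lperp hν) (J := lowLay Q 0)
    (fun x hx => ⟨phi_mem_movMod φ c hx.1, lperp_inv hν hc hx.2⟩) (fun x hx => phi_mem φ c hx)
    (fun x hx e => h.delta_injective hc1 hx.1 (by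
      rw [← mul_inv_eq_one, ← map_inv, ← map_mul]
      exact (QuotientGroup.eq_one_iff _).2 e)) (r := w) ⟨hw, hw'⟩
  rw [← mul_inv_cancel_left (φ c u * u⁻¹) w, pair_mul_left hν (hmem _) (hmem _),
    h.pair_fix hN hν hd hm, mul_one, pair_mul_left hν (hmem _) (hmem _)]
  have e : val ν ⁅φ c u, m⁆ = val ν ⁅u, m⁆ := by
    rw [← hc _ (hmem u), phi_bracket]
    have hj : φ c m * m⁻¹ ∈ lowLay Q 0 := by
      refine (QuotientGroup.eq_one_iff _).1 ?_
      show Abelianization.of (φ c m * m⁻¹) = 1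
      rw [map_mul, map_inv, hm c, mul_inv_cancel]
    conv_rhs => rw [← inv_mul_cancel_right (φ c m) m]
    rw [pair_mul_right hν (bracket_mem_lowLay hj _).2 (hmem _),
      pair_swap ν (mem_lay1 hj (φ c u)), lperp_inv hν hc hu.2 _ hj, inv_one, one_mul]
  rw [e, ← pair_mul_left hν (hmem _) (hmem _), mul_inv_cancel, commutatorElement_one_left, val_one]

theorem QData.stab_lambda (h : QData φ q) (hN : NoneFixed φ) (hν : ν ∈ central (lowLay Q 1)) {w : Q}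
    {l₀ : lowLay Q 0 →* ℂˣ} (hl : ∀ j ∈ lowLay Q 1, val l₀ j = val ν j) :
    (∀ v ∈ lowLay Q 0, val l₀ (w * v * w⁻¹) = val l₀ v) ↔ w ∈ lperp hν := by
  refine forall₂_congr fun v hv => ?_
  rw [val_conj_lambda hl w hv, mul_eq_right, pair_swap ν (mem_lay1 hv w), inv_eq_one]

/-- The form of `ν` on the perpendicular elements is nondegenerate. -/
theorem QData.forms_nondeg (h : QData φ q) (hN : NoneFixed φ) (hν : ν ∈ central (lowLay Q 1))
    (hν1 : ν ≠ 1) {u : Q} (hu : u ∈ lperp hν) (hu' : u ∈ movMod φ)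
    (hzero : ∀ x ∈ lperp hν, val ν ⁅u, x⁆ = 1) : u ∈ lowLay Q 0 := by
  classical
  obtain ⟨θ, hθ, hres⟩ := exists_nonlinear_over (lowLay_le 1) hν hν1
  obtain ⟨l₀, hl₀, hl₀c⟩ := h.exists_lambda hν hres
  have hb : ∀ a ∈ movMod φ ⊓ lperp hν, ∀ b ∈ lperp hν, ⁅a, b⁆ ∈ lowLay Q 1 := fun a ha b hb =>
    h.pair_lperp hν hν1 hN ha.2 hb
  let U : Subgroup Q := leftKer hν (movMod φ ⊓ lperp hν) (lperp hν) hb
  have h0U : lowLay Q 0 ≤ U := fun j hj =>
    ⟨⟨commutator_le_movMod φ hj, lay0_le_lperp hν hj⟩, fun b hb => hb j hj⟩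
  haveI : U.Normal := normal_of_commutator_le h0U
  have hUinv : ∀ c ∈ fixer φ ν, ∀ x ∈ U, φ c x ∈ U := fun c hc x hx =>
    ⟨⟨phi_mem_movMod φ c hx.1.1, lperp_inv hν hc hx.1.2⟩, fun b hb => by
      have hb' : φ c⁻¹ b ∈ lperp hν := lperp_inv hν ((fixer φ ν).inv_mem hc) hb
      have e : b = φ c (φ c⁻¹ b) := by rw [← phi_mul_apply, mul_inv_cancel, map_one, MulAut.one_apply]
      rw [e, ← phi_bracket, hc _ (h.pair_lperp hν hν1 hN hx.1.2 hb')]
      exact hx.2 _ hb'⟩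
  have hUconj : ∀ (ρ : U →* ℂˣ), (∀ j ∈ lowLay Q 0, val ρ j = val l₀ j) → ∀ w ∈ lperp hν, ∀ x ∈ U,
      val ρ (w * x * w⁻¹) = val ρ x := fun ρ hρ w hw x hx => by
    have hm : ⁅w, x⁆ ∈ lowLay Q 1 := h.pair_lperp hν hν1 hN hw hx.1.2
    rw [apply_conj ρ (h0U (lowLay_succ_le 0 hm)) hx, hρ _ (lowLay_succ_le 0 hm), hl₀ _ hm,
      pair_swap ν (h.pair_lperp hν hν1 hN hx.1.2 hw), hx.2 w hw, inv_one, one_mul]
  -- the extension `l₀` is invariant under the perpendicular elements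
  haveI := Fintype.ofFinite (lowLay Q 0)
  haveI := Fintype.ofFinite U
  haveI := Fintype.ofFinite Q
  obtain ⟨ρ₀, hρ₀⟩ := exists_extend h0U l₀ fun a ha b hb => by
    have hm := h.pair_lperp hν hν1 hN ha.1.2 hb.1.2
    exact ⟨lowLay_succ_le 0 hm, by rw [hl₀ _ hm]; exact ha.2 b hb.1.2⟩
  refine h.le_of_unique h0U (fun a _ b _ => bracket_mem_commutator a b) l₀ ρ₀ hρ₀
    (fun c => c ∈ fixer φ ν ∧ c ≠ 1) ?_ ?_ (show u ∈ U from ⟨⟨hu', hu⟩, hzero⟩)
  · rintro c ⟨hc, hc1⟩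
    refine ⟨hUinv c hc, fun x hx => phi_mem φ c hx, hl₀c c hc, fun x hx e => ?_⟩
    refine h.delta_injective hc1 hx.1.1 ?_
    rw [← mul_inv_eq_one, ← map_inv, ← map_mul]
    exact (QuotientGroup.eq_one_iff _).2 e
  · intro ρ hρ
    obtain ⟨χ, hχ, hover⟩ := exists_over U (isIrrCharacter_of_hom ((Units.coeHom ℂ).comp ρ))
    have hρν : ∀ j ∈ lowLay Q 1, val ρ j = val ν j := fun j hj => by
      rw [hρ j (lowLay_succ_le 0 hj), hl₀ j hj]
    have hres' : ∀ j ∈ lowLay Q 1, χ j = χ 1 * (val ν j : ℂ) := fun j hj =>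
      res_of_linear hχ ((lowLay_succ_le 0).trans h0U) hν ρ hρν hover hj
    have hnl : charDegree χ ≠ 1 := fun e => by
      obtain ⟨x, hx, hne⟩ := exists_val_ne hν1
      refine hne (Units.ext (mul_left_cancel₀ (IsIrrCharacter.apply_one_ne_zero hχ) ?_))
      rw [← hres' x hx, Units.val_one, mul_one]
      exact apply_commutator_of_linear hχ e (lowLay_le 1 hx)
    obtain ⟨c, hc, hc1⟩ := h.fix ⟨χ, hχ⟩ hnl
    have hcν : c ∈ fixer φ ν := stabC_le_fixer (θ := ⟨χ, hχ⟩) hres' hc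
    refine ⟨c, ⟨hcν, hc1⟩, ?_⟩
    -- the operator moves `ρ` to a conjugate extending `l₀`
    let e : U → U := fun x => ⟨φ c x, hUinv c hcν x x.2⟩
    have he : Function.Bijective e := Finite.injective_iff_bijective.1 fun x y hxy =>
      Subtype.ext ((φ c).injective (congrArg Subtype.val hxy))
    let ρc : U →* ℂˣ := MonoidHom.mk' (fun x => ρ (e x)) fun x y => by
      rw [← map_mul]
      exact congrArg ρ (Subtype.ext (by simp [e]))
    have hover' : classInner (fun x : U => χ x) (fun x : U => (ρc x : ℂ)) ≠ 0 := by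
      have : classInner (fun x : U => χ x) (fun x : U => (ρc x : ℂ)) =
          classInner (fun x : U => χ x) (fun x : U => (ρ x : ℂ)) := by
        simp only [classInner]
        congr 1
        refine Fintype.sum_bijective e he _ _ fun x => ?_
        show χ x * _ = χ (φ c x) * _
        rw [show χ (φ c (x : Q)) = χ x from hc x]
        rfl
      rw [this]
      exact hover
    obtain ⟨w, hw⟩ := constituent_conj hχ ρ ρc hover hover'
    have hρc : ∀ x ∈ U, val ρc x = val ρ (φ c x) := fun x hx => by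
      rw [val_of_mem ρc hx, val_of_mem ρ (hUinv c hcν x hx)]
      rfl
    have hwl : w ∈ lperp hν := (h.stab_lambda hN hν hl₀).1 fun v hv => by
      rw [← hρ _ ((inferInstance : (lowLay Q 0).Normal).conj_mem v hv w), ← hw v (h0U hv), hρc v (h0U hv),
        hρ _ (phi_mem φ c hv), hl₀c c hcν v hv]
    intro x hx
    rw [← hρc x hx, hw x hx, hUconj ρ hρ w hwl x hx]

end nu

end Cfsg.Agent.NoDivDeg
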