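/-
The layers as groups; the characters that are nontrivial on the second layer.

Main results: `Lay`, `toLay`, `descend`, `layChar`, `QData.lperp_index`, `QData.exists_conj_ext`,
`QData.char_over_three`, `QData.fixer_eq_three`.
-/
import Cfsg.Agent.Lib.NoDivDeg.Layer3

set_option autoImplicit false
set_option linter.style.haveILetI false
set_option linter.unusedSectionVars false

namespace Cfsg.Agent.NoDivDeg

open Cfsg Cfsg.Agent.Char Cfsg.Agent.CharApp Cfsg.Agent.CharApp.DegreeSets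
open scoped ComplexConjugate commutatorElement

universe u v

variable {Q : Type u} [Group Q]

/-- A layer as a central subgroup of the quotient by the next one. -/
abbrev Lay (Q : Type u) [Group Q] (k : ℕ) : Type u :=
  ↥((lowLay Q k).map (QuotientGroup.mk' (lowLay Q (k + 1))))

theorem lay_central (k : ℕ) {z : Q ⧸ lowLay Q (k + 1)}
    (hz : z ∈ (lowLay Q k).map (QuotientGroup.mk' (lowLay Q (k + 1)))) (y : Q ⧸ lowLay Q (k + 1)) :
    y * z = z * y := by
  obtain ⟨x, hx, rfl⟩ := hz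
  obtain ⟨y, rfl⟩ := QuotientGroup.mk'_surjective _ y
  rw [← commutatorElement_eq_one_iff_mul_comm, ← map_commutatorElement]
  exact (QuotientGroup.eq_one_iff _).2 (bracket_mem_lowLay hx y).2

instance instCommGroupLay (k : ℕ) : CommGroup (Lay Q k) :=
  { (inferInstance : Group (Lay Q k)) with
    mul_comm := fun a b => Subtype.ext (lay_central k b.2 a) }

/-- The projection onto a layer. -/
def toLay (k : ℕ) : lowLay Q k →* Lay Q k := (QuotientGroup.mk' _).subgroupMap (lowLay Q k)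

theorem toLay_surjective (k : ℕ) : Function.Surjective (toLay (Q := Q) k) :=
  MonoidHom.subgroupMap_surjective _ _

theorem toLay_eq_one {k : ℕ} {x : lowLay Q k} : toLay k x = 1 ↔ (x : Q) ∈ lowLay Q (k + 1) :=
  Subtype.ext_iff.trans (QuotientGroup.eq_one_iff (x : Q))

theorem card_lay (k : ℕ) : Nat.card (Lay Q k) = (lowLay Q (k + 1)).relIndex (lowLay Q k) := by
  rw [Nat.card_congr (Subgroup.topEquiv (G := Lay Q k)).symm.toEquiv,
    ← MonoidHom.range_eq_top.2 (toLay_surjective k), ← Subgroup.index_ker,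
    show (toLay (Q := Q) k).ker = (lowLay Q (k + 1)).subgroupOf (lowLay Q k) from
      Subgroup.ext fun x => toLay_eq_one]
  rfl

/-- A character of a layer as an invariant character of the subgroup. -/
def layChar {k : ℕ} (l : Lay Q k →* ℂˣ) : lowLay Q k →* ℂˣ := l.comp (toLay k)

theorem layChar_central {k : ℕ} (l : Lay Q k →* ℂˣ) : layChar l ∈ central (lowLay Q k) := fun x j => by
  refine congrArg l (Subtype.ext ?_)
  show ((MulAut.conjNormal x j : lowLay Q k) : Q ⧸ lowLay Q (k + 1)) = ((j : Q) : Q ⧸ lowLay Q (k + 1))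
  rw [MulAut.conjNormal_apply, QuotientGroup.mk_mul, QuotientGroup.mk_mul, QuotientGroup.mk_inv,
    lay_central k (z := ((j : Q) : Q ⧸ lowLay Q (k + 1))) ⟨_, j.2, rfl⟩ _, mul_inv_cancel_right]

theorem layChar_ne_one {k : ℕ} {l : Lay Q k →* ℂˣ} (hl : l ≠ 1) : layChar l ≠ 1 := fun e =>
  hl (MonoidHom.ext fun z => by
    obtain ⟨x, rfl⟩ := toLay_surjective k z
    exact DFunLike.congr_fun e x)

/-- A character trivial on the next layer, on the layer. -/
noncomputable def descend {k : ℕ} (μ : lowLay Q k →* ℂˣ) (h : ∀ x ∈ lowLay Q (k + 1), val μ x = 1) :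
    Lay Q k →* ℂˣ :=
  MonoidHom.liftOfSurjective (toLay k) (toLay_surjective k) ⟨μ, fun x hx => by
    rw [MonoidHom.mem_ker, ← val_coe μ x]
    exact h _ (toLay_eq_one.1 hx)⟩

theorem descend_apply {k : ℕ} (μ : lowLay Q k →* ℂˣ) (h : ∀ x ∈ lowLay Q (k + 1), val μ x = 1)
    (x : lowLay Q k) : descend μ h (toLay k x) = μ x :=
  MonoidHom.liftOfRightInverse_comp_apply (toLay k) _ _ _ x

variable [Finite Q] {C : Type v} [CommGroup C] [Finite C] {φ : C →* MulAut Q} {q : ℕ}
  {ν : lowLay Q 1 →* ℂˣ}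

/-- The pairing against the first layer as a homomorphism. -/
noncomputable def pairHom (hν : ν ∈ central (lowLay Q 1)) : Q →* (Lay Q 0 →* ℂˣ) where
  toFun w := descend
    (MonoidHom.mk' (fun v : lowLay Q 0 => val ν ⁅(v : Q), w⁆) fun a b => by
      rw [Subgroup.coe_mul, pair_mul_left hν (mem_lay1 a.2 w) (mem_lay1 b.2 w)])
    fun x hx => by
      rw [val_of_mem _ (lowLay_succ_le 0 hx)]
      exact (val_bracket_self hν w hx).1
  map_one' := MonoidHom.ext fun z => by
    obtain ⟨x, rfl⟩ := toLay_surjective 0 z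
    rw [descend_apply]
    show val ν ⁅(x : Q), (1 : Q)⁆ = 1
    rw [commutatorElement_one_right, val_one]
  map_mul' a b := MonoidHom.ext fun z => by
    obtain ⟨x, rfl⟩ := toLay_surjective 0 z
    rw [MonoidHom.mul_apply, descend_apply, descend_apply, descend_apply]
    exact pair_mul_right hν (mem_lay1 x.2 a) (mem_lay1 x.2 b)

theorem pairHom_apply (hν : ν ∈ central (lowLay Q 1)) (w : Q) (x : lowLay Q 0) :
    pairHom hν w (toLay 0 x) = val ν ⁅(x : Q), w⁆ := by
  simp only [pairHom, MonoidHom.coe_mk, OneHom.coe_mk, descend_apply]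
  rfl

theorem pairHom_ker (hν : ν ∈ central (lowLay Q 1)) : (pairHom hν).ker = lperp hν := by
  ext w
  refine ⟨fun hw v hv => ?_, fun hw => MonoidHom.ext fun z => ?_⟩
  · rw [← pairHom_apply hν w ⟨v, hv⟩, MonoidHom.mem_ker.1 hw]
    rfl
  · obtain ⟨x, rfl⟩ := toLay_surjective 0 z
    rw [pairHom_apply]
    exact hw _ x.2

theorem QData.pairHom_surjective (h : QData φ q) (hN : NoneFixed φ) (hν : ν ∈ central (lowLay Q 1))
    (hν1 : ν ≠ 1) : (pairHom hν).range = ⊤ := by
  haveI : Finite (Lay Q 0 →* ℂˣ) := inferInstance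
  refine Subgroup.eq_top_of_le_card _ ?_
  rw [card_dual]
  let ψ : Lay Q 0 →* ((pairHom hν).range →* ℂˣ) :=
    { toFun := fun v => MonoidHom.mk' (fun r => (r : Lay Q 0 →* ℂˣ) v) fun _ _ => rfl
      map_one' := MonoidHom.ext fun r => map_one (r : Lay Q 0 →* ℂˣ)
      map_mul' := fun a b => MonoidHom.ext fun r => map_mul (r : Lay Q 0 →* ℂˣ) a b }
  have hψ : Function.Injective ψ := (injective_iff_map_eq_one ψ).2 fun z hz => by
    obtain ⟨x, rfl⟩ := toLay_surjective 0 z
    refine toLay_eq_one.2 (h.left_radical hN hν hν1 x.2 fun w => ?_)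
    rw [← pairHom_apply hν w x]
    exact DFunLike.congr_fun hz ⟨_, w, rfl⟩
  exact (Nat.card_le_card_of_injective ψ hψ).trans_eq (card_dual _)

theorem QData.lperp_index (h : QData φ q) (hN : NoneFixed φ) (hν : ν ∈ central (lowLay Q 1))
    (hν1 : ν ≠ 1) : (lperp hν).index = Nat.card (Lay Q 0) := by
  rw [← pairHom_ker hν, Subgroup.index_ker, h.pairHom_surjective hN hν hν1, Subgroup.card_top, card_dual]

/-- The extensions to the derived subgroup are conjugate. -/
theorem QData.exists_conj_ext (h : QData φ q) (hN : NoneFixed φ) (hν : ν ∈ central (lowLay Q 1))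
    (hν1 : ν ≠ 1) {l l₀ : lowLay Q 0 →* ℂˣ} (hl : ∀ j ∈ lowLay Q 1, val l j = val ν j)
    (hl₀ : ∀ j ∈ lowLay Q 1, val l₀ j = val ν j) :
    ∃ w : Q, ∀ v ∈ lowLay Q 0, val l (w * v * w⁻¹) = val l₀ v := by
  have htriv : ∀ x ∈ lowLay Q 1, val (l * l₀⁻¹) x = 1 := fun x hx => by
    rw [val_of_mem _ (lowLay_succ_le 0 hx), MonoidHom.mul_apply, MonoidHom.inv_apply, ← val_of_mem l,
      ← val_of_mem l₀, hl x hx, hl₀ x hx, mul_inv_cancel]
  obtain ⟨w, hw⟩ : descend _ htriv ∈ (pairHom hν).range :=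
    h.pairHom_surjective hN hν hν1 ▸ Subgroup.mem_top _
  refine ⟨w, fun v hv => ?_⟩
  have h1 := DFunLike.congr_fun hw (toLay 0 ⟨v, hv⟩)
  rw [pairHom_apply, descend_apply, MonoidHom.mul_apply, MonoidHom.inv_apply, ← val_of_mem l hv,
    ← val_of_mem l₀ hv] at h1
  rw [val_conj_lambda hl w hv, pair_swap ν (mem_lay1 hv w), h1, mul_inv_rev, inv_inv,
    inv_mul_cancel_right]

theorem QData.char_over_three (h : QData φ q) (hN : NoneFixed φ) (hν : ν ∈ central (lowLay Q 1))
    (hν1 : ν ≠ 1) {θ : IrrCharacter Q}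
    (hres : ∀ j ∈ lowLay Q 1, (θ : Q → ℂ) j = (θ : Q → ℂ) 1 * (val ν j : ℂ)) :
    charDegree (θ : Q → ℂ) ≠ 1 ∧
      charDegree (θ : Q → ℂ) ^ 2 = Nat.card (Lay Q 0) * (fixMod φ).index ∧
      stabC φ (θ : Q → ℂ) = fixer φ ν := by
  classical
  haveI := Fintype.ofFinite Q
  haveI := Fintype.ofFinite (fixMod φ)
  haveI := Fintype.ofFinite (lowLay Q 0)
  have hnl : charDegree (θ : Q → ℂ) ≠ 1 := fun e => by
    obtain ⟨x, hx, hne⟩ := exists_val_ne hν1
    refine hne (Units.ext (mul_left_cancel₀ (IsIrrCharacter.apply_one_ne_zero θ.2) ?_))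
    rw [← hres x hx, Units.val_one, mul_one]
    exact apply_commutator_of_linear θ.2 e (lowLay_le 1 hx)
  have hvan : ∀ x ∉ fixMod φ, (θ : Q → ℂ) x = 0 := fun x hx => h.apply_eq_zero hnl hx
  have h1M : lowLay Q 1 ≤ fixMod φ := (lowLay_le 1).trans (commutator_le_fixMod φ)
  obtain ⟨τ, hτ⟩ := exists_linear_constituent θ.2 ν (H := fixMod φ)
    (fun a ha b hb => ⟨(h.bracket_fix_lay hN ha b).1, h.fix_fix hν hN ha hb⟩) hres
  have hτν : ∀ j ∈ lowLay Q 1, val τ j = val ν j := fun j hj => by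
    rw [val_of_mem τ (h1M hj)]
    exact constituent_val θ.2 hν hres h1M τ hτ hj
  have hconj : ∀ w : Q, ∀ x ∈ fixMod φ, val τ (w * x * w⁻¹) = val ν ⁅w, x⁆ * val τ x := fun w x hx => by
    have hm := (h.bracket_fix_lay hN hx w).2
    rw [apply_conj τ (h1M hm) hx, hτν _ hm]
  have hin : inertia (fixMod φ) (fun x : fixMod φ => (τ x : ℂ)) = lperp hν := by
    ext w
    rw [mem_inertia_iff]
    constructor
    · intro hw v hv
      have h2 := hconj w v (commutator_le_fixMod φ hv)
      have h3 : val τ (w * v * w⁻¹) = val τ v := by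
        rw [val_of_mem τ (commutator_le_fixMod φ hv),
          val_of_mem τ ((fixMod_normal φ).conj_mem v (commutator_le_fixMod φ hv) w)]
        exact Units.ext (hw ⟨v, commutator_le_fixMod φ hv⟩)
      rw [h3, right_eq_mul] at h2
      rw [pair_swap ν (bracket_mem_lowLay hv w).2, h2, inv_one]
    · intro hw n
      refine congrArg Units.val ?_
      have h3 := hconj w n n.2
      rw [h.pair_lperp_fix hν hν1 hN hw n.2, one_mul, val_coe] at h3
      rwa [val_of_mem τ ((fixMod_normal φ).conj_mem n n.2 w)] at h3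
  refine ⟨hnl, ?_, le_antisymm (stabC_le_fixer hres) fun d hd => ?_⟩
  · rw [deg_sq_of_vanish θ.2 hvan τ hτ, hin, h.lperp_index hN hν hν1]
  -- a conjugate constituent restricting to the fixed extension
  obtain ⟨l₀, hl₀, hl₀c⟩ := h.exists_lambda hν hres
  let l : lowLay Q 0 →* ℂˣ := τ.comp (Subgroup.inclusion (commutator_le_fixMod φ))
  have hl : ∀ v ∈ lowLay Q 0, val l v = val τ v := fun v hv => by
    rw [val_of_mem l hv, val_of_mem τ (commutator_le_fixMod φ hv)]
    rfl
  obtain ⟨w, hw⟩ := h.exists_conj_ext hN hν hν1 (l := l) (l₀ := l₀)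
    (fun j hj => (hl j (lowLay_succ_le 0 hj)).trans (hτν j hj)) hl₀
  let τ' : fixMod φ →* ℂˣ := τ.comp (MulAut.conjNormal w).toMonoidHom
  have hτ'v : ∀ x ∈ fixMod φ, val τ' x = val τ (w * x * w⁻¹) := fun x hx => by
    rw [val_of_mem τ' hx, val_of_mem τ ((fixMod_normal φ).conj_mem x hx w)]
    exact congrArg τ (Subtype.ext (by simp))
  have hτ'l : ∀ v ∈ lowLay Q 0, val τ' v = val l₀ v := fun v hv => by
    rw [hτ'v v (commutator_le_fixMod φ hv), ← hl _ ((inferInstance : (lowLay Q 0).Normal).conj_mem v hv w),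
      hw v hv]
  have hτ' : classInner (fun x : fixMod φ => (θ : Q → ℂ) x) (fun x : fixMod φ => (τ' x : ℂ)) ≠ 0 := by
    have : classInner (fun x : fixMod φ => (θ : Q → ℂ) x) (fun x : fixMod φ => (τ' x : ℂ)) =
        classInner (fun x : fixMod φ => (θ : Q → ℂ) x) (fun x : fixMod φ => (τ x : ℂ)) := by
      simp only [classInner]
      congr 1
      refine Fintype.sum_bijective (MulAut.conjNormal w) (MulEquiv.bijective _) _ _ fun x => ?_
      rw [MulAut.conjNormal_apply, IsIrrCharacter.isClassFunction θ.2 (x : Q) w]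
      rfl
    rw [this]
    exact hτ
  have hj : ∀ x ∈ fixMod φ, φ d x * x⁻¹ ∈ lowLay Q 0 := fun x hx => by
    refine (QuotientGroup.eq_one_iff _).1 ?_
    show Abelianization.of (φ d x * x⁻¹) = 1
    rw [map_mul, map_inv, hx d, mul_inv_cancel]
  have hsplit : ∀ z ∈ lowLay Q 0, ∀ x ∈ fixMod φ, val τ' (z * x) = val l₀ z * val τ' x := fun z hz x hx => by
    rw [val_mul τ' (commutator_le_fixMod φ hz) hx, hτ'l z hz]
  have hτd : ∀ x ∈ fixMod φ, val τ' (φ d x) = val τ' x := fun x hx => by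
    refine h.val_fix τ' d (fun x hx => phi_mem_fixMod φ d hx) (fun y hy => ?_) hx
    have e1 : val τ' (φ d y) = val l₀ (φ d y * y⁻¹) * val τ' y := by
      rw [← hsplit _ (hj y hy) y hy, inv_mul_cancel_right]
    have e2 : val τ' (φ d (φ d y)) = val l₀ (φ d y * y⁻¹) * val τ' (φ d y) := by
      have e : φ d (φ d y) = φ d (φ d y * y⁻¹) * φ d y := by rw [← map_mul, inv_mul_cancel_right]
      rw [e, hsplit _ (phi_mem φ d (hj y hy)) _ (phi_mem_fixMod φ d hy), hl₀c d hd _ (hj y hy)]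
    rw [e2, e1]
    ac_rfl
  have hirr : IsIrrCharacter Q (fun x => (θ : Q → ℂ) (φ d x)) := IsIrrCharacter.comp_equiv θ.2 (φ d)
  have hτ'' : classInner (fun x : fixMod φ => (θ : Q → ℂ) (φ d (x : Q))) (fun x : fixMod φ => (τ' x : ℂ)) ≠ 0 := by
    let e : fixMod φ → fixMod φ := fun x => ⟨φ d x, phi_mem_fixMod φ d x.2⟩
    have he : Function.Bijective e := Finite.injective_iff_bijective.1 fun x y hxy =>
      Subtype.ext ((φ d).injective (congrArg Subtype.val hxy))
    have : classInner (fun x : fixMod φ => (θ : Q → ℂ) (φ d (x : Q))) (fun x : fixMod φ => (τ' x : ℂ)) =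
        classInner (fun x : fixMod φ => (θ : Q → ℂ) x) (fun x : fixMod φ => (τ' x : ℂ)) := by
      simp only [classInner]
      congr 1
      refine Fintype.sum_bijective e he _ _ fun x => ?_
      have := hτd x x.2
      rw [val_of_mem τ' (phi_mem_fixMod φ d x.2), val_coe] at this
      simp only [e, this]
    rw [this]
    exact hτ'
  exact fun x => (congrFun (eq_of_common θ.2 hirr hvan τ' hτ' hτ'') x).symm

theorem QData.fixer_eq_three (h : QData φ q) (hN : NoneFixed φ) {μ : lowLay Q 1 →* ℂˣ}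
    (hμ : μ ∈ central (lowLay Q 1)) (hν : ν ∈ central (lowLay Q 1)) (hμ1 : μ ≠ 1) (hν1 : ν ≠ 1) :
    fixer φ μ = fixer φ ν := by
  refine QData.fixer_eq_of_le (φ := φ) _ (fun a b ha hb ha1 hb1 hab => ?_) hμ hν hμ1 hν1
  obtain ⟨θ, hθ, hres⟩ := exists_nonlinear_over (lowLay_le 1) ha ha1
  obtain ⟨θ', hθ', hres'⟩ := exists_nonlinear_over (lowLay_le 1) hb hb1
  obtain ⟨-, hd, hs⟩ := h.char_over_three hN ha ha1 hres
  obtain ⟨-, hd', hs'⟩ := h.char_over_three hN hb hb1 hres'
  have hdd : charDegree (θ : Q → ℂ) = charDegree (θ' : Q → ℂ) :=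
    Nat.pow_left_injective two_ne_zero (hd.trans hd'.symm)
  have := h.anti θ' θ hθ' hθ (by
    rw [hs, hs', hdd]; exact mul_dvd_mul_right (Subgroup.index_dvd_of_le hab) _)
  rw [hs, hs', hdd] at this
  exact eq_of_le_of_index_dvd hab (Nat.eq_of_mul_eq_mul_right (TwoClassChar.deg_pos θ'.2) this).symm

end Cfsg.Agent.NoDivDeg
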