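/-
The brackets between the top layers form the combinatorial structure `Layers3`.

Main results: `MW`, `mk_mov`, `bW`, `cW`, `omW`, `QData.layers3`.
-/
import Cfsg.Agent.Lib.NoDivDeg.Three

set_option autoImplicit false
set_option linter.style.haveILetI false
set_option linter.unusedSectionVars false

namespace Cfsg.Agent.NoDivDeg

open Cfsg Cfsg.Agent.Char Cfsg.Agent.CharApp Cfsg.Agent.CharApp.DegreeSets
open scoped ComplexConjugate commutatorElement

universe u v

theorem bracket_left_of_central {G : Type*} [Group G] {a a' b : G} (h : ∀ y, y * ⁅a', b⁆ = ⁅a', b⁆ * y) :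
    ⁅a * a', b⁆ = ⁅a, b⁆ * ⁅a', b⁆ := by
  rw [show ⁅a * a', b⁆ = a * ⁅a', b⁆ * a⁻¹ * ⁅a, b⁆ by simp only [commutatorElement_def]; group,
    h a, mul_inv_cancel_right, ← h ⁅a, b⁆]

theorem bracket_right_of_central {G : Type*} [Group G] {a b b' : G} (h : ∀ y, y * ⁅a, b'⁆ = ⁅a, b'⁆ * y) :
    ⁅a, b * b'⁆ = ⁅a, b⁆ * ⁅a, b'⁆ := by
  rw [show ⁅a, b * b'⁆ = ⁅a, b⁆ * (b * ⁅a, b'⁆ * b⁻¹) by simp only [commutatorElement_def]; group,
    h b, mul_inv_cancel_right]

variable {Q : Type u} [Group Q]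

/-- A bracket in a layer. -/
def layBr (k : ℕ) (a b : Q) (h : ⁅a, b⁆ ∈ lowLay Q k) : Lay Q k := toLay k ⟨⁅a, b⁆, h⟩

theorem layBr_central {k : ℕ} {a b : Q} (h : ⁅a, b⁆ ∈ lowLay Q k) (y : Q ⧸ lowLay Q (k + 1)) :
    y * ⁅((a : Q) : Q ⧸ lowLay Q (k + 1)), ((b : Q) : Q ⧸ lowLay Q (k + 1))⁆ =
      ⁅((a : Q) : Q ⧸ lowLay Q (k + 1)), ((b : Q) : Q ⧸ lowLay Q (k + 1))⁆ * y :=
  lay_central k ⟨_, h, map_commutatorElement (QuotientGroup.mk' (lowLay Q (k + 1))) a b⟩ y

theorem layBr_coe {k : ℕ} {a b : Q} (h : ⁅a, b⁆ ∈ lowLay Q k) :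
    ((layBr k a b h : Lay Q k) : Q ⧸ lowLay Q (k + 1)) =
      ⁅((a : Q) : Q ⧸ lowLay Q (k + 1)), ((b : Q) : Q ⧸ lowLay Q (k + 1))⁆ :=
  map_commutatorElement (QuotientGroup.mk' (lowLay Q (k + 1))) a b

theorem layBr_mul_left {k : ℕ} {a a' b : Q} (h : ⁅a, b⁆ ∈ lowLay Q k) (h' : ⁅a', b⁆ ∈ lowLay Q k)
    (h'' : ⁅a * a', b⁆ ∈ lowLay Q k) : layBr k (a * a') b h'' = layBr k a b h * layBr k a' b h' :=
  Subtype.ext (by
    rw [Subgroup.coe_mul, layBr_coe, layBr_coe, layBr_coe, QuotientGroup.mk_mul]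
    exact bracket_left_of_central (layBr_central h'))

theorem layBr_mul_right {k : ℕ} {a b b' : Q} (h : ⁅a, b⁆ ∈ lowLay Q k) (h' : ⁅a, b'⁆ ∈ lowLay Q k)
    (h'' : ⁅a, b * b'⁆ ∈ lowLay Q k) : layBr k a (b * b') h'' = layBr k a b h * layBr k a b' h' :=
  Subtype.ext (by
    rw [Subgroup.coe_mul, layBr_coe, layBr_coe, layBr_coe, QuotientGroup.mk_mul]
    exact bracket_right_of_central (layBr_central h'))

theorem layBr_congr_left {k : ℕ} {a a' b : Q} (h : ⁅a, b⁆ ∈ lowLay Q k) (h' : ⁅a', b⁆ ∈ lowLay Q k)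
    (hz : ⁅a⁻¹ * a', b⁆ ∈ lowLay Q (k + 1)) : layBr k a' b h' = layBr k a b h := by
  have e := layBr_mul_left (a := a) (a' := a⁻¹ * a') h (lowLay_succ_le k hz)
    (by rwa [mul_inv_cancel_left])
  have e' : ∀ (c : Q) (hc : ⁅c, b⁆ ∈ lowLay Q k), c = a' → layBr k c b hc = layBr k a' b h' := by
    intro c hc hca; subst hca; rfl
  rw [e' _ _ (mul_inv_cancel_left a a'), show layBr k (a⁻¹ * a') b (lowLay_succ_le k hz) = 1 from
    toLay_eq_one.2 hz, mul_one] at e
  exact e

theorem layBr_congr_right {k : ℕ} {a b b' : Q} (h : ⁅a, b⁆ ∈ lowLay Q k) (h' : ⁅a, b'⁆ ∈ lowLay Q k)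
    (hz : ⁅a, b⁻¹ * b'⁆ ∈ lowLay Q (k + 1)) : layBr k a b' h' = layBr k a b h := by
  have e := layBr_mul_right (b := b) (b' := b⁻¹ * b') h (lowLay_succ_le k hz)
    (by rwa [mul_inv_cancel_left])
  have e' : ∀ (c : Q) (hc : ⁅a, c⁆ ∈ lowLay Q k), c = b' → layBr k a c hc = layBr k a b' h' := by
    intro c hc hcb; subst hcb; rfl
  rw [e' _ _ (mul_inv_cancel_left b b'), show layBr k a (b⁻¹ * b') (lowLay_succ_le k hz) = 1 from
    toLay_eq_one.2 hz, mul_one] at e
  exact e

theorem bracket_lay0_lay0 {a b : Q} (ha : a ∈ lowLay Q 0) (hb : b ∈ lowLay Q 0) :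
    ⁅a, b⁆ ∈ lowLay Q 2 :=
  commutator_lowLay_le 0 (Subgroup.commutator_mem_commutator ha hb)

variable [Finite Q] {C : Type v} [CommGroup C] [Finite C] (φ : C →* MulAut Q)

/-- The moved part of the abelianization. -/
abbrev MW : Type u := movMod φ ⧸ (lowLay Q 0).subgroupOf (movMod φ)

noncomputable instance instCommGroupMW : CommGroup (MW φ) :=
  { (inferInstance : Group (MW φ)) with
    mul_comm := fun u v => by
      induction u using QuotientGroup.induction_on with
      | H a => induction v using QuotientGroup.induction_on with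
        | H b =>
          rw [← QuotientGroup.mk_mul, ← QuotientGroup.mk_mul, QuotientGroup.eq, Subgroup.mem_subgroupOf]
          simpa [commutatorElement_def, mul_assoc] using bracket_mem_commutator (b : Q)⁻¹ (a : Q)⁻¹ }

/-- A representative. -/
noncomputable def repW (x : MW φ) : Q := ((Quotient.out x : movMod φ) : Q)

theorem repW_mem (x : MW φ) : repW φ x ∈ movMod φ := (Quotient.out x).2

theorem repW_congr (a : movMod φ) : (a : Q)⁻¹ * repW φ (a : MW φ) ∈ lowLay Q 0 := by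
  have h : ((a : movMod φ) : MW φ) = ((Quotient.out (a : MW φ) : movMod φ) : MW φ) :=
    (QuotientGroup.out_eq' _).symm
  exact Subgroup.mem_subgroupOf.1 (QuotientGroup.eq.1 h)

/-- A representative of the first layer. -/
noncomputable def repV (x : Lay Q 0) : lowLay Q 0 := Function.surjInv (toLay_surjective 0) x

theorem repV_congr (a : lowLay Q 0) : (a : Q)⁻¹ * repV (toLay 0 a) ∈ lowLay Q 1 := by
  have h : toLay 0 (repV (toLay 0 a)) = toLay 0 a := Function.surjInv_eq _ _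
  exact toLay_eq_one (x := a⁻¹ * repV (toLay 0 a)).1 (by rw [map_mul, map_inv, h, inv_mul_cancel])

/-- The bracket `W × W → V`. -/
noncomputable def bW (x y : MW φ) : Lay Q 0 :=
  layBr 0 (repW φ x) (repW φ y) (bracket_mem_commutator _ _)

/-- The bracket `V × W → V'`. -/
noncomputable def cW (v : Lay Q 0) (y : MW φ) : Lay Q 1 :=
  layBr 1 (repV v : Q) (repW φ y) (mem_lay1 (repV v).2 _)

/-- The forms. -/
noncomputable def omW (ν : Lay Q 1 →* ℂˣ) (x y : MW φ) : ℂˣ :=
  val (layChar ν) ⁅repW φ x, repW φ y⁆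

theorem bW_mk (a b : movMod φ) :
    bW φ (a : MW φ) (b : MW φ) = layBr 0 (a : Q) (b : Q) (bracket_mem_commutator _ _) :=
  (layBr_congr_left (a := (a : Q)) (bracket_mem_commutator _ _) _
    (bracket_mem_lowLay (repW_congr φ a) _).1).trans
    (layBr_congr_right (bracket_mem_commutator _ _) _ (bracket_mem_lowLay (repW_congr φ b) _).2)

theorem cW_mk (v : lowLay Q 0) (b : movMod φ) :
    cW φ (toLay 0 v) (b : MW φ) = layBr 1 (v : Q) (b : Q) (mem_lay1 v.2 _) :=
  (layBr_congr_left (a := (v : Q)) (mem_lay1 v.2 _) _ (bracket_mem_lowLay (repV_congr v) _).1).trans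
    (layBr_congr_right (mem_lay1 v.2 _) _ (bracket_lay0_lay0 v.2 (repW_congr φ b)))

theorem apply_cW (ν : Lay Q 1 →* ℂˣ) (v : lowLay Q 0) (b : movMod φ) :
    ν (cW φ (toLay 0 v) (b : MW φ)) = val (layChar ν) ⁅(v : Q), (b : Q)⁆ := by
  rw [cW_mk, val_of_mem (layChar ν) (mem_lay1 v.2 (b : Q))]
  rfl

variable {φ} {q : ℕ}

theorem lperp_of_perp (h : QData φ q) (hN : NoneFixed φ) {ν : Lay Q 1 →* ℂˣ} {x : MW φ}
    (hx : ∀ v, ν (cW φ v x) = 1) : repW φ x ∈ lperp (layChar_central ν) := fun v hv => by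
  have h1 := apply_cW φ ν ⟨v, hv⟩ (Quotient.out x)
  rw [QuotientGroup.out_eq', hx] at h1
  exact h1.symm

theorem perp_of_lperp {ν : Lay Q 1 →* ℂˣ} {a : movMod φ} (ha : (a : Q) ∈ lperp (layChar_central ν))
    (v : Lay Q 0) : ν (cW φ v (a : MW φ)) = 1 := by
  obtain ⟨v, rfl⟩ := toLay_surjective 0 v
  rw [apply_cW]
  exact ha _ v.2

theorem QData.layers3 (h : QData φ q) (hN : NoneFixed φ) [Nontrivial (Lay Q 0)] :
    Layers3 q (bW φ) (cW φ) (omW φ) := by
  obtain ⟨μ₁, hμ₁⟩ : ∃ μ : Lay Q 0 →* ℂˣ, μ ≠ 1 := by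
    obtain ⟨v, hv⟩ := exists_ne (1 : Lay Q 0)
    obtain ⟨l, hl⟩ := exists_dual_ne hv
    exact ⟨l, fun e => hl (by rw [e]; rfl)⟩
  refine
    { prime := h.prime
      expW := fun x => ?_
      expV := fun x => ?_
      nontriv := inferInstance
      b_left := fun x x' y => ?_
      b_right := fun x y y' => ?_
      b_self := fun x => ?_
      nd := fun μ hμ x hx => ?_
      c_left := fun v v' y => ?_
      c_right := fun v y y' => ?_
      lr := fun ν hν v hv => ?_
      jac := fun ν x y z => ?_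
      om_nu := fun ν ν' x y => ?_
      om_self := fun ν x => ?_
      om_right := fun ν x y y' hx hy hy' => ?_
      om_nd := fun ν hν x hx hp => ?_ }
  · obtain ⟨a, rfl⟩ := QuotientGroup.mk_surjective x
    rw [← QuotientGroup.mk_pow, QuotientGroup.eq_one_iff, Subgroup.mem_subgroupOf]
    exact h.pow_mem_commutator (layChar_central μ₁) (layChar_ne_one hμ₁) a.2
  · by_contra hne
    obtain ⟨l, hl⟩ := exists_dual_ne hne
    obtain ⟨a, rfl⟩ := toLay_surjective 0 x
    refine hl ?_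
    have e := DFunLike.congr_fun (h.pow_eq_one (layChar_central l)) a
    rw [map_pow]
    exact e
  · obtain ⟨a, rfl⟩ := QuotientGroup.mk_surjective x
    obtain ⟨a', rfl⟩ := QuotientGroup.mk_surjective x'
    obtain ⟨b, rfl⟩ := QuotientGroup.mk_surjective y
    rw [← QuotientGroup.mk_mul, bW_mk, bW_mk, bW_mk]
    exact layBr_mul_left _ _ _
  · obtain ⟨a, rfl⟩ := QuotientGroup.mk_surjective x
    obtain ⟨b, rfl⟩ := QuotientGroup.mk_surjective y
    obtain ⟨b', rfl⟩ := QuotientGroup.mk_surjective y'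
    rw [← QuotientGroup.mk_mul, bW_mk, bW_mk, bW_mk]
    exact layBr_mul_right _ _ _
  · obtain ⟨a, rfl⟩ := QuotientGroup.mk_surjective x
    rw [bW_mk]
    refine toLay_eq_one.2 ?_
    show ⁅(a : Q), (a : Q)⁆ ∈ _
    rw [commutatorElement_self]
    exact one_mem _
  · by_contra hall
    push Not at hall
    obtain ⟨a, rfl⟩ := QuotientGroup.mk_surjective x
    refine hx ((QuotientGroup.eq_one_iff a).2 (Subgroup.mem_subgroupOf.2 ?_))
    refine h.rad2_mov (layChar_central μ) (layChar_ne_one hμ) ((mem_rad2 _).2 fun t => ?_) a.2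
    obtain ⟨w, hw, m, hm, rfl⟩ := h.exists_decomp t
    have h1 := hall (⟨w, hw⟩ : movMod φ)
    rw [bW_mk] at h1
    rw [pair_mul_right (layChar_central μ) (bracket_mem_commutator _ _) (bracket_mem_commutator _ _),
      h.pair_mov_fix (layChar_central μ) a.2 hm, mul_one, val_of_mem _ (bracket_mem_commutator (a : Q) w)]
    exact h1
  · obtain ⟨v, rfl⟩ := toLay_surjective 0 v
    obtain ⟨v', rfl⟩ := toLay_surjective 0 v'
    obtain ⟨b, rfl⟩ := QuotientGroup.mk_surjective y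
    rw [← map_mul, cW_mk, cW_mk, cW_mk]
    exact layBr_mul_left _ _ _
  · obtain ⟨v, rfl⟩ := toLay_surjective 0 v
    obtain ⟨b, rfl⟩ := QuotientGroup.mk_surjective y
    obtain ⟨b', rfl⟩ := QuotientGroup.mk_surjective y'
    rw [← QuotientGroup.mk_mul, cW_mk, cW_mk, cW_mk]
    exact layBr_mul_right _ _ _
  · by_contra hall
    push Not at hall
    obtain ⟨v, rfl⟩ := toLay_surjective 0 v
    refine hv (toLay_eq_one.2 (h.left_radical hN (layChar_central ν) (layChar_ne_one hν) v.2 fun t => ?_))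
    obtain ⟨w, hw, m, hm, rfl⟩ := h.exists_decomp t
    have h1 := hall (⟨w, hw⟩ : movMod φ)
    rw [apply_cW] at h1
    rw [pair_mul_right (layChar_central ν) (mem_lay1 v.2 w) (mem_lay1 v.2 m),
      h.pair_fix hN (layChar_central ν) v.2 hm, mul_one]
    exact h1
  · obtain ⟨a, rfl⟩ := QuotientGroup.mk_surjective x
    obtain ⟨b, rfl⟩ := QuotientGroup.mk_surjective y
    obtain ⟨d, rfl⟩ := QuotientGroup.mk_surjective z
    rw [bW_mk, bW_mk, bW_mk]
    simp only [layBr, apply_cW]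
    set μ := layChar ν
    have hμ : μ ∈ central (lowLay Q 1) := layChar_central ν
    have hk : ∀ (p g k : Q), k ∈ lowLay Q 0 → ⁅p, ⁅g, k⁆⁆ ∈ lowLay Q 1 ∧ val μ ⁅p, ⁅g, k⁆⁆ = 1 := by
      intro p g k hk
      have h1 := (bracket_mem_lowLay hk g).2
      exact ⟨(bracket_mem_lowLay (lowLay_succ_le 0 h1) p).2, (val_bracket_self hμ p h1).2⟩
    have hj := jacobi hμ (x := (a : Q)) (y := (b : Q)) (z := (d : Q))
      (bracket_mem_lowLay (bracket_mem_commutator _ _) _).2
      (bracket_mem_lowLay (bracket_mem_commutator _ _) _).2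
      (fun g => hk _ g _ (bracket_mem_commutator _ _))
      (bracket_mem_lowLay (bracket_mem_commutator _ _) _).2
      (fun g => hk _ g _ (bracket_mem_commutator _ _))
    rw [pair_swap μ (mem_lay1 (bracket_mem_commutator (a : Q) b) d),
      pair_swap μ (mem_lay1 (bracket_mem_commutator (d : Q) a) b),
      pair_swap μ (mem_lay1 (bracket_mem_commutator (b : Q) d) a), ← mul_inv, ← mul_inv, inv_eq_one] at hj
    rw [mul_right_comm]
    exact hj
  · show val (layChar (ν * ν')) _ = val (layChar ν) _ * val (layChar ν') _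
    by_cases hm : ⁅repW φ x, repW φ y⁆ ∈ lowLay Q 1
    · rw [val_of_mem _ hm, val_of_mem _ hm, val_of_mem _ hm]; rfl
    · simp only [val, dif_neg hm, mul_one]
  · show val (layChar ν) _ = 1
    rw [commutatorElement_self, val_one]
  · by_cases hν : ν = 1
    · have e : ∀ g, val (layChar ν) g = 1 := fun g => by
        by_cases hm : g ∈ lowLay Q 1
        · rw [val_of_mem _ hm, hν]; rfl
        · simp only [val, dif_neg hm]
      simp only [omW, e, mul_one]
    set μ := layChar ν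
    have hμ : μ ∈ central (lowLay Q 1) := layChar_central ν
    have hμ1 : μ ≠ 1 := layChar_ne_one hν
    have hX := lperp_of_perp h hN hx
    have hY := lperp_of_perp h hN hy
    have hY' := lperp_of_perp h hN hy'
    have hd' := repW_congr φ (Quotient.out y * Quotient.out y')
    rw [QuotientGroup.mk_mul, QuotientGroup.out_eq', QuotientGroup.out_eq'] at hd'
    have hd : (repW φ y * repW φ y')⁻¹ * repW φ (y * y') ∈ lowLay Q 0 := hd'
    show val μ ⁅repW φ x, repW φ (y * y')⁆ = val μ ⁅repW φ x, repW φ y⁆ * val μ ⁅repW φ x, repW φ y'⁆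
    rw [← pair_mul_right hμ (h.pair_lperp hμ hμ1 hN hX hY) (h.pair_lperp hμ hμ1 hN hX hY')]
    conv_lhs => rw [← mul_inv_cancel_left (repW φ y * repW φ y') (repW φ (y * y'))]
    rw [pair_mul_right hμ (h.pair_lperp hμ hμ1 hN hX ((lperp hμ).mul_mem hY hY'))
      (bracket_mem_lowLay hd (repW φ x)).2, pair_swap μ (mem_lay1 hd (repW φ x))]
    rw [hX _ hd, inv_one, mul_one]
  · by_contra hall
    push Not at hall
    set μ := layChar ν
    have hμ : μ ∈ central (lowLay Q 1) := layChar_central ν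
    have hμ1 : μ ≠ 1 := layChar_ne_one hν
    have hX := lperp_of_perp h hN hp
    obtain ⟨a, rfl⟩ := QuotientGroup.mk_surjective x
    refine hx ((QuotientGroup.eq_one_iff a).2 (Subgroup.mem_subgroupOf.2 ?_))
    have hA : repW φ (a : MW φ) ∈ lowLay Q 0 := by
      refine h.forms_nondeg hN hμ hμ1 hX (repW_mem φ _) fun t ht => ?_
      obtain ⟨w, hw, m, hm, rfl⟩ := h.exists_decomp t
      have hw' : w ∈ lperp hμ := by
        rw [← mul_inv_cancel_right w m]
        exact (lperp hμ).mul_mem ht ((lperp hμ).inv_mem (h.fix_le_lperp hN hμ hm))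
      have hm' := h.fix_le_lperp hN hμ hm
      rw [pair_mul_right hμ (h.pair_lperp hμ hμ1 hN hX hw') (h.pair_lperp hμ hμ1 hN hX hm'),
        h.pair_lperp_fix hμ hμ1 hN hX hm, mul_one]
      have hd := repW_congr φ (⟨w, hw⟩ : movMod φ)
      have h1 : val μ ⁅repW φ (a : MW φ), repW φ ((⟨w, hw⟩ : movMod φ) : MW φ)⁆ = 1 :=
        hall _ (perp_of_lperp hw')
      generalize repW φ ((⟨w, hw⟩ : movMod φ) : MW φ) = r at h1 hd
      rw [← mul_inv_cancel_left w r, pair_mul_right hμ (h.pair_lperp hμ hμ1 hN hX hw')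
        (bracket_mem_lowLay (a := w⁻¹ * r) hd _).2, pair_swap μ (mem_lay1 (v := w⁻¹ * r) hd _), hX _ hd, inv_one, mul_one] at h1
      exact h1
    have hd := repW_congr φ a
    have := (lowLay Q 0).mul_mem hA ((lowLay Q 0).inv_mem hd)
    simpa using this

end Cfsg.Agent.NoDivDeg
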