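/-
There is no fourth layer when no invariant character of the derived subgroup is fixed.

Main results: `lperpNext`, `QData.exists_outside`, `QData.left_radical_next`, `QData.rad_next`,
`QData.lowLay_two_eq_bot`.
-/
import Cfsg.Agent.Lib.NoDivDeg.Instance

set_option autoImplicit false
set_option linter.style.haveILetI false
set_option linter.unusedSectionVars false

namespace Cfsg.Agent.NoDivDeg

open Cfsg Cfsg.Agent.Char Cfsg.Agent.CharApp Cfsg.Agent.CharApp.DegreeSets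
open scoped ComplexConjugate commutatorElement

universe u v

variable {Q : Type u} [Group Q] [Finite Q] {C : Type v} [CommGroup C] [Finite C]
  {φ : C →* MulAut Q} {q : ℕ} {η : lowLay Q 2 →* ℂˣ}

theorem mem_lay2 {v : Q} (hv : v ∈ lowLay Q 1) (w : Q) : ⁅v, w⁆ ∈ lowLay Q 2 :=
  (bracket_mem_lowLay hv w).1

theorem bracket_lay1_lay0 {v d : Q} (hv : v ∈ lowLay Q 1) (hd : d ∈ lowLay Q 0) :
    ⁅v, d⁆ ∈ lowLay Q 3 ∧ ⁅d, v⁆ ∈ lowLay Q 3 := by
  have : ⁅d, v⁆ ∈ lowLay Q 3 :=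
    commutator_lowLay_le 1 (Subgroup.commutator_mem_commutator hd hv)
  exact ⟨bracket_swap_mem this, this⟩

theorem QData.bracket_fix_next (h : QData φ q) (hN : NoneFixed φ) {v m : Q} (hv : v ∈ lowLay Q 1)
    (hm : m ∈ fixMod φ) : ⁅v, m⁆ ∈ lowLay Q 3 := by
  have h1 : ⁅(⊤ : Subgroup Q), fixMod φ⁆ ≤ lowLay Q 1 :=
    Subgroup.commutator_le.2 fun a _ b hb => (h.bracket_fix_lay hN hb a).2
  have h2 : ⁅fixMod φ, lowLay Q 0⁆ ≤ lowLay Q 2 := Subgroup.commutator_le.2 fun a ha b hb =>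
    bracket_swap_mem (h.bracket_fix_mem hN hb ha)
  have h3 : ⁅⁅lowLay Q 0, (⊤ : Subgroup Q)⁆, fixMod φ⁆ ≤ lowLay Q 3 := by
    refine three_subgroup ((Subgroup.commutator_mono h1 le_rfl).trans ?_)
      (Subgroup.commutator_mono h2 le_rfl)
    exact Subgroup.commutator_le.2 fun a ha b hb => (bracket_lay1_lay0 ha hb).1
  exact h3 (Subgroup.commutator_mem_commutator hv hm)

/-- The operator fixes every invariant character of the second layer. -/
def FixesThree (φ : C →* MulAut Q) (c : C) : Prop :=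
  ∀ μ : lowLay Q 1 →* ℂˣ, μ ∈ central (lowLay Q 1) → c ∈ fixer φ μ

theorem QData.fixesThree_of_fixer (h : QData φ q) (hN : NoneFixed φ) {μ : lowLay Q 1 →* ℂˣ}
    (hμ : μ ∈ central (lowLay Q 1)) (hμ1 : μ ≠ 1) {c : C} (hc : c ∈ fixer φ μ) : FixesThree φ c := by
  intro ν hν
  by_cases hν1 : ν = 1
  · intro x hx
    rw [hν1, val_of_mem _ hx, val_of_mem _ (phi_mem φ c hx)]; rfl
  exact h.fixer_eq_three hN hμ hν hμ1 hν1 ▸ hc

theorem FixesThree.delta_mem {c : C} (hc : FixesThree φ c) {v : Q} (hv : v ∈ lowLay Q 1) :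
    φ c v * v⁻¹ ∈ lowLay Q 2 :=
  separation (J := lowLay Q 1) (fun j hj w => (bracket_mem_lowLay hj w).1)
    ((lowLay Q 1).mul_mem (phi_mem φ c hv) (Subgroup.inv_mem _ hv)) fun μ hμ _ => by
      rw [val_mul μ (phi_mem φ c hv) (Subgroup.inv_mem _ hv), val_inv μ hv, hc μ hμ v hv, mul_inv_cancel]

/-- An operator fixing no invariant character of a layer has no fixed points on it. -/
theorem QData.fpf_gen (h : QData φ q) (k : ℕ) {c : C}
    (hc : ∀ μ : lowLay Q k →* ℂˣ, μ ∈ central (lowLay Q k) → μ ≠ 1 → c ∉ fixer φ μ) {v : Q}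
    (hv : v ∈ lowLay Q k) (he : φ c v * v⁻¹ ∈ lowLay Q (k + 1)) : v ∈ lowLay Q (k + 1) := by
  refine separation (J := lowLay Q k) (fun j hj w => (bracket_mem_lowLay hj w).1) hv fun μ hμ htriv => ?_
  let nrm : central (lowLay Q k) := ∏ i ∈ Finset.range (Nat.card C), cAct φ (lowLay Q k) (c ^ i) ⟨μ, hμ⟩
  have hval : ∀ x ∈ lowLay Q k, val (nrm : lowLay Q k →* ℂˣ) x =
      ∏ i ∈ Finset.range (Nat.card C), val μ (φ (c ^ i)⁻¹ x) := by
    intro x hx
    simp only [nrm, Subgroup.val_finsetProd]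
    rw [val_of_mem _ hx, MonoidHom.finsetProd_apply]
    exact Finset.prod_congr rfl fun i _ => by rw [← val_of_mem _ hx, val_cAct φ _ (c ^ i) ⟨μ, hμ⟩ hx]
  have hfix : c ∈ fixer φ (nrm : lowLay Q k →* ℂˣ) := by
    rw [← inv_mem_iff]
    intro x hx
    rw [hval _ (phi_mem φ c⁻¹ hx), hval x hx]
    refine mul_right_cancel (b := val μ (φ (c ^ 0)⁻¹ x)) ?_
    rw [Finset.prod_congr rfl fun i _ => show val μ (φ (c ^ i)⁻¹ (φ c⁻¹ x)) = val μ (φ (c ^ (i + 1))⁻¹ x) by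
        rw [← phi_mul_apply, pow_succ', mul_inv_rev],
      ← Finset.prod_range_succ' (fun i => val μ (φ (c ^ i)⁻¹ x)) (Nat.card C), Finset.prod_range_succ,
      pow_card_eq_one', pow_zero]
  have h1 : (nrm : lowLay Q k →* ℂˣ) = 1 := by
    by_contra hne
    exact hc _ nrm.2 hne hfix
  have h2 := hval v hv
  rw [h1, val_of_mem _ hv, MonoidHom.one_apply] at h2
  have hpt : ∀ i : ℕ, val μ (φ (c ^ i) v) = val μ v := by
    intro i
    induction i with
    | zero => rw [pow_zero, map_one, MulAut.one_apply]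
    | succ i ih =>
      have e : φ (c ^ (i + 1)) v = φ (c ^ i) (φ c v * v⁻¹) * φ (c ^ i) v := by
        rw [← map_mul, inv_mul_cancel_right, pow_succ, phi_mul_apply]
      rw [e, val_mul μ (lowLay_succ_le k (phi_mem φ _ he)) (phi_mem φ _ hv),
        htriv _ (phi_mem φ _ he) (lowLay_succ_le k (phi_mem φ _ he)), one_mul, ih]
  have hinv : ∀ i : ℕ, val μ (φ (c ^ i)⁻¹ v) = val μ v := fun i => by
    obtain ⟨j, hj⟩ : (c ^ i)⁻¹ ∈ Submonoid.powers c := by
      rw [mem_powers_iff_mem_zpowers]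
      exact inv_mem (Subgroup.npow_mem_zpowers c i)
    change c ^ j = _ at hj
    rw [← hj]
    exact hpt j
  rw [Finset.prod_congr rfl fun i _ => hinv i, Finset.prod_const, Finset.card_range] at h2
  exact h.units_eq_one μ (val_of_mem μ hv) h2.symm

theorem val_eq_one_lay3 (hη : η ∈ central (lowLay Q 2)) {x : Q} (hx : x ∈ lowLay Q 3) : val η x = 1 :=
  val_next_layer hη hx

/-- The elements killed against the second layer. -/
def lperpNext (hη : η ∈ central (lowLay Q 2)) : Subgroup Q where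
  carrier := {w | ∀ v ∈ lowLay Q 1, val η ⁅v, w⁆ = 1}
  one_mem' := fun v _ => by rw [commutatorElement_one_right, val_one]
  mul_mem' := fun {a b} ha hb v hv => by
    rw [pair_mul_right hη (mem_lay2 hv a) (mem_lay2 hv b), ha v hv, hb v hv, one_mul]
  inv_mem' := fun {a} ha v hv => by rw [(pair_inv_right hη (mem_lay2 hv a)).2, ha v hv, inv_one]

theorem lay0_le_lperpNext (hη : η ∈ central (lowLay Q 2)) : lowLay Q 0 ≤ lperpNext hη :=
  fun _ hd _ hv => val_eq_one_lay3 hη (bracket_lay1_lay0 hv hd).1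

theorem QData.fix_le_lperpNext (h : QData φ q) (hN : NoneFixed φ) (hη : η ∈ central (lowLay Q 2)) :
    fixMod φ ≤ lperpNext hη := fun _ hm _ hv => val_eq_one_lay3 hη (h.bracket_fix_next hN hv hm)

theorem lperpNext_inv (hη : η ∈ central (lowLay Q 2)) {c : C} (hc : c ∈ fixer φ η) {x : Q}
    (hx : x ∈ lperpNext hη) : φ c x ∈ lperpNext hη := fun v hv => by
  obtain ⟨v, rfl⟩ := (φ c).surjective v
  have hv' : v ∈ lowLay Q 1 := by
    have := phi_mem φ c⁻¹ hv
    rwa [← phi_mul_apply, inv_mul_cancel, map_one, MulAut.one_apply] at this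
  rw [← phi_bracket, hc _ (mem_lay2 hv' x)]
  exact hx v hv'

theorem QData.exists_pair_ne (h : QData φ q) (hη : η ∈ central (lowLay Q 2)) (hη1 : η ≠ 1) :
    ∃ v ∈ lowLay Q 1, ∃ w, val η ⁅v, w⁆ ≠ 1 := by
  by_contra hall
  push Not at hall
  exact hη1 (eq_one_of_val fun x hx => val_eq_one_of_bracket hall hx)

theorem QData.not_fixesThree (h : QData φ q) (hN : NoneFixed φ) (hη : η ∈ central (lowLay Q 2))
    (hη1 : η ≠ 1) {c : C} (hc : c ∈ fixer φ η) (hc1 : c ≠ 1) : ¬ FixesThree φ c := by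
  intro hF
  obtain ⟨v, hv, b, hb⟩ := h.exists_pair_ne hη hη1
  refine hb ?_
  obtain ⟨w, hw, m, hm, rfl⟩ := h.exists_decomp b
  rw [pair_mul_right hη (mem_lay2 hv w) (mem_lay2 hv m), h.fix_le_lperpNext hN hη hm v hv, mul_one]
  obtain ⟨u, hu, hd⟩ := h.exists_delta hc1 hw
  rw [← mul_inv_cancel_left (φ c u * u⁻¹) w, pair_mul_right hη (mem_lay2 hv _) (mem_lay2 hv _),
    lay0_le_lperpNext hη hd v hv, mul_one, pair_mul_right hη (mem_lay2 hv _) (mem_lay2 hv _)]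
  have e : val η ⁅v, φ c u⁆ = val η ⁅v, u⁆ := by
    rw [← hc _ (mem_lay2 hv u), phi_bracket]
    have e3 := pair_mem_left hη (hF.delta_mem hv) (mem_lay2 hv (φ c u))
    rw [inv_mul_cancel_right] at e3
    exact e3.symm
  rw [e, ← pair_mul_right hη (mem_lay2 hv _) (mem_lay2 hv _), mul_inv_cancel,
    commutatorElement_one_right, val_one]

theorem res_nonlinear {J : Subgroup Q} (hJ : J ≤ commutator Q) {ν : J →* ℂˣ} (hν1 : ν ≠ 1)
    {χ : Q → ℂ} (hχ : IsIrrCharacter Q χ) (hres : ∀ j ∈ J, χ j = χ 1 * (val ν j : ℂ)) :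
    charDegree χ ≠ 1 := fun e => by
  obtain ⟨x, hx, hne⟩ := exists_val_ne hν1
  refine hne (Units.ext (mul_left_cancel₀ (IsIrrCharacter.apply_one_ne_zero hχ) ?_))
  rw [← hres x hx, Units.val_one, mul_one]
  exact apply_commutator_of_linear hχ e (hJ hx)

/-- The degree over a character of the third layer exceeds the root of the moved part. -/
theorem QData.index_lt_sq (h : QData φ q) (hη : η ∈ central (lowLay Q 2)) (hη1 : η ≠ 1)
    {θ : IrrCharacter Q} (hres : ∀ j ∈ lowLay Q 2, (θ : Q → ℂ) j = (θ : Q → ℂ) 1 * (val η j : ℂ)) :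
    (fixMod φ).index < charDegree (θ : Q → ℂ) ^ 2 := by
  classical
  haveI := Fintype.ofFinite Q
  haveI := Fintype.ofFinite (fixMod φ)
  have hnl := res_nonlinear (lowLay_le 2) hη1 θ.2 hres
  obtain ⟨κ, hκ⟩ := exists_constituent (IsCharacter.restrict (IsIrrCharacter.isCharacter θ.2) (fixMod φ))
    (by rw [OneMemClass.coe_one]; exact IsIrrCharacter.apply_one_ne_zero θ.2)
  obtain ⟨e, he, hin, hdeg, hself⟩ := degree_over (fixMod φ) θ.2 κ.2 hκ
  set n := (inertia (fixMod φ) (κ : fixMod φ → ℂ)).index with hn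
  have hnpos : 0 < n := Nat.pos_of_ne_zero Subgroup.index_ne_zero_of_finite
  have hd : 0 < charDegree (κ : fixMod φ → ℂ) := TwoClassChar.deg_pos κ.2
  have h1 : (Nat.card (fixMod φ) : ℂ) * classInner (fun x : fixMod φ => (θ : Q → ℂ) x)
      (fun x : fixMod φ => (θ : Q → ℂ) x) = (Nat.card Q : ℂ) := by
    rw [Char.card_mul_classInner, ← FullyRamified.sum_self θ.2,
      FullyRamified.sum_eq_sum_of_support (fixMod φ) (fun x => (θ : Q → ℂ) x * conj ((θ : Q → ℂ) x))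
        (fun x hx => by rw [h.apply_eq_zero hnl hx, zero_mul])]
  rw [hself, ← (fixMod φ).card_mul_index] at h1
  push_cast at h1
  have h3 : e ^ 2 * n = (fixMod φ).index := by
    exact_mod_cast mul_left_cancel₀ (Nat.cast_ne_zero.2 (Nat.card_pos (α := fixMod φ)).ne') h1
  set d := charDegree (κ : fixMod φ → ℂ)
  have hlt : 1 < n * d ^ 2 := by
    by_contra hle
    have hn1 : n = 1 := by
      have : n ≤ n * d ^ 2 := Nat.le_mul_of_pos_right n (pow_pos hd 2)
      omega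
    have hd1 : d = 1 := by
      rw [hn1, one_mul] at hle
      by_contra hne
      exact hle (Nat.one_lt_pow two_ne_zero (by omega))
    obtain ⟨v, hv, w, hw⟩ := h.exists_pair_ne hη hη1
    have hz : (θ : Q → ℂ) v = 0 := eq_zero_of_pair θ.2 hη hres (bracket_swap_mem (mem_lay2 hv w))
      (by rw [pair_swap η (mem_lay2 hv w)]; simpa using hw)
    have hres' := restrict_invariant (fixMod φ) θ.2 κ.2 hκ fun x =>
      ((Subgroup.eq_top_iff' _).1 (Subgroup.index_eq_one.1 hn1) x :)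
    have h4 := congrFun hres' ⟨v, commutator_le_fixMod φ (lowLay_le 1 hv)⟩
    simp only [Pi.smul_apply, smul_eq_mul] at h4
    rw [hz] at h4
    obtain ⟨l, hl⟩ := exists_hom_of_degree_one (IsIrrCharacter.isCharacter κ.2)
      (by rw [apply_one κ.2, show charDegree (κ : fixMod φ → ℂ) = 1 from hd1, Nat.cast_one])
    refine mul_ne_zero hκ ?_ h4.symm
    rw [← hl]
    exact (IsUnit.map l (Group.isUnit _)).ne_zero
  calc (fixMod φ).index = e ^ 2 * n * 1 := by rw [mul_one, h3]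
    _ < e ^ 2 * n * (n * d ^ 2) := Nat.mul_lt_mul_of_pos_left hlt (Nat.mul_pos (pow_pos he 2) hnpos)
    _ = charDegree (θ : Q → ℂ) ^ 2 := by rw [hdeg]; ring

/-- Some operator in the stabilizer moves the first layer. -/
theorem QData.exists_outside (h : QData φ q) (hN : NoneFixed φ) {μ : lowLay Q 0 →* ℂˣ}
    (hμ : μ ∈ central (lowLay Q 0)) (hμ1 : μ ≠ 1) (hη : η ∈ central (lowLay Q 2)) (hη1 : η ≠ 1)
    {θ : IrrCharacter Q} (hres : ∀ j ∈ lowLay Q 2, (θ : Q → ℂ) j = (θ : Q → ℂ) 1 * (val η j : ℂ)) :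
    ∃ c ∈ stabC φ (θ : Q → ℂ), ¬ FixesLayer φ c := by
  by_contra hall
  push Not at hall
  obtain ⟨θ₂, hθ₂, hres₂⟩ := exists_nonlinear_over le_rfl hμ hμ1
  obtain ⟨-, -, hs₂⟩ := h.char_over hμ hθ₂ hres₂
  obtain ⟨-, hd₂⟩ := h.deg_sq_of_moved hμ (hN μ hμ hμ1) hθ₂ hres₂
  have hlt := h.index_lt_sq hη hη1 hres
  rw [← hd₂] at hlt
  have hlt' := lt_of_pow_lt_pow_left₀ 2 (Nat.zero_le _) hlt
  obtain ⟨a, ha⟩ := h.exists_pow θ
  obtain ⟨b, hb⟩ := h.exists_pow θ₂
  rw [ha, hb] at hlt'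
  have hdvd : charDegree (θ₂ : Q → ℂ) ∣ charDegree (θ : Q → ℂ) := by
    rw [ha, hb]
    exact pow_dvd_pow q ((Nat.pow_lt_pow_iff_right h.prime.one_lt).1 hlt').le
  have hle : stabC φ (θ : Q → ℂ) ≤ fixer φ μ := fun c hc => hall c hc μ hμ
  have hi := Subgroup.index_dvd_of_le hle
  have := h.anti θ₂ θ hθ₂ (res_nonlinear (lowLay_le 2) hη1 θ.2 hres) (by
    rw [hs₂]; exact mul_dvd_mul hi hdvd)
  rw [hs₂, ha, hb] at this
  exact absurd this (ne_of_lt (Nat.mul_lt_mul_of_le_of_lt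
    (Nat.le_of_dvd (Nat.pos_of_ne_zero Subgroup.index_ne_zero_of_finite) hi) hlt'
    (Nat.pos_of_ne_zero Subgroup.index_ne_zero_of_finite)))

/-- The pairing of the second layer against `η` has trivial left radical. -/
theorem QData.left_radical_next (h : QData φ q) (hN : NoneFixed φ) (hη : η ∈ central (lowLay Q 2))
    (hη1 : η ≠ 1) {v : Q} (hv : v ∈ lowLay Q 1) (hzero : ∀ w, val η ⁅v, w⁆ = 1) : v ∈ lowLay Q 2 := by
  classical
  let R : Subgroup Q := leftKer hη (lowLay Q 1) ⊤ fun a ha b _ => mem_lay2 ha b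
  have h2R : lowLay Q 2 ≤ R := fun j hj => ⟨lowLay_succ_le 1 hj, fun b _ => (val_bracket_self hη b hj).1⟩
  haveI : R.Normal := ⟨fun r hr g => by
    rw [show g * r * g⁻¹ = ⁅g, r⁆ * r by rw [commutatorElement_def]; group]
    exact R.mul_mem (h2R (bracket_mem_lowLay hr.1 g).2) hr⟩
  obtain ⟨ρ₀, hρ₀⟩ := exists_extend h2R η fun a ha b _ => ⟨mem_lay2 ha.1 b, ha.2 b (Subgroup.mem_top b)⟩
  refine h.le_of_unique h2R (fun a ha b _ => mem_lay2 ha.1 b) η ρ₀ hρ₀
    (fun c => c ∈ fixer φ η ∧ c ≠ 1) ?_ ?_ (show v ∈ R from ⟨hv, fun b _ => hzero b⟩)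
  · rintro c ⟨hc, hc1⟩
    refine ⟨fun x hx => ⟨phi_mem φ c hx.1, fun b _ => ?_⟩, fun x hx => phi_mem φ c hx, hc,
      fun x hx => h.fpf_gen 1 (fun μ hμ hμ1 hcμ =>
        h.not_fixesThree hN hη hη1 hc hc1 (h.fixesThree_of_fixer hN hμ hμ1 hcμ)) hx.1⟩
    obtain ⟨b, rfl⟩ := (φ c).surjective b
    rw [← phi_bracket, hc _ (mem_lay2 hx.1 b)]
    exact hx.2 b (Subgroup.mem_top b)
  · intro ρ hρ
    have hρc : ρ ∈ central R := fun g r => by
      rw [← val_coe ρ, ← val_coe ρ r, MulAut.conjNormal_apply,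
        apply_conj ρ (h2R (bracket_mem_lowLay r.2.1 g).2) r.2, hρ _ (bracket_mem_lowLay r.2.1 g).2,
        pair_swap η (mem_lay2 r.2.1 g), r.2.2 g (Subgroup.mem_top g), inv_one, one_mul]
    obtain ⟨x, hx, hne⟩ := exists_val_ne hη1
    have hρ1 : ρ ≠ 1 := fun e => hne (by rw [← hρ x hx, e, val_of_mem _ (h2R hx)]; rfl)
    obtain ⟨θ', hθ', hres'⟩ := exists_nonlinear_over (fun y (hy : y ∈ R) => lowLay_le 1 hy.1) hρc hρ1
    obtain ⟨c, hc, hc1⟩ := h.fix θ' hθ'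
    have hcν : c ∈ fixer φ η := stabC_le_fixer (θ := θ') (ν := η)
      (fun j hj => by rw [hres' j (h2R hj), hρ j hj]) hc
    refine ⟨c, ⟨hcν, hc1⟩, fun y hy => Units.ext (mul_left_cancel₀ (IsIrrCharacter.apply_one_ne_zero θ'.2) ?_)⟩
    have hcy : φ c y ∈ R := ⟨phi_mem φ c hy.1, fun b _ => by
      obtain ⟨b, rfl⟩ := (φ c).surjective b
      rw [← phi_bracket, hcν _ (mem_lay2 hy.1 b)]
      exact hy.2 b (Subgroup.mem_top b)⟩
    rw [← hres' _ hcy, ← hres' y hy]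
    exact hc y

/-- The Hall–Witt identity one layer further down. -/
theorem jacobi_next (hη : η ∈ central (lowLay Q 2)) {v : Q} (hv : v ∈ lowLay Q 0) (x y : Q) :
    val η ⁅⁅v, x⁆, y⁆ = val η ⁅⁅v, y⁆, x⁆ * val η ⁅v, ⁅x, y⁆⁆ := by
  have hk : ∀ (p g k : Q), k ∈ lowLay Q 1 → ⁅p, ⁅g, k⁆⁆ ∈ lowLay Q 2 ∧ val η ⁅p, ⁅g, k⁆⁆ = 1 := by
    intro p g k hk
    have h1 := (bracket_mem_lowLay hk g).2
    exact ⟨(bracket_mem_lowLay (lowLay_succ_le 1 h1) p).2, (val_bracket_self hη p h1).2⟩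
  have hk' : ∀ g : Q, ⁅v⁻¹, ⁅g, ⁅y, x⁆⁆⁆ ∈ lowLay Q 2 ∧ val η ⁅v⁻¹, ⁅g, ⁅y, x⁆⁆⁆ = 1 := fun g => by
    have h1 := (bracket_lay1_lay0 (bracket_mem_lowLay (bracket_mem_commutator y x) g).2
      ((lowLay Q 0).inv_mem hv)).2
    exact ⟨lowLay_succ_le 2 h1, val_eq_one_lay3 hη h1⟩
  have e := jacobi hη (x := v) (y := x) (z := y)
    (bracket_mem_lowLay (mem_lay1 hv x) y).2
    (bracket_mem_lowLay (bracket_mem_lowLay hv y).2 x).2
    (fun g => hk x g _ (bracket_mem_lowLay hv y).2)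
    (bracket_lay0_lay0 hv (bracket_mem_commutator x y)) hk'
  rw [pair_swap η (mem_lay2 (mem_lay1 hv x) y),
    pair_swap η (mem_lay2 (bracket_mem_lowLay hv y).2 x), ← commutatorElement_inv v y,
    (pair_inv_left hη (mem_lay2 (mem_lay1 hv y) x)).2, inv_inv] at e
  rw [mul_assoc, inv_mul_eq_one] at e
  exact e

/-- A form that does not vanish on the derived subgroup is nondegenerate there. -/
theorem QData.rad_next (h : QData φ q) (hN : NoneFixed φ) {μ : lowLay Q 0 →* ℂˣ}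
    (hμ : μ ∈ central (lowLay Q 0)) (hμ1 : μ ≠ 1) (hη : η ∈ central (lowLay Q 2)) (hη1 : η ≠ 1)
    (hfix : fixer φ μ ≤ fixer φ η) {r₀ : Q} (hr₀ : r₀ ∈ lowLay Q 0)
    (hzero : ∀ v ∈ lowLay Q 0, val η ⁅v, r₀⁆ = 1) : r₀ ∈ lowLay Q 1 := by
  classical
  have hbr : ∀ a ∈ lowLay Q 0, ∀ b ∈ lowLay Q 0, ⁅a, b⁆ ∈ lowLay Q 2 := fun a ha b hb =>
    bracket_lay0_lay0 ha hb
  let R : Subgroup Q := leftKer hη (lowLay Q 0) (lowLay Q 0) hbr
  have h1R : lowLay Q 1 ≤ R := fun j hj =>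
    ⟨lowLay_succ_le 0 hj, fun b hb => val_eq_one_lay3 hη (bracket_lay1_lay0 hj hb).1⟩
  haveI : R.Normal := ⟨fun r hr g => by
    rw [show g * r * g⁻¹ = ⁅g, r⁆ * r by rw [commutatorElement_def]; group]
    exact R.mul_mem (h1R (bracket_mem_lowLay hr.1 g).2) hr⟩
  have hRinv : ∀ c ∈ fixer φ η, ∀ x ∈ R, φ c x ∈ R := fun c hc x hx =>
    ⟨phi_mem φ c hx.1, fun b hb => by
      have hb' : φ c⁻¹ b ∈ lowLay Q 0 := phi_mem φ c⁻¹ hb
      have e : b = φ c (φ c⁻¹ b) := by rw [← phi_mul_apply, mul_inv_cancel, map_one, MulAut.one_apply]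
      rw [e, ← phi_bracket, hc _ (hbr _ hx.1 _ hb')]
      exact hx.2 _ hb'⟩
  obtain ⟨θ, hθ, hres⟩ := exists_nonlinear_over (lowLay_le 2) hη hη1
  obtain ⟨g₀, hg₀, hg₀F⟩ := h.exists_outside hN hμ hμ1 hη hη1 hres
  have hg₀η : g₀ ∈ fixer φ η := stabC_le_fixer hres hg₀
  -- brackets with the perpendicular of the second layer
  have hmemT : ∀ r ∈ R, ∀ w ∈ lperpNext hη, ⁅r, w⁆ ∈ lowLay Q 2 := fun r hr w hw => by
    refine h.left_radical_next hN hη hη1 (mem_lay1 hr.1 w) fun x => ?_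
    rw [jacobi_next hη hr.1 w x, hr.2 _ (bracket_mem_commutator w x), mul_one]
    have := hw _ (mem_lay1 hr.1 x)
    exact this
  have hfixM : ∀ r ∈ R, ∀ m ∈ fixMod φ, val η ⁅r, m⁆ = 1 := by
    intro r hr m hm
    obtain ⟨u, hu, hd⟩ := exists_delta_mod (φ := φ) (c := g₀) (H := R) (J := lowLay Q 1)
      (hRinv g₀ hg₀η) (fun x hx => phi_mem φ g₀ hx) (fun x hx => h.fpf_lay hN hg₀F hx.1) (r := r) hr
    have hmem : ∀ x ∈ lowLay Q 0, ⁅x, m⁆ ∈ lowLay Q 2 := fun x hx => h.bracket_fix_mem hN hx hm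
    have hu' : φ g₀ u ∈ lowLay Q 0 := phi_mem φ g₀ hu.1
    rw [← mul_inv_cancel_left (φ g₀ u * u⁻¹) r,
      pair_mul_left hη (hmem _ ((lowLay Q 0).mul_mem hu' ((lowLay Q 0).inv_mem hu.1)))
        (hmem _ (lowLay_succ_le 0 hd)),
      h.fix_le_lperpNext hN hη hm _ hd, mul_one,
      pair_mul_left hη (hmem _ hu') (hmem _ ((lowLay Q 0).inv_mem hu.1))]
    have e : val η ⁅φ g₀ u, m⁆ = val η ⁅u, m⁆ := by
      rw [← hg₀η _ (hmem u hu.1), phi_bracket]
      have hj : φ g₀ m * m⁻¹ ∈ lowLay Q 0 := by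
        refine (QuotientGroup.eq_one_iff _).1 ?_
        show Abelianization.of (φ g₀ m * m⁻¹) = 1
        rw [map_mul, map_inv, hm g₀, mul_inv_cancel]
      conv_rhs => rw [← inv_mul_cancel_right (φ g₀ m) m]
      rw [pair_mul_right hη (hbr _ hu' _ hj) (hmem _ hu'),
        (hRinv g₀ hg₀η u hu).2 _ hj, one_mul]
    rw [e, ← pair_mul_left hη (hmem _ hu.1) (hmem _ ((lowLay Q 0).inv_mem hu.1)), mul_inv_cancel,
      commutatorElement_one_left, val_one]
  obtain ⟨d₂, hd₂, hd₂1⟩ := h.exists_mem_fixer le_rfl hμ hμ1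
  have hd₂F : FixesLayer φ d₂ := h.fixesLayer_of_fixer hN hμ hμ1 hd₂
  have hperp : ∀ r ∈ R, ∀ w ∈ lperpNext hη, val η ⁅r, w⁆ = 1 := by
    intro r hr w hw
    obtain ⟨w', hw', m, hm, rfl⟩ := h.exists_decomp w
    have hw'' : w' ∈ lperpNext hη := by
      rw [← mul_inv_cancel_right w' m]
      exact (lperpNext hη).mul_mem hw ((lperpNext hη).inv_mem (h.fix_le_lperpNext hN hη hm))
    rw [pair_mul_right hη (hmemT r hr w' hw'') (h.bracket_fix_mem hN hr.1 hm), hfixM r hr m hm, mul_one]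
    obtain ⟨u, hu, hd⟩ := exists_delta_mod (φ := φ) (c := d₂) (H := movMod φ ⊓ lperpNext hη)
      (J := lowLay Q 0)
      (fun x hx => ⟨phi_mem_movMod φ d₂ hx.1, lperpNext_inv hη (hfix hd₂) hx.2⟩)
      (fun x hx => phi_mem φ d₂ hx)
      (fun x hx e => h.delta_injective hd₂1 hx.1 (by
        rw [← mul_inv_eq_one, ← map_inv, ← map_mul]
        exact (QuotientGroup.eq_one_iff _).2 e)) (r := w') ⟨hw', hw''⟩
    have hu2 : φ d₂ u ∈ lperpNext hη := lperpNext_inv hη (hfix hd₂) hu.2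
    rw [← mul_inv_cancel_left (φ d₂ u * u⁻¹) w',
      pair_mul_right hη (hmemT r hr _ ((lperpNext hη).mul_mem hu2 ((lperpNext hη).inv_mem hu.2)))
        (hbr _ hr.1 _ hd),
      hr.2 _ hd, mul_one,
      pair_mul_right hη (hmemT r hr _ hu2) (hmemT r hr _ ((lperpNext hη).inv_mem hu.2))]
    have e : val η ⁅r, φ d₂ u⁆ = val η ⁅r, u⁆ := by
      rw [← hfix hd₂ _ (hmemT r hr u hu.2), phi_bracket]
      have hdr : φ d₂ r * r⁻¹ ∈ lowLay Q 1 := hd₂F.delta_mem hr.1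
      conv_rhs => rw [← inv_mul_cancel_right (φ d₂ r) r]
      rw [pair_mul_left hη (mem_lay2 hdr _) (hmemT r hr _ hu2), hu2 _ hdr, one_mul]
    rw [e, ← pair_mul_right hη (hmemT r hr _ hu.2) (hmemT r hr _ ((lperpNext hη).inv_mem hu.2)),
      mul_inv_cancel, commutatorElement_one_right, val_one]
  -- the fixed extension to the second layer and its extensions
  haveI := Fintype.ofFinite (lowLay Q 1)
  have hlay1 : ∀ a ∈ lowLay Q 1, ∀ b ∈ lowLay Q 1, ⁅a, b⁆ ∈ lowLay Q 2 ∧ val η ⁅a, b⁆ = 1 :=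
    fun a ha b hb => ⟨mem_lay2 ha b, val_eq_one_lay3 hη (bracket_lay1_lay0 ha (lowLay_succ_le 0 hb)).1⟩
  obtain ⟨τ, hτ⟩ := exists_extend (lowLay_succ_le 1) η hlay1
  obtain ⟨l₁, hl₁, hl₁c⟩ := h.exists_fixed_ext (lowLay_succ_le 1) η τ
    (fun j hj => by rw [← val_of_mem τ (lowLay_succ_le 1 hj)]; exact hτ j hj) (fixer φ η)
    (fun c _ x hx => phi_mem φ c hx) fun c hc j hj => ⟨phi_mem φ c hj, hc j hj⟩
  have hl₁' : ∀ j ∈ lowLay Q 2, val l₁ j = val η j := fun j hj => by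
    rw [val_of_mem l₁ (lowLay_succ_le 1 hj), hl₁ j hj]
  obtain ⟨ρ₀, hρ₀⟩ := exists_extend h1R l₁ fun a ha b hb => by
    have hm := hbr a ha.1 b hb.1
    exact ⟨lowLay_succ_le 1 hm, by rw [hl₁' _ hm]; exact ha.2 b hb.1⟩
  refine h.le_of_unique h1R (fun a ha b _ => mem_lay1 ha.1 b) l₁ ρ₀ hρ₀
    (fun c => c ∈ fixer φ η ∧ ¬ FixesLayer φ c) ?_ ?_
    (show r₀ ∈ R from ⟨hr₀, fun b hb => by rw [pair_swap η (hbr b hb r₀ hr₀), hzero b hb, inv_one]⟩)
  · rintro c ⟨hc, hcF⟩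
    exact ⟨hRinv c hc, fun x hx => phi_mem φ c hx, hl₁c c hc, fun x hx => h.fpf_lay hN hcF hx.1⟩
  · intro ρ hρ
    haveI := Fintype.ofFinite Q
    haveI := Fintype.ofFinite R
    obtain ⟨χ, hχ, hover⟩ := exists_over R (isIrrCharacter_of_hom ((Units.coeHom ℂ).comp ρ))
    have hρη : ∀ j ∈ lowLay Q 2, val ρ j = val η j := fun j hj => by
      rw [hρ j (lowLay_succ_le 1 hj), hl₁' j hj]
    have hres' : ∀ j ∈ lowLay Q 2, χ j = χ 1 * (val η j : ℂ) := fun j hj =>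
      res_of_linear hχ ((lowLay_succ_le 1).trans h1R) hη ρ hρη hover hj
    obtain ⟨c, hc, hcF⟩ := h.exists_outside hN hμ hμ1 hη hη1 (θ := ⟨χ, hχ⟩) hres'
    have hcη : c ∈ fixer φ η := stabC_le_fixer (θ := ⟨χ, hχ⟩) hres' hc
    refine ⟨c, ⟨hcη, hcF⟩, ?_⟩
    -- the operator moves `ρ` to a conjugate extending the same character
    let e : R → R := fun x => ⟨φ c x, hRinv c hcη x x.2⟩
    have he : Function.Bijective e := Finite.injective_iff_bijective.1 fun x y hxy =>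
      Subtype.ext ((φ c).injective (congrArg Subtype.val hxy))
    let ρc : R →* ℂˣ := MonoidHom.mk' (fun x => ρ (e x)) fun x y => by
      rw [← map_mul]
      exact congrArg ρ (Subtype.ext (by simp [e]))
    have hover' : classInner (fun x : R => χ x) (fun x : R => (ρc x : ℂ)) ≠ 0 := by
      have : classInner (fun x : R => χ x) (fun x : R => (ρc x : ℂ)) =
          classInner (fun x : R => χ x) (fun x : R => (ρ x : ℂ)) := by
        simp only [classInner]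
        congr 1
        refine Fintype.sum_bijective e he _ _ fun x => ?_
        show χ x * _ = χ (φ c x) * _
        rw [show χ (φ c (x : Q)) = χ x from hc x]
        rfl
      rw [this]
      exact hover
    obtain ⟨w, hw⟩ := constituent_conj hχ ρ ρc hover hover'
    have hρc : ∀ x ∈ R, val ρc x = val ρ (φ c x) := fun x hx => by
      rw [val_of_mem ρc hx, val_of_mem ρ (hRinv c hcη x hx)]
      rfl
    have hwT : w ∈ lperpNext hη := fun v hv => by
      have h1 : val ρ (w * v * w⁻¹) = val ρ v := by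
        rw [← hw v (h1R hv), hρc v (h1R hv), hρ _ (phi_mem φ c hv), hl₁c c hcη v hv, hρ v hv]
      have hm : ⁅w, v⁆ ∈ lowLay Q 2 := (bracket_mem_lowLay hv w).2
      rw [apply_conj ρ (h1R (lowLay_succ_le 1 hm)) (h1R hv), mul_eq_right, hρη _ hm] at h1
      rw [pair_swap η hm, h1, inv_one]
    intro x hx
    rw [← hρc x hx, hw x hx]
    have hm : ⁅w, x⁆ ∈ lowLay Q 2 := bracket_swap_mem (hmemT x hx w hwT)
    rw [apply_conj ρ (h1R (lowLay_succ_le 1 hm)) hx, hρη _ hm,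
      pair_swap η (hmemT x hx w hwT), hperp x hx w hwT, inv_one, one_mul]

/-- The map from the moved part to the characters of the second layer. -/
noncomputable def pairNext (hη : η ∈ central (lowLay Q 2)) : Q →* (Lay Q 1 →* ℂˣ) where
  toFun w := descend
    (MonoidHom.mk' (fun v : lowLay Q 1 => val η ⁅(v : Q), w⁆) fun a b => by
      rw [Subgroup.coe_mul, pair_mul_left hη (mem_lay2 a.2 w) (mem_lay2 b.2 w)])
    fun x hx => by
      rw [val_of_mem _ (lowLay_succ_le 1 hx)]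
      exact (val_bracket_self hη w hx).1
  map_one' := MonoidHom.ext fun z => by
    obtain ⟨x, rfl⟩ := toLay_surjective 1 z
    rw [descend_apply]
    show val η ⁅(x : Q), (1 : Q)⁆ = 1
    rw [commutatorElement_one_right, val_one]
  map_mul' a b := MonoidHom.ext fun z => by
    obtain ⟨x, rfl⟩ := toLay_surjective 1 z
    rw [MonoidHom.mul_apply, descend_apply, descend_apply, descend_apply]
    exact pair_mul_right hη (mem_lay2 x.2 a) (mem_lay2 x.2 b)

theorem pairNext_apply (hη : η ∈ central (lowLay Q 2)) (w : Q) (x : lowLay Q 1) :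
    pairNext hη w (toLay 1 x) = val η ⁅(x : Q), w⁆ := by
  simp only [pairNext, MonoidHom.coe_mk, OneHom.coe_mk, descend_apply]
  rfl

theorem QData.pairNext_surjective (h : QData φ q) (hN : NoneFixed φ) (hη : η ∈ central (lowLay Q 2))
    (hη1 : η ≠ 1) : (pairNext hη).range = ⊤ := by
  haveI : Finite (Lay Q 1 →* ℂˣ) := inferInstance
  refine Subgroup.eq_top_of_le_card _ ?_
  rw [card_dual]
  let ψ : Lay Q 1 →* ((pairNext hη).range →* ℂˣ) :=
    { toFun := fun v => MonoidHom.mk' (fun r => (r : Lay Q 1 →* ℂˣ) v) fun _ _ => rfl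
      map_one' := MonoidHom.ext fun r => map_one (r : Lay Q 1 →* ℂˣ)
      map_mul' := fun a b => MonoidHom.ext fun r => map_mul (r : Lay Q 1 →* ℂˣ) a b }
  have hψ : Function.Injective ψ := (injective_iff_map_eq_one ψ).2 fun z hz => by
    obtain ⟨x, rfl⟩ := toLay_surjective 1 z
    refine toLay_eq_one.2 (h.left_radical_next hN hη hη1 x.2 fun w => ?_)
    rw [← pairNext_apply hη w x]
    exact DFunLike.congr_fun hz ⟨_, w, rfl⟩
  exact (Nat.card_le_card_of_injective ψ hψ).trans_eq (card_dual _)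

/-- The derived subgroup is two steps from the bottom. -/
theorem QData.lowLay_two_eq_bot (h : QData φ q) (hN : NoneFixed φ) : lowLay Q 2 = ⊥ := by
  classical
  haveI := Fact.mk h.prime
  haveI : Group.IsNilpotent Q := h.pgroup.isNilpotent
  by_contra hne
  have hlt : ∀ k ≤ 2, ¬ lowLay Q k ≤ lowLay Q (k + 1) := by
    intro k hk hle
    have hb := lowLay_eq_bot_of_le hle
    refine hne (le_bot_iff.1 (hb ▸ ?_))
    interval_cases k
    · exact lowLay_le 2
    · exact lowLay_succ_le 1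
    · exact le_rfl
  have hnt : ∀ k ≤ 2, Nontrivial (Lay Q k) := fun k hk => by
    obtain ⟨x, hx, hx'⟩ := SetLike.not_le_iff_exists.1 (hlt k hk)
    exact ⟨⟨toLay k ⟨x, hx⟩, 1, fun e => hx' (toLay_eq_one.1 e)⟩⟩
  haveI := hnt 0 (by norm_num)
  haveI := hnt 1 (by norm_num)
  have hdual : ∀ k ≤ 2, ∃ μ : lowLay Q k →* ℂˣ, μ ∈ central (lowLay Q k) ∧ μ ≠ 1 := fun k hk => by
    haveI := hnt k hk
    obtain ⟨z, hz⟩ := exists_ne (1 : Lay Q k)
    obtain ⟨l, hl⟩ := exists_dual_ne hz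
    exact ⟨_, layChar_central l, layChar_ne_one fun e => hl (by rw [e]; rfl)⟩
  obtain ⟨μ, hμ, hμ1⟩ := hdual 0 (by norm_num)
  -- the choice of the character of the third layer
  obtain ⟨η, hη, hη1, hA⟩ : ∃ η : lowLay Q 2 →* ℂˣ, η ∈ central (lowLay Q 2) ∧ η ≠ 1 ∧
      ((∀ v ∈ lowLay Q 0, ∀ z ∈ lowLay Q 0, val η ⁅v, z⁆ = 1) ∨
        ∀ z ∈ lowLay Q 0, (∀ v ∈ lowLay Q 0, val η ⁅v, z⁆ = 1) → z ∈ lowLay Q 1) := by
    by_cases hall : ∀ η ∈ central (lowLay Q 2), ∀ v ∈ lowLay Q 0, ∀ z ∈ lowLay Q 0, val η ⁅v, z⁆ = 1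
    · obtain ⟨η, hη, hη1⟩ := hdual 2 le_rfl
      exact ⟨η, hη, hη1, Or.inl (hall η hη)⟩
    push Not at hall
    obtain ⟨η, hη, a, ha, b, hb, hab⟩ := hall
    haveI := Fintype.ofFinite (fixer φ μ)
    let η₀ : central (lowLay Q 2) := ∏ c : fixer φ μ, cAct φ (lowLay Q 2) c ⟨η, hη⟩
    have hval : ∀ x ∈ lowLay Q 2, val (η₀ : lowLay Q 2 →* ℂˣ) x = ∏ c : fixer φ μ, val η (φ (c : C)⁻¹ x) := by
      intro x hx
      simp only [η₀, Subgroup.val_finsetProd]
      rw [val_of_mem _ hx, MonoidHom.finsetProd_apply]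
      exact Finset.prod_congr rfl fun c _ => by rw [← val_of_mem _ hx, val_cAct φ _ c ⟨η, hη⟩ hx]
    have hab0 : val (η₀ : lowLay Q 2 →* ℂˣ) ⁅a, b⁆ ≠ 1 := by
      rw [hval _ (bracket_lay0_lay0 ha hb), Finset.prod_congr rfl fun (c : fixer φ μ) _ =>
        show val η (φ (c : C)⁻¹ ⁅a, b⁆) = val η ⁅a, b⁆ by
          have hF := h.fixesLayer_of_fixer hN hμ hμ1 ((fixer φ μ).inv_mem c.2)
          have e1 := hF.delta_mem ha
          have e2 := hF.delta_mem hb
          have ha' : φ (c : C)⁻¹ a ∈ lowLay Q 0 := phi_mem φ _ ha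
          have hb' : φ (c : C)⁻¹ b ∈ lowLay Q 0 := phi_mem φ _ hb
          rw [phi_bracket]
          conv_lhs => rw [← inv_mul_cancel_right (φ (c : C)⁻¹ a) a]
          rw [pair_mul_left hη (mem_lay2 e1 _) (bracket_lay0_lay0 ha hb'),
            val_eq_one_lay3 hη (bracket_lay1_lay0 e1 hb').1, one_mul]
          conv_lhs => rw [← inv_mul_cancel_right (φ (c : C)⁻¹ b) b]
          rw [pair_mul_right hη (bracket_lay0_lay0 ha (lowLay_succ_le 0 e2)) (bracket_lay0_lay0 ha hb),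
            val_eq_one_lay3 hη (bracket_lay1_lay0 e2 ha).2, one_mul],
        Finset.prod_const, Finset.card_univ, ← Nat.card_eq_fintype_card]
      refine fun e => hab (h.units_eq_one η (val_of_mem η (bracket_lay0_lay0 ha hb)) ?_)
      obtain ⟨j, hj⟩ := Subgroup.card_subgroup_dvd_card (fixer φ μ)
      rw [hj, pow_mul, e, one_pow]
    have hη₀1 : (η₀ : lowLay Q 2 →* ℂˣ) ≠ 1 := fun e => hab0 (by
      rw [e, val_of_mem _ (bracket_lay0_lay0 ha hb)]; rfl)
    refine ⟨η₀, η₀.2, hη₀1, Or.inr fun z hz hzero =>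
      h.rad_next hN hμ hμ1 η₀.2 hη₀1 (fun d hd x hx => ?_) hz hzero⟩
    rw [hval _ (phi_mem φ d hx), hval x hx]
    refine Fintype.prod_equiv (Equiv.mulLeft (⟨d, hd⟩ : fixer φ μ)⁻¹) _ _ fun c => ?_
    rw [← phi_mul_apply]
    congr 3
    simp [mul_comm]
  have hM : (lowLay Q 0).subgroupOf (movMod φ) ≤ ((pairNext hη).comp (movMod φ).subtype).ker := fun x hx =>
    MonoidHom.ext fun z => by
      obtain ⟨v, rfl⟩ := toLay_surjective 1 z
      show pairNext hη (x : Q) (toLay 1 v) = 1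
      rw [pairNext_apply]
      exact lay0_le_lperpNext hη hx v v.2
  let T : MW φ →* (Lay Q 1 →* ℂˣ) := QuotientGroup.lift _ _ hM
  have hT : Function.Surjective T := fun l => by
    obtain ⟨t, rfl⟩ : l ∈ (pairNext hη).range := h.pairNext_surjective hN hη hη1 ▸ Subgroup.mem_top _
    obtain ⟨w, hw, m, hm, rfl⟩ := h.exists_decomp t
    refine ⟨((⟨w, hw⟩ : movMod φ) : MW φ), ?_⟩
    show pairNext hη w = pairNext hη (w * m)
    rw [map_mul, show pairNext hη m = 1 from MonoidHom.ext fun z => by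
      obtain ⟨v, rfl⟩ := toLay_surjective 1 z
      rw [pairNext_apply]
      exact h.fix_le_lperpNext hN hη hm v v.2]
    exact MonoidHom.ext fun z => (mul_one _).symm
  let A : Lay Q 0 → Lay Q 0 → ℂˣ := fun v z => val η ⁅(repV v : Q), (repV z : Q)⁆
  have hAmk : ∀ a b : lowLay Q 0, A (toLay 0 a) (toLay 0 b) = val η ⁅(a : Q), (b : Q)⁆ := by
    intro a b
    have e1 := repV_congr a
    have e2 := repV_congr b
    show val η ⁅(repV (toLay 0 a) : Q), (repV (toLay 0 b) : Q)⁆ = _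
    rw [← mul_inv_cancel_left (a : Q) (repV (toLay 0 a) : Q),
      pair_mul_left hη (bracket_lay0_lay0 a.2 (repV _).2) (bracket_lay0_lay0 (lowLay_succ_le 0 e1) (repV _).2),
      val_eq_one_lay3 hη (bracket_lay1_lay0 e1 (repV _).2).1, mul_one,
      ← mul_inv_cancel_left (b : Q) (repV (toLay 0 b) : Q),
      pair_mul_right hη (bracket_lay0_lay0 a.2 b.2) (bracket_lay0_lay0 a.2 (lowLay_succ_le 0 e2)),
      val_eq_one_lay3 hη (bracket_lay1_lay0 e2 a.2).2, mul_one]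
  refine (h.layers3 hN).false_of_next T hT A (fun u hu x v => ?_) (fun x y hb v => ?_) ?_
  · obtain ⟨a, rfl⟩ := QuotientGroup.mk_surjective u
    obtain ⟨b, rfl⟩ := QuotientGroup.mk_surjective x
    obtain ⟨v, rfl⟩ := toLay_surjective 0 v
    have ha : (a : Q) ∈ lperpNext hη := fun z hz => by
      have h1 := DFunLike.congr_fun hu (toLay 1 ⟨z, hz⟩)
      change pairNext hη (a : Q) (toLay 1 ⟨z, hz⟩) = 1 at h1
      rwa [pairNext_apply] at h1
    rw [cW_mk, bW_mk]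
    show pairNext hη (b : Q) (toLay 1 _) = _
    rw [pairNext_apply, layBr, hAmk, jacobi_next hη v.2 (a : Q) (b : Q), ha _ (mem_lay1 v.2 b), one_mul]
  · obtain ⟨a, rfl⟩ := QuotientGroup.mk_surjective x
    obtain ⟨b, rfl⟩ := QuotientGroup.mk_surjective y
    obtain ⟨v, rfl⟩ := toLay_surjective 0 v
    rw [bW_mk, layBr, toLay_eq_one] at hb
    rw [cW_mk, cW_mk]
    show pairNext hη (b : Q) (toLay 1 _) = pairNext hη (a : Q) (toLay 1 _)
    rw [pairNext_apply, pairNext_apply, jacobi_next hη v.2 (a : Q) (b : Q),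
      val_eq_one_lay3 hη (bracket_lay1_lay0 hb v.2).2, mul_one]
  · rcases hA with hA | hA
    · exact Or.inl fun v z => hA _ (repV v).2 _ (repV z).2
    · refine Or.inr fun z hz => ?_
      obtain ⟨z, rfl⟩ := toLay_surjective 0 z
      refine toLay_eq_one.2 (hA _ z.2 fun v hv => ?_)
      rw [← hAmk ⟨v, hv⟩ z]
      exact hz _

end Cfsg.Agent.NoDivDeg
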