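/-
`q` prime to the order of the derived subgroup `D` of the kernel: the pairing of `D` against a central
character of `D'` has trivial radical.

Main results: `Ctx.isNilpotent_derN`, `Ctx.rad2_le`, `Ctx.card_movA_lt`, `Ctx.card_central_sq_le`.
-/
import Cfsg.Agent.Lib.NoDivDeg.DualA
import Cfsg.Agent.Lib.NoDivDeg.Layer4
import Cfsg.Agent.Lib.NoDivDeg.Pencil
import Cfsg.Agent.Lib.FPF.Kernel

set_option autoImplicit false
set_option linter.style.haveILetI false
set_option linter.unusedSectionVars false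

namespace Cfsg.Agent.NoDivDeg

open Cfsg Cfsg.Agent.Char Cfsg.Agent.CharApp Cfsg.Agent.CharApp.DegreeSets
open scoped ComplexConjugate commutatorElement

universe u

variable {G : Type u} [Group G] [Finite G] {N : Subgroup G} [hNn : N.Normal] {g : G} {f q : ℕ}

/-- The derived subgroup of `N` as a group. -/
abbrev DX (N : Subgroup G) : Type u := ↥(⁅N, N⁆ : Subgroup G)

/-- The stabilizer of a linear character of a subgroup of a normal subgroup. -/
def stC (K : Subgroup G) [K.Normal] {J : Subgroup K} (ν : J →* ℂˣ) : Subgroup G where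
  carrier := {x | ∀ j ∈ J, MulAut.conjNormal x j ∈ J ∧ MulAut.conjNormal x⁻¹ j ∈ J ∧
    val ν (MulAut.conjNormal x j) = val ν j}
  one_mem' := fun j hj => by rw [inv_one, map_one, MulAut.one_apply]; exact ⟨hj, hj, rfl⟩
  mul_mem' := fun {x y} hx hy j hj => by
    refine ⟨?_, ?_, ?_⟩
    · rw [map_mul, MulAut.mul_apply]; exact (hx _ (hy j hj).1).1
    · rw [mul_inv_rev, map_mul, MulAut.mul_apply]; exact (hy _ (hx j hj).2.1).2.1
    · rw [map_mul, MulAut.mul_apply, (hx _ (hy j hj).1).2.2, (hy j hj).2.2]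
  inv_mem' := fun {x} hx j hj => by
    refine ⟨(hx j hj).2.1, by rw [inv_inv]; exact (hx j hj).1, ?_⟩
    conv_rhs => rw [show j = MulAut.conjNormal x (MulAut.conjNormal x⁻¹ j) by
      rw [← MulAut.mul_apply, ← map_mul, mul_inv_cancel, map_one, MulAut.one_apply]]
    rw [(hx _ (hx j hj).2.1).2.2]

theorem mem_stC_char {K : Subgroup G} [K.Normal] {J : Subgroup K} [J.Characteristic] (ν : J →* ℂˣ)
    {x : G} : x ∈ stC K ν ↔ ∀ j ∈ J, val ν (MulAut.conjNormal x j) = val ν j := by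
  have h : ∀ (y : G), ∀ j ∈ J, (MulAut.conjNormal y : MulAut K) j ∈ J := fun y j hj =>
    Subgroup.characteristic_iff_le_comap.1 inferInstance (MulAut.conjNormal y : MulAut K) hj
  exact ⟨fun hx j hj => (hx j hj).2.2, fun hx j hj => ⟨h x j hj, h _ j hj, hx j hj⟩⟩

theorem conjNormal_coe {K : Subgroup G} [K.Normal] (w a : K) :
    (MulAut.conjNormal (w : G) : MulAut K) a = w * a * w⁻¹ :=
  Subtype.ext (by simp [MulAut.conjNormal_apply])

/-- The derived subgroup of `N` is nilpotent. -/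
theorem Ctx.isNilpotent_derN (h : Ctx N g f q) (hD : ¬ q ∣ Nat.card (commutator N)) :
    Group.IsNilpotent (DX N) := by
  classical
  haveI := Fact.mk h.prime
  obtain ⟨C, hsurj, hCD, -, -, -, hfpf⟩ := h.exists_fpf hD
  obtain ⟨a, ha, ha1, haq⟩ := h.exists_mov_order
  obtain ⟨c, hc, rfl⟩ := hsurj a
  have hcq : c ^ q = 1 := hCD _ (C.pow_mem hc q) ((QuotientGroup.eq_one_iff _).1 (by
    show Abelianization.of (c ^ q) = 1
    rw [map_pow, haq]))
  have hc1 : (c : G) ≠ 1 := fun e => ha1 (by rw [show c = 1 from Subtype.ext e, map_one])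
  have hmv : ¬ Fixed N g c := fun e => ha1 (h.range_inf_ker ha e)
  refine FPF.isNilpotent_of_fpf_subgroup (A := Subgroup.zpowers (c : G))
    (Subgroup.zpowers_ne_bot.2 hc1) fun a ha ha' d hd hcomm => ?_
  have hoy : orderOf (c : G) = q := orderOf_eq_prime (by
    rw [← SubmonoidClass.coe_pow, hcq, OneMemClass.coe_one]) hc1
  obtain ⟨k, hk⟩ := Subgroup.mem_zpowers_iff.1 (mem_zpowers_of_prime_card (p := q)
    (by rw [Nat.card_zpowers, hoy]) (g := (⟨a, ha⟩ : Subgroup.zpowers (c : G)))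
    (g' := ⟨(c : G), Subgroup.mem_zpowers _⟩) (fun e => ha' (congrArg Subtype.val e)))
  have hk' : a ^ k = (c : G) := by simpa using congrArg Subtype.val hk
  have := hfpf c hmv ⟨d, derN_le hd⟩ (coe_mem_derN.1 hd) (Subtype.ext (by
    show (c : G) * d = d * (c : G)
    rw [← hk']
    exact (Commute.zpow_left hcomm k).eq))
  exact congrArg Subtype.val this

variable {μ : lowLay (DX N) 0 →* ℂˣ}

theorem conjNormal_mem_lowLay {k : ℕ} (x : G) {j : DX N} (hj : j ∈ lowLay (DX N) k) :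
    MulAut.conjNormal x j ∈ lowLay (DX N) k :=
  Subgroup.characteristic_iff_le_comap.1 inferInstance (MulAut.conjNormal x : MulAut (DX N)) hj

/-- A moved element fixes no nontrivial central character. -/
theorem Ctx.eq_one_of_moved_central (h : Ctx N g f q) (hD : ¬ q ∣ Nat.card (commutator N)) {x : N}
    (hx : ¬ Fixed N g x) (hfix : (x : G) ∈ stC _ μ) : μ = 1 := by
  obtain ⟨C, -, -, -, -, -, hfpf⟩ := h.exists_fpf hD
  refine eq_one_of_val fun k hk => ?_
  obtain ⟨_, ⟨j, hj, rfl⟩, hjk⟩ := exists_bracket_eq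
    (K := (lowLay (DX N) 0).map (⁅N, N⁆ : Subgroup G).subtype) (x := (x : G))
    (by
      rintro _ ⟨j, hj, rfl⟩
      exact ⟨_, conjNormal_mem_lowLay (x : G) hj, MulAut.conjNormal_apply _ _⟩)
    (by
      rintro _ ⟨j, hj, rfl⟩ e
      have := hfpf x hx ⟨(j : G), derN_le j.2⟩ (coe_mem_derN.1 j.2) (Subtype.ext e)
      exact congrArg Subtype.val this) (Subgroup.mem_map_of_mem _ hk)
  have e : k = MulAut.conjNormal (x : G) j * j⁻¹ := Subtype.ext (by
    rw [show (k : G) = ⁅(x : G), (j : G)⁆ from hjk.symm, commutatorElement_def]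
    simp [MulAut.conjNormal_apply])
  rw [e, val_mul μ (conjNormal_mem_lowLay _ hj) (Subgroup.inv_mem _ hj), val_inv μ hj,
    (mem_stC_char μ).1 hfix j hj, mul_inv_cancel]

/-- An element of `N` fixing no nontrivial character of the classes has no fixed class either. -/
theorem deltaA_surjective {x : G}
    (hx : ∀ v : Abelianization (DX N) →* ℂˣ, x ∈ stV _ v → v = 1) :
    Function.Surjective (deltaA (⁅N, N⁆ : Subgroup G) x) := by
  intro b
  by_contra hb
  obtain ⟨l, hl, hlb⟩ := exists_dual_ker (deltaA (⁅N, N⁆ : Subgroup G) x).range (a := b)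
    fun ⟨a, ha⟩ => hb ⟨a, ha⟩
  refine hlb ?_
  rw [hx l (mem_stV.2 fun a => ?_)]
  · rfl
  · have := hl _ ⟨a, rfl⟩
    change l (conjA _ x a * a⁻¹) = 1 at this
    rwa [map_mul, map_inv, mul_inv_eq_one] at this

/-- The radical is preserved by the stabilizer. -/
theorem conj_mem_rad2 (hμ : μ ∈ central (lowLay (DX N) 0)) {x : G} (hx : x ∈ stC _ μ) {a : DX N}
    (ha : a ∈ rad2 hμ) : MulAut.conjNormal x a ∈ rad2 hμ := by
  refine (mem_rad2 hμ).2 fun b => ?_
  obtain ⟨b, rfl⟩ := (MulAut.conjNormal x : MulAut (DX N)).surjective b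
  rw [← map_commutatorElement, (mem_stC_char μ).1 hx _ (bracket_mem_commutator a b)]
  exact (mem_rad2 hμ).1 ha b

/-- A nontrivial central character has trivial radical on the classes. -/
theorem Ctx.rad2_le (h : Ctx N g f q) (hD : ¬ q ∣ Nat.card (commutator N))
    (hμ : μ ∈ central (lowLay (DX N) 0)) (hμ1 : μ ≠ 1)
    {v₀ : Abelianization (DX N) →* ℂˣ} (hv₀ : v₀ ≠ 1) : rad2 hμ ≤ lowLay (DX N) 0 := by
  classical
  haveI := Fintype.ofFinite G
  haveI := Fintype.ofFinite (DX N)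
  haveI := Fintype.ofFinite (rad2 hμ)
  set R₀ := stV _ v₀ ⊓ N
  have hJK := commutator_le_rad2 hμ
  intro x₁ hx₁
  by_contra hx₁J
  have hKn : (rad2 hμ).Normal := ⟨fun r hr w => by
    have := (rad2 hμ).mul_mem (hJK (bracket_mem_commutator w r)) hr
    rwa [commutatorElement_def, inv_mul_cancel_right] at this⟩
  haveI := hKn
  -- the extensions
  let Ext : (rad2 hμ →* ℂˣ) → Prop := fun τ => ∀ j ∈ lowLay (DX N) 0, val τ j = val μ j
  obtain ⟨τ₀, hτ₀⟩ := exists_extend hJK μ fun a ha b _ =>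
    ⟨bracket_mem_commutator a b, (mem_rad2 hμ).1 ha b⟩
  have hinner : ∀ (w : DX N) (τ : rad2 hμ →* ℂˣ), Ext τ → ∀ a ∈ rad2 hμ,
      val τ (w * a * w⁻¹) = val τ a := by
    intro w τ hτ a ha
    rw [show w * a * w⁻¹ = ⁅w, a⁆ * a by rw [commutatorElement_def]; group,
      val_mul τ (hJK (bracket_mem_commutator w a)) ha, hτ _ (bracket_mem_commutator w a),
      pair_swap μ (bracket_mem_commutator a w), (mem_rad2 hμ).1 ha w, inv_one, one_mul]
  have hderfix : ∀ (d : G), d ∈ (⁅N, N⁆ : Subgroup G) → ∀ τ, Ext τ → ∀ a ∈ rad2 hμ,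
      val τ (MulAut.conjNormal d a) = val τ a := fun d hd τ hτ a ha => by
    rw [show d = ((⟨d, hd⟩ : DX N) : G) from rfl, conjNormal_coe]
    exact hinner _ τ hτ a ha
  -- an element outside `R₀` fixes at most one extension
  have huniq : ∀ y : G, y ∈ N → y ∉ R₀ → y ∈ stC _ μ → ∀ τ τ', Ext τ → Ext τ' →
      y ∈ stC _ τ → y ∈ stC _ τ' → τ = τ' := by
    intro y hyN hy hyμ τ τ' hτ hτ' hf hf'
    have hsurj := deltaA_surjective (x := y) fun v hv => by
      by_contra hv1
      exact hy (by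
        show y ∈ stV _ v₀ ⊓ N
        rw [h.stV_inf_eq hD hv₀ hv1]
        exact ⟨hv, hyN⟩)
    have hinj : Function.Injective (deltaA (⁅N, N⁆ : Subgroup G) y) :=
      Finite.injective_iff_surjective.2 hsurj
    let Kb := (rad2 hμ).map (Abelianization.of : DX N →* _)
    let δ : Kb → Kb := fun a => ⟨deltaA _ y a, Kb.mul_mem (by
      obtain ⟨k, hk, e⟩ := a.2
      rw [← e, conjA_of]
      exact Subgroup.mem_map_of_mem _ (conj_mem_rad2 hμ hyμ hk)) (Kb.inv_mem a.2)⟩
    have hδ : Function.Surjective δ := Finite.injective_iff_surjective.1 fun a b e =>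
      Subtype.ext (hinj (congrArg Subtype.val e))
    refine MonoidHom.ext fun k => ?_
    obtain ⟨⟨_, u, hu, rfl⟩, hau⟩ := hδ ⟨_, Subgroup.mem_map_of_mem _ k.2⟩
    have hau' : Abelianization.of (MulAut.conjNormal y u * u⁻¹) = Abelianization.of (k : DX N) := by
      rw [map_mul, map_inv, ← conjA_of]
      exact congrArg Subtype.val hau
    set j := (MulAut.conjNormal y u * u⁻¹)⁻¹ * (k : DX N)
    have hj : j ∈ lowLay (DX N) 0 := of_eq_of_iff.1 hau'
    have key : ∀ σ : rad2 hμ →* ℂˣ, Ext σ → y ∈ stC _ σ → σ k = val μ j := by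
      intro σ hσ hfσ
      have hm : MulAut.conjNormal y u * u⁻¹ ∈ rad2 hμ :=
        (rad2 hμ).mul_mem (conj_mem_rad2 hμ hyμ hu) ((rad2 hμ).inv_mem hu)
      rw [← val_coe σ k, show (k : DX N) = (MulAut.conjNormal y u * u⁻¹) * j from
        (mul_inv_cancel_left _ _).symm, val_mul σ hm (hJK hj), val_mul σ (hfσ u hu).1
        ((rad2 hμ).inv_mem hu), val_inv σ hu, (hfσ u hu).2.2, mul_inv_cancel, one_mul, hσ j hj]
    rw [key τ hτ hf, key τ' hτ' hf']
  -- a second extension
  obtain ⟨l, hl⟩ := exists_dual_ne (a := Abelianization.of x₁)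
    fun e => hx₁J ((QuotientGroup.eq_one_iff x₁).1 e)
  let ω : rad2 hμ →* ℂˣ := l.comp (Abelianization.of.comp (rad2 hμ).subtype)
  have hτ₁ : Ext (τ₀ * ω) := fun j hj => by
    rw [val_of_mem _ (hJK hj), MonoidHom.mul_apply, ← val_of_mem τ₀, hτ₀ j hj]
    refine mul_eq_left.2 ?_
    show l (Abelianization.of j) = 1
    rw [show Abelianization.of j = 1 from (QuotientGroup.eq_one_iff j).2 hj, map_one]
  -- some extension is fixed only inside `R₀`
  obtain ⟨τ, hτ, hfix⟩ : ∃ τ, Ext τ ∧ ∀ y ∈ N, y ∈ stC _ τ → y ∈ R₀ := by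
    by_contra hno
    push Not at hno
    have hμfix : ∀ τ, Ext τ → ∀ y, y ∈ stC _ τ → y ∈ stC _ μ := fun τ hτ y hy =>
      (mem_stC_char μ).2 fun j hj => by
        rw [← hτ j hj, ← hτ _ (conjNormal_mem_lowLay y hj), (hy j (hJK hj)).2.2]
    obtain ⟨y, hyN, hy, hyR⟩ := hno τ₀ hτ₀
    obtain ⟨y', hy'N, hy', hy'R⟩ := hno _ hτ₁
    have hyμ := hμfix _ hτ₀ y hy
    have hy'μ := hμfix _ hτ₁ y' hy'
    let τd : rad2 hμ →* ℂˣ := MonoidHom.mk' (fun k => val τ₀ (MulAut.conjNormal y' (k : DX N)))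
      fun a b => by
        rw [Subgroup.coe_mul, map_mul, val_mul τ₀ (conj_mem_rad2 hμ hy'μ a.2) (conj_mem_rad2 hμ hy'μ b.2)]
    have hτd : ∀ a ∈ rad2 hμ, val τd a = val τ₀ (MulAut.conjNormal y' a) := fun a ha => by
      rw [val_of_mem τd ha]; rfl
    have hτdE : Ext τd := fun j hj => by
      rw [hτd j (hJK hj), hτ₀ _ (conjNormal_mem_lowLay y' hj), (mem_stC_char μ).1 hy'μ j hj]
    have hyd : y ∈ stC _ τd := fun a ha => ⟨(hy a ha).1, (hy a ha).2.1, by
      rw [hτd a ha, hτd _ (hy a ha).1, ← MulAut.mul_apply, ← map_mul]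
      have hd : y' * y * (y * y')⁻¹ ∈ (⁅N, N⁆ : Subgroup G) := by
        have := Subgroup.commutator_mem_commutator hy'N hyN
        rw [commutatorElement_def] at this
        rwa [mul_inv_rev, ← mul_assoc]
      rw [show y' * y = (y' * y * (y * y')⁻¹) * (y * y') by group, map_mul, MulAut.mul_apply,
        hderfix _ hd _ hτ₀ _ (conj_mem_rad2 hμ ((stC _ μ).mul_mem hyμ hy'μ) ha), map_mul,
        MulAut.mul_apply, (hy _ (conj_mem_rad2 hμ hy'μ ha)).2.2]⟩
    have e1 := huniq y hyN hyR hyμ _ _ hτdE hτ₀ hyd hy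
    have hy'τ₀ : y' ∈ stC _ τ₀ := fun a ha => ⟨conj_mem_rad2 hμ hy'μ ha,
      conj_mem_rad2 hμ ((stC _ μ).inv_mem hy'μ) ha, by rw [← hτd a ha, e1]⟩
    have e2 := huniq y' hy'N hy'R hy'μ _ _ hτ₀ hτ₁ hy'τ₀ hy'
    refine hl ?_
    have := DFunLike.congr_fun e2.symm ⟨x₁, hx₁⟩
    rwa [MonoidHom.mul_apply, mul_eq_left] at this
  -- a character over it
  have hτi : IsIrrCharacter (rad2 hμ) (fun k => (τ k : ℂ)) :=
    isIrrCharacter_of_hom ((Units.coeHom ℂ).comp τ)
  obtain ⟨η, hη, hover⟩ := exists_over (rad2 hμ) hτi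
  have hres : ∀ j ∈ lowLay (DX N) 0, η j = η 1 * (val μ j : ℂ) := fun j hj =>
    res_of_linear hη hJK hμ τ hτ hover hj
  have hη1 : charDegree η ≠ 1 := res_nonlinear le_rfl hμ1 hη hres
  obtain ⟨-, hvan, hne⟩ := deg_sq_radical hη hμ bracket_mem_commutator hres
  have hinv : ∀ w : DX N, CliffordChar.conjFun (rad2 hμ) w (fun k => (τ k : ℂ)) =
      fun k : rad2 hμ => (τ k : ℂ) := fun w => funext fun k => by
    rw [CliffordChar.conjFun_apply, ← val_coe τ k, ← val_coe τ ⟨_, _⟩]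
    exact congrArg Units.val (by simpa using hinner w⁻¹ τ hτ k k.2)
  have hresK := restrict_invariant (rad2 hμ) hη hτi hover hinv
  have hηK : ∀ k ∈ rad2 hμ, η k = η 1 * (val τ k : ℂ) := fun k hk => by
    have h1 := congrFun hresK 1
    simp only [Pi.smul_apply, smul_eq_mul, map_one, Units.val_one, mul_one, OneMemClass.coe_one] at h1
    rw [h1, val_of_mem τ hk]
    exact congrFun hresK ⟨k, hk⟩
  set T := inertia (⁅N, N⁆ : Subgroup G) η
  have hTstC : T ≤ stC _ τ := by
    intro y hy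
    have hval : ∀ z ∈ T, ∀ k ∈ rad2 hμ,
        MulAut.conjNormal z⁻¹ k ∈ rad2 hμ ∧ val τ (MulAut.conjNormal z⁻¹ k) = val τ k := by
      intro z hz k hk
      have h1 : η (MulAut.conjNormal z⁻¹ k) = η k := by
        have := congrFun ((mem_inertia _).1 hz) k
        rwa [conjFun_eq] at this
      have hk' : MulAut.conjNormal z⁻¹ k ∈ rad2 hμ := by
        by_contra hk'
        rw [hvan _ hk'] at h1
        exact hne k hk h1.symm
      refine ⟨hk', Units.ext (mul_left_cancel₀ (IsIrrCharacter.apply_one_ne_zero hη) ?_)⟩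
      rw [← hηK _ hk', ← hηK _ hk, h1]
    intro k hk
    have h2 := hval y⁻¹ (T.inv_mem hy) k hk
    rw [inv_inv] at h2
    exact ⟨h2.1, (hval y hy k hk).1, h2.2⟩
  -- its orbit is too large
  obtain ⟨y, hyT, hyN, hymin, hgen⟩ := h.exists_gen_of T
  have hTR : T ⊓ N ≤ R₀ := fun z hz => hfix z hz.2 (hTstC hz.1)
  obtain ⟨u, hu, hRu, hyu⟩ := h.exists_fixed_char hD (derN_le_stV_inf v₀) (h.stV_inf_le hD hv₀)
    (imgOrd_pos T) (hTR ⟨T.pow_mem hyT _, hyN⟩) hymin hv₀ inf_le_left
  have hsub : T ≤ stV _ u := fun z hz => by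
    obtain ⟨i, hi⟩ := hgen z hz
    have hm : (y ^ i)⁻¹ * z ∈ T := T.mul_mem (T.inv_mem (T.zpow_mem hyT i)) hz
    have h1 := (stV _ u).mul_mem ((stV _ u).zpow_mem hyu i) (hRu (hTR ⟨hm, hi⟩))
    rwa [mul_inv_cancel_left] at h1
  obtain ⟨π, hπ, hker⟩ := h.exists_retraction hD
  obtain ⟨χd, hχd⟩ := exists_deg_stV π hπ hker u
  obtain ⟨χ, hχ, hχover⟩ := exists_over (⁅N, N⁆ : Subgroup G) hη
  obtain ⟨e, he, -, hdeg, -⟩ := degree_over (⁅N, N⁆ : Subgroup G) hχ hη hχover
  have hTd : (stV _ u).index ∣ T.index := Subgroup.index_dvd_of_le hsub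
  have h3 := h.nd.eq_of_dvd (χ := χd) (χ' := ⟨χ, hχ⟩) (hχd ▸ h.stV_ne_top hD hu) (by
    show charDegree (χd : G → ℂ) ∣ charDegree χ
    rw [hχd, hdeg]
    exact (hTd.mul_left e).mul_right _)
  change charDegree (χd : G → ℂ) = charDegree χ at h3
  rw [hχd, hdeg] at h3
  obtain ⟨c, hc⟩ := hTd
  rw [hc] at h3
  refine hη1 (mul_eq_one.1 (?_ : e * c * charDegree η = 1)).2
  refine Nat.eq_of_mul_eq_mul_left (Nat.pos_of_ne_zero
    (Subgroup.index_ne_zero_of_finite (H := stV _ u))) ?_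
  rw [mul_one]
  calc (stV _ u).index * (e * c * charDegree η) = e * ((stV _ u).index * c) * charDegree η := by ring
    _ = (stV _ u).index := h3.symm

/-- Conjugation of a central character. -/
theorem exists_conj_central (hμ : μ ∈ central (lowLay (DX N) 0)) (x : G) :
    ∃ μ' : lowLay (DX N) 0 →* ℂˣ, μ' ∈ central (lowLay (DX N) 0) ∧
      ∀ j ∈ lowLay (DX N) 0, val μ' j = val μ (MulAut.conjNormal x j) := by
  refine ⟨MonoidHom.mk' (fun j => val μ (MulAut.conjNormal x (j : DX N))) fun a b => by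
    rw [Subgroup.coe_mul, map_mul, val_mul μ (conjNormal_mem_lowLay x a.2) (conjNormal_mem_lowLay x b.2)],
    fun w j => ?_, fun j hj => by rw [val_of_mem _ hj]; rfl⟩
  show val μ (MulAut.conjNormal x ((MulAut.conjNormal w j : lowLay (DX N) 0) : DX N)) = val μ _
  rw [MulAut.conjNormal_apply, map_mul, map_mul, map_inv, val_conj hμ _ (conjNormal_mem_lowLay x j.2)]

/-- The moved classes act freely on the central characters. -/
theorem Ctx.card_movA_lt (h : Ctx N g f q) (hD : ¬ q ∣ Nat.card (commutator N))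
    (hμ : μ ∈ central (lowLay (DX N) 0)) (hμ1 : μ ≠ 1) :
    Nat.card (movA N g) < Nat.card (central (lowLay (DX N) 0)) := by
  classical
  choose rep hrep using fun a : Abelianization N => of_surjective a
  choose cj hcj hcjv using fun x : G => exists_conj_central hμ x
  let F : movA N g → central (lowLay (DX N) 0) := fun a => ⟨cj (rep a : G), hcj _⟩
  have hinj : Function.Injective F := by
    intro a b e
    by_contra hab
    have hmv : ¬ Fixed N g (rep a * (rep b)⁻¹) := fun hf => hab (Subtype.ext (mul_inv_eq_one.1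
      (h.range_inf_ker ((movA N g).mul_mem a.2 ((movA N g).inv_mem b.2)) (by
        unfold Fixed at hf
        rwa [map_mul Abelianization.of, map_inv Abelianization.of, hrep, hrep] at hf))))
    refine hμ1 (h.eq_one_of_moved_central hD hmv ((mem_stC_char μ).2 fun j hj => ?_))
    rw [Subgroup.coe_mul, InvMemClass.coe_inv, map_mul, MulAut.mul_apply]
    set i := MulAut.conjNormal (rep b : G)⁻¹ j
    have hi : i ∈ lowLay (DX N) 0 := conjNormal_mem_lowLay _ hj
    rw [← hcjv _ i hi, show cj (rep a : G) = cj (rep b : G) from congrArg Subtype.val e, hcjv _ i hi,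
      ← MulAut.mul_apply, ← map_mul, mul_inv_cancel, map_one, MulAut.one_apply]
  refine (Nat.card_le_card_of_injective F hinj).lt_of_ne fun e => ?_
  obtain ⟨a, ha⟩ := ((Nat.bijective_iff_injective_and_card F).2 ⟨hinj, e⟩).2 1
  have ha' : cj (rep a : G) = 1 := congrArg Subtype.val ha
  refine hμ1 (eq_one_of_val fun j hj => ?_)
  have := hcjv (rep a : G) _ (conjNormal_mem_lowLay (rep a : G)⁻¹ hj)
  rw [ha', val_of_mem _ (conjNormal_mem_lowLay (rep a : G)⁻¹ hj), MonoidHom.one_apply,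
    ← MulAut.mul_apply, ← map_mul, mul_inv_cancel, map_one, MulAut.one_apply] at this
  exact this.symm

/-- Few central characters. -/
theorem Ctx.card_central_sq_le (h : Ctx N g f q) (hD : ¬ q ∣ Nat.card (commutator N))
    (hμ : μ ∈ central (lowLay (DX N) 0)) (hμ1 : μ ≠ 1)
    {v₀ : Abelianization (DX N) →* ℂˣ} (hv₀ : v₀ ≠ 1) :
    Nat.card (central (lowLay (DX N) 0)) ^ 2 ≤ Nat.card (Abelianization (DX N)) := by
  classical
  obtain ⟨r, hr, hrd⟩ := Nat.exists_prime_and_dvd (fun e => hμ1 (orderOf_eq_one_iff.1 e) :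
    orderOf μ ≠ 1)
  set μ₁ := μ ^ (orderOf μ / r)
  have hμ₁ : μ₁ ∈ central (lowLay (DX N) 0) := (central _).pow_mem hμ _
  have ho : orderOf μ₁ = r := orderOf_pow_orderOf_div (orderOf_pos μ).ne' hrd
  have hμ₁1 : μ₁ ≠ 1 := fun e => hr.ne_one (by rw [← ho, e, orderOf_one])
  have hμ₁r : μ₁ ^ r = 1 := ho ▸ pow_orderOf_eq_one μ₁
  have hroot : ∀ j ∈ lowLay (DX N) 0, val μ₁ j ^ r = 1 := fun j hj => by
    rw [val_of_mem μ₁ hj, ← MonoidHom.pow_apply, hμ₁r, MonoidHom.one_apply]
  have hexp : ∀ x : DX N, x ^ r ∈ lowLay (DX N) 0 := fun x => h.rad2_le hD hμ₁ hμ₁1 hv₀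
    ((mem_rad2 hμ₁).2 fun b => by
      rw [pair_pow_left hμ₁ ⊤ (fun a _ => bracket_mem_commutator a b) (Subgroup.mem_top x)]
      exact hroot _ (bracket_mem_commutator x b))
  have hcen : ∀ ν ∈ central (lowLay (DX N) 0), ν ^ r = (1 : lowLay (DX N) 0 →* ℂˣ) := by
    intro ν hν
    have hle : commutator (DX N) ≤ (ν ^ r).ker.map (lowLay (DX N) 0).subtype := by
      rw [commutator_def, Subgroup.commutator_le]
      intro a _ b _
      refine ⟨⟨_, bracket_mem_commutator a b⟩, ?_, rfl⟩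
      show (ν ^ r) _ = 1
      rw [MonoidHom.pow_apply, ← val_of_mem ν, ← pair_pow_left hν ⊤
        (fun a _ => bracket_mem_commutator a b) (Subgroup.mem_top a)]
      exact (val_bracket_self hν b (hexp a)).1
    refine MonoidHom.ext fun j => ?_
    obtain ⟨i, hi, e⟩ := hle j.2
    rw [show i = j from Subtype.ext e] at hi
    exact hi
  choose rep hrep using fun a : Abelianization (DX N) => QuotientGroup.mk_surjective a
  have hrep' : ∀ a, Abelianization.of (rep a) = a := hrep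
  haveI : Nontrivial (Abelianization (DX N)) := by
    by_contra hn
    rw [not_nontrivial_iff_subsingleton] at hn
    exact hv₀ (MonoidHom.ext fun a => by rw [Subsingleton.elim a 1, map_one, MonoidHom.one_apply])
  refine Pencil.pencil_card hr (K := central (lowLay (DX N) 0)) (fun ν => Subtype.ext (hcen ν ν.2))
    (fun a => ?_) (fun ν a b => val (ν : lowLay (DX N) 0 →* ℂˣ) ⁅rep a, rep b⁆)
    (fun ν ν' a b => ?_) (fun ν a a' b => ?_) (fun ν a b b' => ?_) (fun ν a => ?_)
    (fun ν hν a ha => ?_)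
  · rw [← hrep' a, ← map_pow]
    exact (QuotientGroup.eq_one_iff _).2 (hexp _)
  · rw [Subgroup.coe_mul, val_of_mem _ (bracket_mem_commutator _ _), MonoidHom.mul_apply,
      val_of_mem _ (bracket_mem_commutator _ _), val_of_mem _ (bracket_mem_commutator _ _)]
  · rw [← pair_mul_left ν.2 (bracket_mem_commutator _ _) (bracket_mem_commutator _ _)]
    exact pair_congr ν.2 (by rw [map_mul, hrep', hrep', hrep']) rfl
  · rw [← pair_mul_right ν.2 (bracket_mem_commutator _ _) (bracket_mem_commutator _ _)]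
    exact pair_congr ν.2 rfl (by rw [map_mul, hrep', hrep', hrep'])
  · rw [commutatorElement_self, val_one]
  · by_contra hall
    push Not at hall
    refine ha ?_
    rw [← hrep' a]
    refine (QuotientGroup.eq_one_iff _).2 (h.rad2_le hD ν.2 (fun e => hν (Subtype.ext e)) hv₀
      ((mem_rad2 ν.2).2 fun b => ?_))
    rw [pair_congr ν.2 rfl (b' := rep (Abelianization.of b)) (hrep' _).symm]
    exact hall _

end Cfsg.Agent.NoDivDeg
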