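/-
The case of `q` prime to the order of the derived subgroup of the kernel: three degrees.

Main results: `Ctx.derN_comm`, `Ctx.exists_deg3`.
-/
import Cfsg.Agent.Lib.NoDivDeg.RadA
import Cfsg.Agent.Lib.NoDivDeg.CountA
import Cfsg.Agent.Lib.NoDivDeg.Three
import Cfsg.Agent.Lib.CharApp.ThreeDegrees.DerivedLength

set_option autoImplicit false
set_option linter.style.haveILetI false
set_option linter.unusedSectionVars false

namespace Cfsg.Agent.NoDivDeg

open Cfsg Cfsg.Agent.Char Cfsg.Agent.CharApp Cfsg.Agent.CharApp.DegreeSets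
open Cfsg.Agent.Codegree (kerSub mem_kerSub)
open scoped ComplexConjugate commutatorElement

universe u

variable {G : Type u} [Group G] [Finite G] {N : Subgroup G} [hNn : N.Normal] {g : G} {f q : ℕ}

/-- The derived subgroup of `N` is abelian. -/
theorem Ctx.derN_comm (h : Ctx N g f q) (hD : ¬ q ∣ Nat.card (commutator N)) (a b : DX N) :
    a * b = b * a := by
  classical
  haveI := h.isNilpotent_derN hD
  suffices hJ : lowLay (DX N) 0 = ⊥ by
    refine commutatorElement_eq_one_iff_mul_comm.1 (Subgroup.mem_bot.1 ?_)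
    rw [← hJ]
    exact bracket_mem_commutator a b
  by_contra hJ
  obtain ⟨x, hx, hx1⟩ := SetLike.not_le_iff_exists.1 fun hle => hJ (lowLay_eq_bot_of_le (k := 0) hle)
  obtain ⟨l, hl⟩ := exists_dual_ne (a := toLay 0 (⟨x, hx⟩ : lowLay (DX N) 0))
    fun e => hx1 (toLay_eq_one.1 e)
  have hμ := layChar_central (Q := DX N) (k := 0) l
  have hμ1 : layChar l ≠ 1 := layChar_ne_one fun e => hl (by rw [e, MonoidHom.one_apply])
  obtain ⟨y, hy⟩ : ∃ y : DX N, y ∉ lowLay (DX N) 0 := by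
    by_contra hall
    push Not at hall
    refine hJ (lowLay_eq_bot_of_le ?_)
    show commutator (DX N) ≤ ⁅lowLay (DX N) 0, ⊤⁆
    rw [commutator_def, (Subgroup.eq_top_iff' _).2 hall]
  obtain ⟨v₁, hv₁⟩ := exists_dual_ne (a := Abelianization.of y)
    fun e => hy ((QuotientGroup.eq_one_iff y).1 e)
  have hv₁' : v₁ ≠ 1 := fun e => hv₁ (by rw [e, MonoidHom.one_apply])
  refine h.false_of_count hD hv₁' (h.card_movA_lt hD hμ hμ1) ?_
  rw [card_dual]
  exact h.card_central_sq_le hD hμ hμ1 hv₁'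

/-- Three degrees. -/
theorem Ctx.exists_deg3 [Group.IsSolvable G] (h : Ctx N g f q) (hD : ¬ q ∣ Nat.card (commutator N)) :
    ∃ d : ℕ, ThreeDegrees.Deg3 G f d := by
  classical
  haveI := Fintype.ofFinite G
  haveI := Fintype.ofFinite N
  haveI := Fintype.ofFinite (⁅N, N⁆ : Subgroup G)
  obtain ⟨d, hd⟩ : ∃ d, ∀ v : Abelianization (DX N) →* ℂˣ, v ≠ 1 → (stV _ v).index = d := by
    by_cases hne : ∃ v₁ : Abelianization (DX N) →* ℂˣ, v₁ ≠ 1
    · obtain ⟨v₁, hv₁⟩ := hne
      exact ⟨(stV _ v₁).index, fun v hv => h.index_eq hD hv hv₁⟩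
    · exact ⟨0, fun v hv => absurd ⟨v, hv⟩ hne⟩
  refine ⟨d, fun χ => ?_⟩
  by_cases h1 : charDegree (χ : G → ℂ) = 1
  · exact Or.inl h1
  obtain ⟨ψ, hψ⟩ := exists_constituent
    (IsCharacter.restrict (IsIrrCharacter.isCharacter χ.2) (⁅N, N⁆ : Subgroup G))
    (by rw [OneMemClass.coe_one]; exact IsIrrCharacter.apply_one_ne_zero χ.2)
  have hψ1 : (ψ : DX N → ℂ) 1 = 1 := apply_one_eq_one_of_comm (h.derN_comm hD) ψ
  obtain ⟨l, hl⟩ := exists_hom_of_degree_one (IsIrrCharacter.isCharacter ψ.2) hψ1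
  set v : Abelianization (DX N) →* ℂˣ := Abelianization.lift l.toHomUnits
  have hv : (fun n : DX N => ((v (Abelianization.of n) : ℂˣ) : ℂ)) = (ψ : DX N → ℂ) := by
    rw [← hl]
    funext n
    rw [Abelianization.lift_apply_of]
    rfl
  rw [← hv] at hψ
  by_cases hv1 : v = 1
  · -- trivial on the derived subgroup
    refine Or.inr (Or.inl ?_)
    have hres := restrict_invariant (⁅N, N⁆ : Subgroup G) χ.2 (isIrr_v v) hψ fun x => by
      rw [hv1]
      funext n
      rw [CliffordChar.conjFun_apply]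
      rfl
    have hker : (⁅N, N⁆ : Subgroup G) ≤ kerSub χ := fun x hx => by
      rw [mem_kerSub]
      have h2 := congrFun hres ⟨x, hx⟩
      have h3 := congrFun hres 1
      simp only [hv1, Pi.smul_apply, smul_eq_mul, MonoidHom.one_apply, Units.val_one, mul_one,
        OneMemClass.coe_one] at h2 h3
      rw [h2, h3]
    obtain ⟨θ, hθ⟩ := exists_constituent (IsCharacter.restrict (IsIrrCharacter.isCharacter χ.2) N)
      (by rw [OneMemClass.coe_one]; exact IsIrrCharacter.apply_one_ne_zero χ.2)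
    have h2 := ThreeDegrees.dvd_mul_index N χ.2 θ.2 hθ
    rw [ThreeDegrees.deg_one_of_commutator_le_kerSub N χ θ hθ hker, one_mul, h.idx] at h2
    obtain ⟨χf, hχf⟩ := h.deg_f
    exact (h.nd.eq_of_dvd (χ' := χf) h1 (hχf ▸ h2)).trans hχf
  · refine Or.inr (Or.inr ?_)
    obtain ⟨π, hπ, hker⟩ := h.exists_retraction hD
    obtain ⟨χd, hχd⟩ := exists_deg_stV π hπ hker v
    obtain ⟨e, -, -, hdeg, -⟩ := degree_over (⁅N, N⁆ : Subgroup G) χ.2 (isIrr_v v) hψ
    have h2 := h.nd.eq_of_dvd (χ := χd) (χ' := χ) (hχd ▸ h.stV_ne_top hD hv1) (by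
      rw [hχd, hdeg]
      exact (dvd_mul_left _ _).mul_right _)
    rw [← h2, hχd, hd v hv1]

end Cfsg.Agent.NoDivDeg
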