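/-
The degrees of the characters of the `q`-group with operators.

Main result: `QData.exists_two_values`.
-/
import Cfsg.Agent.Lib.NoDivDeg.Layer4
import Cfsg.Agent.Lib.CharApp.ThreeDegrees.DerivedLength

set_option autoImplicit false
set_option linter.style.haveILetI false
set_option linter.unusedSectionVars false

namespace Cfsg.Agent.NoDivDeg

open Cfsg Cfsg.Agent.Char Cfsg.Agent.CharApp Cfsg.Agent.CharApp.DegreeSets
open Cfsg.Agent.Codegree (kerSub mem_kerSub)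
open scoped ComplexConjugate commutatorElement

universe u v

variable {Q : Type u} [Group Q] [Finite Q] {C : Type v} [CommGroup C] [Finite C]
  {φ : C →* MulAut Q} {q : ℕ}

theorem bot_le_kerSub (θ : IrrCharacter Q) : (⊥ : Subgroup Q) ≤ kerSub θ := bot_le

/-- The orbit length times the degree takes at most two values; the derived subgroup is abelian. -/
theorem QData.exists_two_values (h : QData φ q) :
    (∃ m₁ m₂ : ℕ, ∀ θ : IrrCharacter Q, charDegree (θ : Q → ℂ) ≠ 1 →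
      (stabC φ (θ : Q → ℂ)).index * charDegree (θ : Q → ℂ) = m₁ ∨
      (stabC φ (θ : Q → ℂ)).index * charDegree (θ : Q → ℂ) = m₂) ∧
    ∀ a ∈ commutator Q, ∀ b ∈ commutator Q, a * b = b * a := by
  classical
  rcases h.allFixed_or_noneFixed with hA | hN
  · obtain ⟨m, hm⟩ := h.exists_deg_of_allFixed hA
    refine ⟨⟨m, m, fun θ hθ => Or.inl ?_⟩, fun a ha b hb => ?_⟩
    · obtain ⟨hs, hd⟩ := (hm θ).resolve_left hθ
      rw [hs, Subgroup.index_top, one_mul, hd]
    · have h2 := ThreeDegrees.derived_two_of_two (G := Q) (m := m) fun θ => (hm θ).imp_right (·.2)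
      rw [derivedSeries_succ, derivedSeries_one, Subgroup.commutator_eq_bot_iff_le_centralizer] at h2
      exact h2 hb a ha
  have hbot := h.lowLay_two_eq_bot hN
  refine ⟨?_, fun a ha b hb => ?_⟩
  swap
  · have h2 := bracket_lay0_lay0 (a := a) (b := b) ha hb
    rw [hbot, Subgroup.mem_bot] at h2
    exact commutatorElement_eq_one_iff_mul_comm.1 h2
  let val2 : IrrCharacter Q → ℕ := fun θ => (stabC φ (θ : Q → ℂ)).index * charDegree (θ : Q → ℂ)
  by_cases hex2 : ∃ θ : IrrCharacter Q, charDegree (θ : Q → ℂ) ≠ 1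
  swap
  · push Not at hex2
    exact ⟨1, 1, fun θ hθ => absurd (hex2 θ) hθ⟩
  -- the values
  let m₂ : ℕ := if hx : ∃ θ : IrrCharacter Q, charDegree (θ : Q → ℂ) ≠ 1 ∧
      lowLay Q 1 ≤ kerSub θ then val2 hx.choose else 0
  let m₃ : ℕ := if hx : ∃ θ : IrrCharacter Q, ∃ ν ∈ central (lowLay Q 1), ν ≠ 1 ∧
      ∀ j ∈ lowLay Q 1, (θ : Q → ℂ) j = (θ : Q → ℂ) 1 * (val ν j : ℂ) then val2 hx.choose else 0
  refine ⟨m₂, m₃, fun θ hθ => ?_⟩
  obtain ⟨ν, hν, hres, -⟩ := exists_central_of_trivial (J := lowLay Q 1) θ (J' := ⊥)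
    (fun j hj w => hbot ▸ (bracket_mem_lowLay hj w).1) (bot_le_kerSub θ)
  by_cases hν1 : ν = 1
  · left
    have hker : lowLay Q 1 ≤ kerSub θ := fun j hj => by
      rw [mem_kerSub, hres j hj, hν1, val_of_mem _ hj, MonoidHom.one_apply, Units.val_one, mul_one]
    have key : ∀ θ : IrrCharacter Q, charDegree (θ : Q → ℂ) ≠ 1 → lowLay Q 1 ≤ kerSub θ →
        ∃ μ ∈ central (lowLay Q 0), μ ≠ 1 ∧ stabC φ (θ : Q → ℂ) = fixer φ μ ∧
          charDegree (θ : Q → ℂ) ^ 2 = (fixMod φ).index := by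
      intro θ hθ hker
      obtain ⟨μ, hμ, hresμ, -⟩ := exists_central_of_trivial (J := lowLay Q 0) θ
        (fun j hj w => (bracket_mem_lowLay hj w).1) hker
      have hμ1 : μ ≠ 1 := fun e => by
        obtain ⟨w, hw, hwD⟩ := h.moved_mem
        refine hwD (h.fixMod_inf_movMod ((h.char_over hμ hθ hresμ).1 ((mem_rad2 hμ).2 fun b => ?_)) hw)
        rw [e, val_of_mem _ (bracket_mem_commutator w b)]
        rfl
      exact ⟨μ, hμ, hμ1, (h.char_over hμ hθ hresμ).2.2, (h.deg_sq_of_moved hμ (hN μ hμ hμ1) hθ hresμ).2⟩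
    have hx : ∃ θ : IrrCharacter Q, charDegree (θ : Q → ℂ) ≠ 1 ∧ lowLay Q 1 ≤ kerSub θ := ⟨θ, hθ, hker⟩
    show val2 θ = m₂
    simp only [m₂, dif_pos hx]
    obtain ⟨μ, hμ, hμ1, hs, hd⟩ := key θ hθ hker
    obtain ⟨μ', hμ', hμ1', hs', hd'⟩ := key hx.choose hx.choose_spec.1 hx.choose_spec.2
    show _ * _ = _ * _
    rw [hs, hs', h.fixer_eq hN hμ hμ' hμ1 hμ1', Nat.pow_left_injective two_ne_zero (hd.trans hd'.symm)]
  · right
    have hx : ∃ θ : IrrCharacter Q, ∃ ν ∈ central (lowLay Q 1), ν ≠ 1 ∧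
        ∀ j ∈ lowLay Q 1, (θ : Q → ℂ) j = (θ : Q → ℂ) 1 * (val ν j : ℂ) := ⟨θ, ν, hν, hν1, hres⟩
    show val2 θ = m₃
    simp only [m₃, dif_pos hx]
    obtain ⟨ν', hν', hν1', hres'⟩ := hx.choose_spec
    obtain ⟨-, hd, hs⟩ := h.char_over_three hN hν hν1 hres
    obtain ⟨-, hd', hs'⟩ := h.char_over_three hN hν' hν1' hres'
    show _ * _ = _ * _
    rw [hs, hs', h.fixer_eq_three hN hν hν' hν1 hν1', Nat.pow_left_injective two_ne_zero (hd.trans hd'.symm)]

end Cfsg.Agent.NoDivDeg
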