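/-
A `q`-group with operators whose elements outside the fixed part act without fixed points on a
nontrivial group of order prime to `q`: impossible when the derived subgroup is nontrivial.

Main results: `mul_pow_of_bracket`, `false_of_class_two`, `QData.false_of_action`.
-/
import Cfsg.Agent.Lib.NoDivDeg.Degrees

set_option autoImplicit false
set_option linter.style.haveILetI false
set_option linter.unusedSectionVars false

namespace Cfsg.Agent.NoDivDeg

open scoped commutatorElement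

universe u v w

theorem mul_pow_of_bracket {M : Type*} [Group M] {a b z : M} (hz : z = ⁅b, a⁆) (ha : Commute z a)
    (hb : Commute z b) (n : ℕ) : (a * b) ^ n = a ^ n * b ^ n * z ^ n.choose 2 := by
  have hba : ∀ k : ℕ, b ^ k * a = z ^ k * (a * b ^ k) := by
    intro k
    induction k with
    | zero => simp
    | succ k ih =>
      have e1 : b * a = z * (a * b) := by rw [hz, commutatorElement_def]; group
      calc b ^ (k + 1) * a = b ^ k * (b * a) := by rw [pow_succ, mul_assoc]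
        _ = b ^ k * z * (a * b) := by rw [e1, ← mul_assoc]
        _ = z * (b ^ k * a) * b := by rw [← (hb.pow_right k).eq]; simp only [mul_assoc]
        _ = z ^ (k + 1) * (a * b ^ (k + 1)) := by rw [ih, pow_succ' z, pow_succ b]; simp only [mul_assoc]
  induction n with
  | zero => simp
  | succ k ih =>
    have e1 : z ^ k.choose 2 * (a * b) = a * b * z ^ k.choose 2 :=
      ((ha.mul_right hb).pow_left _).eq
    have e2 : z ^ k * (a * b ^ (k + 1)) = a * b ^ (k + 1) * z ^ k :=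
      ((ha.mul_right (hb.pow_right _)).pow_left _).eq
    rw [pow_succ, ih, Nat.choose_succ_succ', Nat.choose_one_right, pow_add z]
    calc a ^ k * b ^ k * z ^ k.choose 2 * (a * b) = a ^ k * b ^ k * (z ^ k.choose 2 * (a * b)) := by
          simp only [mul_assoc]
      _ = a ^ k * (b ^ k * a) * b * z ^ k.choose 2 := by rw [e1]; simp only [mul_assoc]
      _ = a ^ k * (z ^ k * (a * b ^ (k + 1))) * z ^ k.choose 2 := by
          rw [hba, pow_succ b]; simp only [mul_assoc]
      _ = a ^ (k + 1) * b ^ (k + 1) * (z ^ k * z ^ k.choose 2) := by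
          rw [e2, pow_succ a]; simp only [mul_assoc]

theorem dvd_choose_two {q : ℕ} (hq : q.Prime) (h2 : q ≠ 2) : q ∣ q.choose 2 :=
  hq.dvd_choose_self two_ne_zero (lt_of_le_of_ne hq.two_le (Ne.symm h2))

/-- Elements outside `D` without fixed points, powers and brackets in a group of order `q`: impossible
with two independent elements (and more than four classes when `q = 2`). -/
theorem false_of_class_two {P : Type u} [Group P] [Finite P] {U : Type w} [CommGroup U] [Finite U]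
    [Nontrivial U] {q : ℕ} (hq : q.Prime) (hU : (Nat.card U).Coprime q) (σ : P →* MulAut U)
    (D : Subgroup P) [D.Normal] (hexp : ∀ x, x ^ q ∈ D) {z : P} (hz : z ∈ D) (hzq : σ (z ^ q) = 1)
    (hzf : σ z = 1 ∨ ∀ i : ℕ, ¬ q ∣ i → ∀ u, σ (z ^ i) u = u → u = 1)
    (hzc : ∀ x, Commute (σ x) (σ z)) (hbr : ∀ a b : P, ∃ i : ℕ, σ ⁅a, b⁆ = σ (z ^ i))
    (hpow : ∀ x, ∃ i : ℕ, σ (x ^ q) = σ (z ^ i))
    (hfpf : ∀ x ∉ D, ∀ u, σ x u = u → u = 1)
    {a₀ b₀ : P} (hind : ∀ i j : ℕ, a₀ ^ i * b₀ ^ j ∈ D → q ∣ i ∧ q ∣ j)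
    (h4 : q = 2 → 4 < D.index) : False := by
  classical
  haveI := Fact.mk hq
  obtain ⟨u, hu⟩ := exists_ne (1 : U)
  have hzc' : ∀ (i : ℕ) (x : P), Commute (σ (z ^ i)) (σ x) := fun i x => by
    rw [map_pow]
    exact (hzc x).symm.pow_left i
  have hzqi : ∀ i : ℕ, σ (z ^ i) ^ q = 1 := fun i => by
    rw [← map_pow, ← pow_mul, mul_comm, pow_mul, map_pow, hzq, one_pow]
  rcases hzf with hz1 | hzf
  · -- trivial centre: an abelian image
    have htriv : ∀ i : ℕ, σ (z ^ i) = 1 := fun i => by rw [map_pow, hz1, one_pow]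
    refine hu (Fpf.eq_one_of_two σ hq hU (h := a₀) (k := b₀) ?_ ?_ ?_ (fun i j hij v hv => ?_) u)
    · obtain ⟨i, hi⟩ := hbr a₀ b₀
      rw [map_commutatorElement, htriv] at hi
      exact commutatorElement_eq_one_iff_mul_comm.1 hi
    · obtain ⟨i, hi⟩ := hpow a₀
      rw [hi, htriv]
    · obtain ⟨i, hi⟩ := hpow b₀
      rw [hi, htriv]
    · exact hfpf _ (fun hm => hij (hind i j hm)) v (by rw [map_mul, MulAut.mul_apply]; exact hv)
  -- an element of order `q` outside `D` against the centre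
  suffices hx : ∃ x, x ∉ D ∧ σ (x ^ q) = 1 by
    obtain ⟨x, hxD, hxq⟩ := hx
    refine hu (Fpf.eq_one_of_two σ hq hU (h := x) (k := z) (hzc x) hxq hzq (fun i j hij v hv => ?_) u)
    by_cases hi : q ∣ i
    · obtain ⟨i, rfl⟩ := hi
      rw [pow_mul, map_pow σ (x ^ q), hxq, one_pow, MulAut.one_apply] at hv
      exact hzf j (fun hj => hij ⟨dvd_mul_right q i, hj⟩) v hv
    · refine hfpf (x ^ i * z ^ j) (fun hm => hxD ?_) v (by rw [map_mul, MulAut.mul_apply]; exact hv)
      have hxi : x ^ i ∈ D := by simpa using D.mul_mem hm (D.inv_mem (D.pow_mem hz j))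
      exact mem_of_coprime_pow D ((hq.coprime_iff_not_dvd.2 hi).symm) hxi (hexp x)
  obtain ⟨a, b, hab, hcom⟩ : ∃ a b : P, (∀ i j : ℕ, a ^ i * b ^ j ∈ D → q ∣ i ∧ q ∣ j) ∧
      (q = 2 → Commute (σ a) (σ b)) := by
    by_cases h2 : q = 2
    swap
    · exact ⟨a₀, b₀, hind, fun e => absurd e h2⟩
    have ha₀ : a₀ ∉ D := fun hm => hq.not_dvd_one (hind 1 0 (by simpa using hm)).1
    -- the elements commuting with `a₀` in the image
    let χ : P →* MulAut U :=
      { toFun := fun b => σ ⁅a₀, b⁆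
        map_one' := by rw [commutatorElement_one_right, map_one]
        map_mul' := fun b b' => by
          obtain ⟨i, hi⟩ := hbr a₀ b'
          rw [show ⁅a₀, b * b'⁆ = ⁅a₀, b⁆ * (b * ⁅a₀, b'⁆ * b⁻¹) by
            simp only [commutatorElement_def]; group, map_mul, map_mul, map_mul, hi,
            ← (hzc' i b).eq, mul_assoc (σ (z ^ i)), ← map_mul σ b, mul_inv_cancel, map_one, mul_one] }
    have hran : χ.range ≤ Subgroup.zpowers (σ z) := by
      rintro _ ⟨b, rfl⟩
      obtain ⟨i, hi⟩ := hbr a₀ b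
      show σ ⁅a₀, b⁆ ∈ _
      rw [hi, map_pow]
      exact Subgroup.npow_mem_zpowers _ _
    have hker : χ.ker.index ≤ 2 := by
      rw [Subgroup.index_ker]
      refine (Subgroup.card_le_of_le hran).trans ?_
      rw [Nat.card_zpowers]
      exact Nat.le_of_dvd two_pos (orderOf_dvd_of_pow_eq_one (by rw [← map_pow, ← h2, hzq]))
    set S := Subgroup.zpowers a₀ ⊔ D with hS
    have hSr : D.relIndex S ≤ 2 := by
      rw [hS, Subgroup.relIndex_sup_right, ← QuotientGroup.ker_mk' D, Subgroup.relIndex_ker,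
        MonoidHom.map_zpowers, Nat.card_zpowers]
      exact Nat.le_of_dvd two_pos (orderOf_dvd_of_pow_eq_one (by
        rw [← map_pow]; exact (QuotientGroup.eq_one_iff _).2 (h2 ▸ hexp a₀)))
    obtain ⟨b, hbK, hbS⟩ : ∃ b ∈ χ.ker, b ∉ S := by
      by_contra hno
      push Not at hno
      have h1 : S.index ≤ 2 :=
        (Nat.le_of_dvd (Nat.pos_of_ne_zero Subgroup.index_ne_zero_of_finite)
          (Subgroup.index_dvd_of_le hno)).trans hker
      have h3 := Subgroup.relIndex_mul_index (show D ≤ S from le_sup_right)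
      have h5 := h4 h2
      have := Nat.mul_le_mul hSr h1
      omega
    refine ⟨a₀, b, fun i j hm => ?_, fun _ => commutatorElement_eq_one_iff_mul_comm.1
      ((map_commutatorElement σ a₀ b).symm.trans hbK)⟩
    have hbj : q ∣ j := by
      by_contra hj
      refine hbS (mem_of_coprime_pow S ((hq.coprime_iff_not_dvd.2 hj).symm) ?_ (le_sup_right (α := Subgroup P) (hexp b)))
      rw [show b ^ j = (a₀ ^ i)⁻¹ * (a₀ ^ i * b ^ j) by group]
      exact S.mul_mem (S.inv_mem (le_sup_left (α := Subgroup P) (Subgroup.npow_mem_zpowers _ _)))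
        (le_sup_right (α := Subgroup P) hm)
    refine ⟨?_, hbj⟩
    by_contra hi
    obtain ⟨j', rfl⟩ := hbj
    have : a₀ ^ i ∈ D := by
      have := D.mul_mem hm (D.inv_mem (D.pow_mem (hexp b) j'))
      rwa [← pow_mul, mul_inv_cancel_right] at this
    exact ha₀ (mem_of_coprime_pow D ((hq.coprime_iff_not_dvd.2 hi).symm) this (hexp a₀))
  obtain ⟨ia, hia⟩ := hpow a
  obtain ⟨ib, hib⟩ := hpow b
  by_cases hiaq : q ∣ ia
  · refine ⟨a, fun hm => hq.not_dvd_one (hab 1 0 (by simpa using hm)).1, ?_⟩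
    obtain ⟨k, rfl⟩ := hiaq
    rw [hia, pow_mul, map_pow, hzq, one_pow]
  set r := q - ia % q with hr
  have hrq : ¬ q ∣ r := fun hd => by
    have h1 : ia % q ≠ 0 := fun e => hiaq (Nat.dvd_of_mod_eq_zero e)
    have h3 := Nat.mod_lt ia hq.pos
    have := Nat.le_of_dvd (by omega) hd
    omega
  refine ⟨a ^ ib * b ^ r, fun hm => hrq (hab _ _ hm).2, ?_⟩
  rw [map_pow, map_mul]
  set A := σ (a ^ ib)
  set B := σ (b ^ r)
  obtain ⟨k, hk⟩ := hbr (b ^ r) (a ^ ib)
  have hZ : σ (z ^ k) = ⁅B, A⁆ := by rw [← hk, map_commutatorElement]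
  have hch : σ (z ^ k) ^ q.choose 2 = 1 := by
    by_cases h2 : q = 2
    · have hc : Commute A B := by
        simp only [A, B, map_pow]
        exact (hcom h2).pow_pow _ _
      rw [hZ, commutatorElement_eq_one_iff_mul_comm.2 hc.symm.eq, one_pow]
    · obtain ⟨c, hc⟩ := dvd_choose_two hq h2
      rw [hc, pow_mul, hzqi, one_pow]
  rw [mul_pow_of_bracket hZ (hzc' k _) (hzc' k _), hch, mul_one]
  show σ (a ^ ib) ^ q * σ (b ^ r) ^ q = 1
  rw [← map_pow σ (a ^ ib), ← map_pow σ (b ^ r), ← pow_mul a, ← pow_mul b, mul_comm ib q, mul_comm r q,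
    pow_mul a, pow_mul b, map_pow σ (a ^ q), map_pow σ (b ^ q), hia, hib, ← map_pow, ← map_pow, ← pow_mul,
    ← pow_mul, ← map_mul, ← pow_add]
  have h3 := Nat.mod_lt ia hq.pos
  have h5 := Nat.mod_add_div ia q
  have : ia * ib + ib * r = q * (ib * (ia / q + 1)) := by
    have e : ia + r = q * (ia / q + 1) := by
      rw [mul_add, mul_one]
      omega
    rw [mul_comm ia ib, ← mul_add, e]
    ring
  rw [this, pow_mul, map_pow, hzq, one_pow]

open Cfsg Cfsg.Agent.Char Cfsg.Agent.CharApp Cfsg.Agent.CharApp.DegreeSets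
open scoped ComplexConjugate

variable {Q : Type u} [Group Q] [Finite Q] {C : Type v} [CommGroup C] [Finite C] {φ : C →* MulAut Q}
  {q : ℕ} {U : Type w} [CommGroup U] [Finite U] [Nontrivial U]

/-- Powers and brackets of a part of the moved elements lying in a central layer. -/
theorem QData.false_of_part (h : QData φ q) (ρ : Q →* MulAut U) (hU : (Nat.card U).Coprime q)
    (hfpf : ∀ x ∉ fixMod φ, ∀ u, ρ x u = u → u = 1) (P M : Subgroup Q) (hP : P ≤ movMod φ)
    (hM : M ≤ commutator Q) (hMP : M ≤ P) (hbr : ∀ a ∈ P, ∀ b ∈ P, ⁅a, b⁆ ∈ M)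
    (hpow : ∀ a ∈ P, a ^ q ∈ M) (hMq : ∀ m ∈ M, m ^ q = 1) (hMc : ∀ m ∈ M, ∀ a ∈ P, m * a = a * m)
    {a₀ b₀ : Q} (ha₀ : a₀ ∈ P) (hb₀ : b₀ ∈ P)
    (hind : ∀ i j : ℕ, a₀ ^ i * b₀ ^ j ∈ commutator Q → q ∣ i ∧ q ∣ j)
    (h4 : q = 2 → 4 < (commutator Q).relIndex P) : False := by
  classical
  haveI := Fact.mk h.prime
  have hout : ∀ x : P, x ∉ (commutator Q).subgroupOf P → ∀ u, ρ (x : Q) u = u → u = 1 := fun x hx =>
    hfpf _ fun hf => hx (Subgroup.mem_subgroupOf.2 (h.fixMod_inf_movMod hf (hP x.2)))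
  by_cases htriv : ∀ m ∈ M, ρ m = 1
  · exact false_of_class_two h.prime hU (ρ.comp P.subtype) ((commutator Q).subgroupOf P)
      (fun x => Subgroup.mem_subgroupOf.2 (hM (hpow _ x.2))) (z := 1) (one_mem _) (by simp)
      (Or.inl (map_one _)) (fun x => by rw [map_one]; exact Commute.one_right _)
      (fun a b => ⟨0, by
        rw [pow_zero, map_one, MonoidHom.comp_apply, Subgroup.coe_subtype]
        exact htriv _ (hbr _ a.2 _ b.2)⟩)
      (fun x => ⟨0, by
        rw [pow_zero, map_one, MonoidHom.comp_apply, Subgroup.coe_subtype]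
        exact htriv _ (hpow _ x.2)⟩)
      hout (a₀ := ⟨a₀, ha₀⟩) (b₀ := ⟨b₀, hb₀⟩)
      (fun i j hm => hind i j (by simpa using Subgroup.mem_subgroupOf.1 hm)) h4
  push Not at htriv
  obtain ⟨m₁, hm₁, hm₁'⟩ := htriv
  letI : CommGroup (M.map ρ) :=
    { (inferInstance : Group (M.map ρ)) with
      mul_comm := by
        rintro ⟨_, a, ha, rfl⟩ ⟨_, b, hb, rfl⟩
        refine Subtype.ext ?_
        show ρ a * ρ b = ρ b * ρ a
        rw [← map_mul, ← map_mul, hMc a ha b (hMP hb)] }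
  haveI : Finite (M.map ρ) := Finite.of_surjective (ρ.subgroupMap M) (MonoidHom.subgroupMap_surjective _ _)
  obtain ⟨K, U', z, hne, hzK, hidx, hK, hinv, hzf⟩ := Fpf.exists_hyperplane h.prime (M.map ρ).subtype
    (fun w => by
      obtain ⟨_, a, ha, rfl⟩ := w
      refine Subtype.ext ?_
      show ρ a ^ q = 1
      rw [← map_pow, hMq a ha, map_one])
    hU (by
      by_contra hall
      push Not at hall
      exact hm₁' (MulEquiv.ext fun u => hall ⟨ρ m₁, m₁, hm₁, rfl⟩ u))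
  obtain ⟨m₀, hm₀, hm₀z⟩ : ∃ m₀ ∈ M, ρ m₀ = (z : MulAut U) := z.2
  have hinv' : ∀ a ∈ P, ∀ u ∈ U', ρ a u ∈ U' := fun a ha u hu => hinv (ρ a) (fun w => by
    obtain ⟨_, m, hm, rfl⟩ := w
    show ρ a * ρ m = ρ m * ρ a
    rw [← map_mul, ← map_mul, hMc m hm a ha]) u hu
  haveI : Nontrivial U' := (Subgroup.nontrivial_iff_ne_bot U').2 hne
  let σ : P →* MulAut U' :=
    { toFun := fun a =>
        { toFun := fun u => ⟨ρ (a : Q) u, hinv' a a.2 u u.2⟩
          invFun := fun u => ⟨ρ (a : Q)⁻¹ u, hinv' _ (P.inv_mem a.2) u u.2⟩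
          left_inv := fun u => Subtype.ext (by simp)
          right_inv := fun u => Subtype.ext (by simp)
          map_mul' := fun u v => Subtype.ext (map_mul _ _ _) }
      map_one' := MulEquiv.ext fun u => Subtype.ext (by simp)
      map_mul' := fun a b => MulEquiv.ext fun u => Subtype.ext (by simp [map_mul]) }
  set z₀ : P := ⟨m₀, hMP hm₀⟩
  have hclass : ∀ m : P, (m : Q) ∈ M → ∃ i : ℕ, σ m = σ (z₀ ^ i) := by
    intro m hm
    have hz1 : ((z : M.map ρ) : M.map ρ ⧸ K) ≠ 1 := fun e => hzK ((QuotientGroup.eq_one_iff z).1 e)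
    obtain ⟨i, hi⟩ := mem_powers_of_prime_card (p := q) (K.index_eq_card ▸ hidx)
      (g := ((z : M.map ρ) : M.map ρ ⧸ K)) (g' := ((⟨ρ (m : Q), m, hm, rfl⟩ : M.map ρ) : M.map ρ ⧸ K)) hz1
    refine ⟨i, MulEquiv.ext fun u => Subtype.ext ?_⟩
    simp only at hi
    rw [← QuotientGroup.mk_pow] at hi
    have hk : ((z : MulAut U) ^ i)⁻¹ * ρ (m : Q) = (((z ^ i)⁻¹ * ⟨ρ (m : Q), m, hm, rfl⟩ : M.map ρ) : MulAut U) :=
      rfl
    have h1 := hK _ (QuotientGroup.eq.1 hi) u u.2
    change (((z ^ i)⁻¹ * ⟨ρ (m : Q), m, hm, rfl⟩ : M.map ρ) : MulAut U) (u : U) = u at h1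
    rw [← hk, MulAut.mul_apply, ← hm₀z, ← map_pow, ← map_inv] at h1
    show ρ (m : Q) (u : U) = ρ ((z₀ ^ i : P) : Q) (u : U)
    rw [SubmonoidClass.coe_pow]
    refine (ρ (m₀ ^ i)⁻¹).injective (h1.trans ?_)
    rw [← MulAut.mul_apply, ← map_mul, inv_mul_cancel, map_one, MulAut.one_apply]
  refine false_of_class_two h.prime (hU.coprime_dvd_left (Subgroup.card_subgroup_dvd_card U')) σ
    ((commutator Q).subgroupOf P) (fun x => Subgroup.mem_subgroupOf.2 (hM (hpow _ x.2))) (z := z₀)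
    (Subgroup.mem_subgroupOf.2 (hM hm₀)) ?_ (Or.inr fun i hi u hu => Subtype.ext ?_)
    (fun x => by
      show σ x * σ z₀ = σ z₀ * σ x
      rw [← map_mul, ← map_mul]
      exact congrArg σ (Subtype.ext (hMc m₀ hm₀ x x.2).symm))
    (fun a b => hclass ⁅a, b⁆ (hbr _ a.2 _ b.2))
    (fun x => hclass (x ^ q) (hpow _ x.2)) (fun x hx u hu => Subtype.ext (hout x hx u (congrArg Subtype.val hu)))
    (a₀ := ⟨a₀, ha₀⟩) (b₀ := ⟨b₀, hb₀⟩)
    (fun i j hm => hind i j (by simpa using Subgroup.mem_subgroupOf.1 hm)) h4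
  · rw [show z₀ ^ q = 1 from Subtype.ext (hMq m₀ hm₀), map_one]
  · refine hzf i hi u u.2 ?_
    have h1 : ρ ((z₀ ^ i : P) : Q) (u : U) = u := congrArg Subtype.val hu
    rw [SubmonoidClass.coe_pow, map_pow, show ρ (z₀ : Q) = (z : MulAut U) from hm₀z] at h1
    simpa using h1

theorem card_central_lay (k : ℕ) : Nat.card (central (lowLay Q k)) = Nat.card (Lay Q k) := by
  rw [← card_dual (Lay Q k)]
  refine (Nat.card_eq_of_bijective (fun l : Lay Q k →* ℂˣ =>
    (⟨layChar l, layChar_central l⟩ : central (lowLay Q k))) ⟨fun l l' e => ?_, fun μ => ?_⟩).symm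
  · refine MonoidHom.ext fun z => ?_
    obtain ⟨x, rfl⟩ := toLay_surjective k z
    exact DFunLike.congr_fun (congrArg Subtype.val e) x
  · refine ⟨descend (μ : lowLay Q k →* ℂˣ) fun x hx => val_next_layer μ.2 hx,
      Subtype.ext (MonoidHom.ext fun x => ?_)⟩
    exact descend_apply (μ : lowLay Q k →* ℂˣ) (fun x hx => val_next_layer μ.2 hx) x

theorem QData.isPGroup_lay (h : QData φ q) (k : ℕ) : ∃ a, Nat.card (Lay Q k) = q ^ a := by
  haveI := Fact.mk h.prime
  exact IsPGroup.iff_card.1 ((h.pgroup.to_quotient _).to_subgroup _)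

/-- The number of moved classes is congruent to one modulo the number of operators. -/
theorem QData.dvd_relIndex_sub_one (h : QData φ q) :
    Nat.card C ∣ (commutator Q).relIndex (movMod φ) - 1 := by
  set S := (movMod φ).map (Abelianization.of : Q →* Abelianization Q)
  have hS : ∀ c : C, ∀ s ∈ S, (φ c).abelianizationCongr s ∈ S := by
    rintro c _ ⟨w, hw, rfl⟩
    exact ⟨φ c w, phi_mem_movMod φ c hw, rfl⟩
  have hmul : ∀ (c d : C) (a : Abelianization Q), (φ (c * d)).abelianizationCongr a =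
      (φ c).abelianizationCongr ((φ d).abelianizationCongr a) := fun c d a => by
    obtain ⟨x, rfl⟩ := abelianizationOf_surjective a
    rw [map_mul]
    rfl
  have hone : ∀ a : Abelianization Q, (φ 1).abelianizationCongr a = a := fun a => by
    obtain ⟨x, rfl⟩ := abelianizationOf_surjective a
    rw [map_one]
    rfl
  let act : C →* MulAut S :=
    { toFun := fun c =>
        { toFun := fun s => ⟨_, hS c s s.2⟩
          invFun := fun s => ⟨_, hS c⁻¹ s s.2⟩
          left_inv := fun s => Subtype.ext (by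
            show (φ c⁻¹).abelianizationCongr ((φ c).abelianizationCongr (s : Abelianization Q)) = s
            rw [← hmul, inv_mul_cancel, hone])
          right_inv := fun s => Subtype.ext (by
            show (φ c).abelianizationCongr ((φ c⁻¹).abelianizationCongr (s : Abelianization Q)) = s
            rw [← hmul, mul_inv_cancel, hone])
          map_mul' := fun s t => Subtype.ext (map_mul _ _ _) }
      map_one' := MulEquiv.ext fun s => Subtype.ext (hone _)
      map_mul' := fun c d => MulEquiv.ext fun s => Subtype.ext (hmul c d _) }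
  have h1 := Fpf.dvd_card_sub_one act fun c hc s hs => by
    obtain ⟨_, w, hw, rfl⟩ := s
    refine Subtype.ext ?_
    show Abelianization.of w = 1
    exact (QuotientGroup.eq_one_iff w).2 (h.delta_injective hc hw (congrArg Subtype.val hs))
  rwa [show Nat.card S = (commutator Q).relIndex (movMod φ) by
    rw [← Subgroup.relIndex_ker]
    congr 1
    exact QuotientGroup.ker_mk' _] at h1

theorem QData.four_le_card (h : QData φ q) : 4 ≤ Nat.card C := by
  obtain ⟨c, hc⟩ := h.exists_ne_one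
  haveI : Nontrivial C := ⟨⟨c, 1, hc⟩⟩
  have := Finite.one_lt_card (α := C)
  by_contra hlt
  exact h.notPrime (by interval_cases Nat.card C <;> norm_num)

theorem QData.five_le_relIndex (h : QData φ q) : 4 < (commutator Q).relIndex (movMod φ) := by
  obtain ⟨w, hw, hwD⟩ := h.moved_mem
  have h0 : (commutator Q).relIndex (movMod φ) ≠ 0 := Subgroup.index_ne_zero_of_finite
  have h1 : (commutator Q).relIndex (movMod φ) ≠ 1 := fun e => hwD (Subgroup.relIndex_eq_one.1 e hw)
  have h2 := Nat.le_of_dvd (by omega) h.dvd_relIndex_sub_one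
  have := h.four_le_card
  omega

theorem QData.ind_of_pair (h : QData φ q) {J : Subgroup Q} [J.Normal] {ν : J →* ℂˣ} (hν : ν ∈ central J)
    {a b : Q} (H : Subgroup Q) (hbr : ∀ x ∈ H, ∀ y ∈ H, ⁅x, y⁆ ∈ J) (ha : a ∈ H) (hb : b ∈ H)
    (hq : val ν ⁅a, b⁆ ^ q = 1) (hne : val ν ⁅a, b⁆ ≠ 1)
    (hD : ∀ d ∈ commutator Q, d ∈ H → ∀ x ∈ H, val ν ⁅d, x⁆ = 1) (i j : ℕ)
    (hm : a ^ i * b ^ j ∈ commutator Q) : q ∣ i ∧ q ∣ j := by
  have hord : ∀ k : ℕ, val ν ⁅a, b⁆ ^ k = 1 → q ∣ k := fun k hk => by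
    haveI := Fact.mk h.prime
    have := orderOf_eq_prime hq hne
    exact this ▸ orderOf_dvd_of_pow_eq_one hk
  have hin := H.mul_mem (H.pow_mem ha i) (H.pow_mem hb j)
  constructor
  · refine hord i ?_
    have h1 := hD _ hm hin b hb
    rw [pair_mul_left hν (hbr _ (H.pow_mem ha i) b hb) (hbr _ (H.pow_mem hb j) b hb),
      pair_pow_left hν H (fun x hx => hbr x hx b hb) ha, pair_pow_left hν H (fun x hx => hbr x hx b hb) hb,
      commutatorElement_self, val_one, one_pow, mul_one] at h1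
    exact h1
  · refine hord j ?_
    have h1 := hD _ hm hin a ha
    rw [pair_mul_left hν (hbr _ (H.pow_mem ha i) a ha) (hbr _ (H.pow_mem hb j) a ha),
      pair_pow_left hν H (fun x hx => hbr x hx a ha) ha, pair_pow_left hν H (fun x hx => hbr x hx a ha) hb,
      commutatorElement_self, val_one, one_pow, one_mul, pair_swap ν (hbr a ha b hb), inv_pow,
      inv_eq_one] at h1
    exact h1

theorem QData.exists_pair_mov (h : QData φ q) {μ : lowLay Q 0 →* ℂˣ} (hμ : μ ∈ central (lowLay Q 0))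
    (hμ1 : μ ≠ 1) : ∃ a ∈ movMod φ, ∃ b ∈ movMod φ, val μ ⁅a, b⁆ ≠ 1 := by
  obtain ⟨w, hw, hwD⟩ := h.moved_mem
  by_contra hall
  push Not at hall
  refine hwD (h.rad2_mov hμ hμ1 ((mem_rad2 hμ).2 fun t => ?_) hw)
  obtain ⟨w', hw', m, hm, rfl⟩ := h.exists_decomp t
  rw [pair_mul_right hμ (bracket_mem_commutator _ _) (bracket_mem_commutator _ _), hall w hw w' hw',
    h.pair_mov_fix hμ hw hm, one_mul]

theorem QData.val_pow_q (h : QData φ q) {μ : lowLay Q 0 →* ℂˣ} (hμ : μ ∈ central (lowLay Q 0)) {x : Q}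
    (hx : x ∈ lowLay Q 0) : val μ x ^ q = 1 := by
  rw [val_of_mem μ hx, ← MonoidHom.pow_apply, h.pow_eq_one hμ]
  rfl

theorem QData.pow_mem_lay1 (h : QData φ q) {v : Q} (hv : v ∈ lowLay Q 0) : v ^ q ∈ lowLay Q 1 :=
  separation (J := lowLay Q 0) (fun j hj w => (bracket_mem_lowLay hj w).1) ((lowLay Q 0).pow_mem hv q)
    fun μ hμ _ => by rw [val_pow μ hv, h.val_pow_q hμ hv]

theorem QData.lay1_pow (h : QData φ q) (hN : NoneFixed φ) {x : Q} (hx : x ∈ lowLay Q 1) : x ^ q = 1 := by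
  have hcen : ∀ a ∈ lowLay Q 1, ∀ b : Q, a * b = b * a := fun a ha b => by
    have h2 := (bracket_mem_lowLay ha b).1
    rw [h.lowLay_two_eq_bot hN, Subgroup.mem_bot, commutatorElement_eq_one_iff_mul_comm] at h2
    exact h2
  refine Subgroup.closure_induction (p := fun a _ => a ^ q = 1) ?_ (one_pow q) ?_ ?_
    (show x ∈ Subgroup.closure {g | ∃ a ∈ lowLay Q 0, ∃ b ∈ (⊤ : Subgroup Q), ⁅a, b⁆ = g} from hx)
  · rintro _ ⟨v, hv, b, -, rfl⟩
    have hl : ∀ n : ℕ, ⁅v ^ n, b⁆ = ⁅v, b⁆ ^ n := by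
      intro n
      induction n with
      | zero => simp
      | succ n ih =>
        rw [pow_succ' v, pow_succ, ← ih]
        rw [show ⁅v * v ^ n, b⁆ = v * ⁅v ^ n, b⁆ * v⁻¹ * ⁅v, b⁆ by simp only [commutatorElement_def]; group,
          ← hcen _ (mem_lay1 ((lowLay Q 0).pow_mem hv n) b) v, mul_inv_cancel_right]
    rw [← hl, commutatorElement_eq_one_iff_mul_comm]
    exact hcen _ (h.pow_mem_lay1 hv) b
  · intro a b ha _ e1 e2
    rw [Commute.mul_pow (hcen a ha b), e1, e2, one_mul]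
  · intro a _ e
    rw [inv_pow, e, inv_one]

/-- Powers of elements killed against the derived subgroup fall into the second layer. -/
theorem QData.pow_mem_lay1_of_lperp (h : QData φ q) (hN : NoneFixed φ) {ν : lowLay Q 1 →* ℂˣ}
    (hν : ν ∈ central (lowLay Q 1)) (hν1 : ν ≠ 1) {w : Q} (hw : w ∈ movMod φ) (hw' : w ∈ lperp hν) :
    w ^ q ∈ lowLay Q 1 := by
  obtain ⟨hab, -⟩ : (∀ a ∈ commutator Q, ∀ b ∈ commutator Q, a * b = b * a) ∧ True :=
    ⟨h.exists_two_values.2, trivial⟩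
  obtain ⟨g, hg, hg1⟩ := h.exists_mem_fixer (lowLay_le 1) hν hν1
  -- the `q`-th powers of the derived subgroup are killed
  have hcq : ∀ d ∈ lowLay Q 0, val ν (d ^ q) = 1 := by
    intro d hd
    obtain ⟨u, hu, hdu⟩ := exists_delta_mod (φ := φ) (c := g) (H := lowLay Q 0) (J := lowLay Q 1)
      (fun x hx => phi_mem φ g hx) (fun x hx => phi_mem φ g hx)
      (fun x hx => h.fpf_lay hN (h.not_fixesLayer hν hν1 hN hg hg1) hx) (r := d) hd
    have hgu : φ g u ∈ lowLay Q 0 := phi_mem φ g hu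
    set e := (φ g u * u⁻¹)⁻¹ * d
    rw [show d = φ g u * u⁻¹ * e from (mul_inv_cancel_left _ _).symm,
      Commute.mul_pow (hab _ ((lowLay Q 0).mul_mem hgu ((lowLay Q 0).inv_mem hu)) _ (lowLay_le 1 hdu)),
      h.lay1_pow hN hdu, mul_one, Commute.mul_pow (hab _ hgu _ ((lowLay Q 0).inv_mem hu)), inv_pow,
      val_mul ν (h.pow_mem_lay1 hgu) ((lowLay Q 1).inv_mem (h.pow_mem_lay1 hu)), ← map_pow,
      val_inv ν (h.pow_mem_lay1 hu), hg _ (h.pow_mem_lay1 hu), mul_inv_cancel]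
  haveI hne : Nontrivial (Lay Q 1) := by
    obtain ⟨x, hx, hxne⟩ := exists_val_ne hν1
    exact ⟨⟨toLay 1 ⟨x, hx⟩, 1, fun e => hxne (val_next_layer hν (toLay_eq_one.1 e))⟩⟩
  have hwD : w ^ q ∈ lowLay Q 0 := by
    obtain ⟨x, hx, hxne⟩ := exists_val_ne hν1
    by_cases htop : lowLay Q 0 ≤ lowLay Q 1
    · haveI := Fact.mk h.prime
      haveI : Group.IsNilpotent Q := h.pgroup.isNilpotent
      have hb := lowLay_eq_bot_of_le htop
      exact absurd (show x = 1 from (Subgroup.mem_bot).1 (hb ▸ lowLay_succ_le 0 hx))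
        (fun e => hxne (by rw [e, val_one]))
    obtain ⟨v, hv, hv'⟩ := SetLike.not_le_iff_exists.1 htop
    obtain ⟨l, hl⟩ := exists_dual_ne (a := toLay 0 ⟨v, hv⟩) fun e => hv' (toLay_eq_one.1 e)
    exact h.pow_mem_commutator (layChar_central l) (layChar_ne_one fun e => hl (by rw [e]; rfl)) hw
  refine h.left_radical hN hν hν1 hwD fun y => ?_
  set d := ⁅w, y⁆
  have hd : d ∈ lowLay Q 0 := bracket_mem_commutator w y
  have hstep : ∀ n : ℕ, ⁅w ^ n, y⁆ * (d ^ n)⁻¹ ∈ lowLay Q 1 ∧ val ν (⁅w ^ n, y⁆ * (d ^ n)⁻¹) = 1 := by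
    intro n
    induction n with
    | zero =>
      rw [pow_zero, pow_zero, commutatorElement_one_left, inv_one, one_mul]
      exact ⟨one_mem _, val_one ν⟩
    | succ n ih =>
      set e := ⁅w ^ n, y⁆
      have he : e ∈ lowLay Q 0 := bracket_mem_commutator _ _
      have e1 : ⁅w ^ (n + 1), y⁆ * (d ^ (n + 1))⁻¹ = ⁅w, e⁆ * (e * (d ^ n)⁻¹) := by
        rw [pow_succ' w, show ⁅w * w ^ n, y⁆ = ⁅w, e⁆ * e * d by
          simp only [e, d, commutatorElement_def]; group, pow_succ, mul_inv_rev, mul_assoc _ d,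
          mul_inv_cancel_left, mul_assoc]
      have hm := (bracket_mem_lowLay he w).2
      refine e1 ▸ ⟨(lowLay Q 1).mul_mem hm ih.1, ?_⟩
      rw [val_mul ν hm ih.1, ih.2, mul_one, pair_swap ν (mem_lay1 he w), hw' e he, inv_one]
  have h1 := hstep q
  have hdq := h.pow_mem_lay1 hd
  rw [← inv_mul_cancel_right ⁅w ^ q, y⁆ (d ^ q), val_mul ν h1.1 hdq, h1.2, hcq d hd, one_mul]

theorem QData.card_free (h : QData φ q) (k : ℕ) (S : Subgroup C)
    (hS : ∀ c ∈ S, ∀ μ : lowLay Q k →* ℂˣ, μ ∈ central (lowLay Q k) → μ ≠ 1 → c ∈ fixer φ μ → c = 1) :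
    Nat.card S ∣ Nat.card (Lay Q k) - 1 := by
  rw [← card_central_lay k]
  refine Fpf.dvd_card_sub_one ((cAct φ (lowLay Q k)).comp S.subtype) fun c hc μ hμ => ?_
  by_contra hμ1
  refine hc (Subtype.ext (hS c c.2 _ μ.2 (fun e => hμ1 (Subtype.ext e)) ?_))
  rw [← inv_mem_iff]
  intro x hx
  change cAct φ (lowLay Q k) (c : C) μ = μ at hμ
  rw [← val_cAct φ _ (c : C) μ hx, hμ]

/-- Two layers of four classes each are too few. -/
theorem QData.five_le_lay (h : QData φ q) (hN : NoneFixed φ) (h2 : q = 2) [Nontrivial (Lay Q 0)]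
    [Nontrivial (Lay Q 1)] : 4 < Nat.card (Lay Q 0) := by
  subst h2
  obtain ⟨z, hz⟩ := exists_ne (1 : Lay Q 1)
  obtain ⟨l, hl⟩ := exists_dual_ne hz
  have hl1 : l ≠ 1 := fun e => hl (by rw [e]; rfl)
  have hL := h.layers3 hN
  have hsq := hL.card_sq hl1
  have hlt := hL.card_lt
  have hW : Nat.card (MW φ) = (commutator Q).relIndex (movMod φ) := by
    rw [Subgroup.relIndex, Subgroup.index_eq_card]
    rfl
  have hdvd := h.dvd_relIndex_sub_one
  rw [← hW, hsq] at hdvd
  have hf := h.four_le_card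
  have hcop := h.cop
  obtain ⟨a, ha⟩ := h.isPGroup_lay 0
  obtain ⟨b, hb⟩ := h.isPGroup_lay 1
  have h0 := Finite.one_lt_card (α := Lay Q 0)
  have h1 := Finite.one_lt_card (α := Lay Q 1)
  by_contra hle
  rw [not_lt] at hle
  have ha2 : a = 1 ∨ a = 2 := by
    rw [ha] at h0 hle
    have := (Nat.pow_le_pow_iff_right (show 1 < 2 by norm_num)).1 (show 2 ^ a ≤ 2 ^ 2 from hle)
    interval_cases a <;> simp_all
  rcases ha2 with rfl | rfl
  · rw [ha] at hdvd
    norm_num at hdvd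
    have := Nat.le_of_dvd (by norm_num) hdvd
    omega
  rw [ha] at hdvd hlt
  norm_num at hdvd hlt
  have hC : Nat.card C = 15 := by
    have := Nat.le_of_dvd (by norm_num) hdvd
    obtain ⟨t, ht⟩ := hdvd
    have hnp := h.notPrime
    interval_cases hc : Nat.card C
    all_goals first | omega | exact absurd (by norm_num) hnp
  obtain ⟨μ, hμ, hμ1⟩ : ∃ μ : lowLay Q 0 →* ℂˣ, μ ∈ central (lowLay Q 0) ∧ μ ≠ 1 := by
    obtain ⟨z, hz⟩ := exists_ne (1 : Lay Q 0)
    obtain ⟨l, hl⟩ := exists_dual_ne hz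
    exact ⟨_, layChar_central l, layChar_ne_one fun e => hl (by rw [e]; rfl)⟩
  set ν := layChar l
  have hν : ν ∈ central (lowLay Q 1) := layChar_central l
  have hν1 : ν ≠ 1 := layChar_ne_one hl1
  have hdis : ∀ c, c ∈ fixer φ μ → ∀ ν' : lowLay Q 1 →* ℂˣ, ν' ∈ central (lowLay Q 1) → ν' ≠ 1 →
      c ∈ fixer φ ν' → c = 1 := fun c hc ν' hν' hν1' hc' => by
    by_contra hc1
    exact h.not_fixesLayer hν' hν1' hN hc' hc1 (h.fixesLayer_of_fixer hN hμ hμ1 hc)
  have d3 := h.card_free 0 (fixer φ ν) fun c hc μ' hμ' hμ1' hc' => by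
    by_contra hc1
    exact h.not_fixesLayer hν hν1 hN hc hc1 (h.fixesLayer_of_fixer hN hμ' hμ1' hc')
  have d2 := h.card_free 1 (fixer φ μ) fun c hc ν' hν' hν1' hc' => hdis c hc ν' hν' hν1' hc'
  rw [ha] at d3
  norm_num at d3
  obtain ⟨c₂, hc₂, hc₂'⟩ := h.exists_mem_fixer le_rfl hμ hμ1
  obtain ⟨c₃, hc₃, hc₃'⟩ := h.exists_mem_fixer (lowLay_le 1) hν hν1
  haveI : Nontrivial (fixer φ μ) := ⟨⟨⟨c₂, hc₂⟩, 1, fun e => hc₂' (congrArg Subtype.val e)⟩⟩
  haveI : Nontrivial (fixer φ ν) := ⟨⟨⟨c₃, hc₃⟩, 1, fun e => hc₃' (congrArg Subtype.val e)⟩⟩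
  have s2 := Finite.one_lt_card (α := fixer φ μ)
  have s3 := Finite.one_lt_card (α := fixer φ ν)
  let m := (fixer φ μ).subtype.coprod (fixer φ ν).subtype
  have hm : Function.Injective m := (injective_iff_map_eq_one m).2 fun p hp => by
    obtain ⟨⟨x, hx⟩, ⟨y, hy⟩⟩ := p
    change x * y = 1 at hp
    have hxy : x = y⁻¹ := eq_inv_of_mul_eq_one_left hp
    have : x = 1 := hdis x hx ν hν hν1 (hxy ▸ (fixer φ ν).inv_mem hy)
    subst this
    rw [one_mul] at hp
    subst hp
    rfl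
  have hprod := Subgroup.card_dvd_of_injective m hm
  rw [Nat.card_prod, hC] at hprod
  have hd3 : Nat.card (fixer φ ν) = 3 := by
    have := Nat.le_of_dvd (by norm_num) d3
    interval_cases hh : Nat.card (fixer φ ν) <;> omega
  rw [hd3] at hprod
  have hd2 : Nat.card (fixer φ μ) = 5 := by
    exact ((Nat.dvd_prime (by norm_num)).1
      (Nat.dvd_of_mul_dvd_mul_right (by norm_num : 0 < 3) (show Nat.card (fixer φ μ) * 3 ∣ 5 * 3 from hprod))).resolve_left
      (by omega)
  rw [hd2] at d2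
  rw [hb] at d2 h1 hlt
  have hb4 : b < 4 := (Nat.pow_lt_pow_iff_right (show 1 < 2 by norm_num)).1 (show 2 ^ b < 2 ^ 4 from hlt)
  interval_cases b <;> simp_all

/-- The kernel lemma. -/
theorem QData.false_of_action (h : QData φ q) (hD : commutator Q ≠ ⊥) (ρ : Q →* MulAut U)
    (hU : (Nat.card U).Coprime q) (hfpf : ∀ x ∉ fixMod φ, ∀ u, ρ x u = u → u = 1) : False := by
  classical
  haveI := Fact.mk h.prime
  haveI : Group.IsNilpotent Q := h.pgroup.isNilpotent
  have hnt : Nontrivial (Lay Q 0) := by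
    by_contra hno
    refine hD (lowLay_eq_bot_of_le (k := 0) fun x hx => ?_)
    rw [not_nontrivial_iff_subsingleton] at hno
    exact (toLay_eq_one (x := (⟨x, hx⟩ : lowLay Q 0))).1 (hno.elim _ _)
  obtain ⟨μ, hμ, hμ1⟩ : ∃ μ : lowLay Q 0 →* ℂˣ, μ ∈ central (lowLay Q 0) ∧ μ ≠ 1 := by
    obtain ⟨z, hz⟩ := exists_ne (1 : Lay Q 0)
    obtain ⟨l, hl⟩ := exists_dual_ne hz
    exact ⟨_, layChar_central l, layChar_ne_one fun e => hl (by rw [e]; rfl)⟩
  obtain ⟨a, ha, b, hb, hne⟩ := h.exists_pair_mov hμ hμ1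
  have hab := h.exists_two_values.2
  have hqD : ∀ x ∈ movMod φ, x ^ q ∈ commutator Q := fun x hx => h.pow_mem_commutator hμ hμ1 hx
  have hindμ : ∀ a' b', val μ ⁅a', b'⁆ ≠ 1 → ∀ i j : ℕ, a' ^ i * b' ^ j ∈ commutator Q → q ∣ i ∧ q ∣ j :=
    fun a' b' hne' => h.ind_of_pair hμ (H := ⊤) (fun x _ y _ => bracket_mem_commutator x y)
      (Subgroup.mem_top _) (Subgroup.mem_top _) (h.val_pow_q hμ (bracket_mem_commutator _ _)) hne'
      (fun d hd _ x _ => (val_bracket_self hμ x hd).1)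
  rcases h.allFixed_or_noneFixed with hA | hN
  · -- the moved part centralizes the derived subgroup
    have hcent : movMod φ ≤ Subgroup.centralizer (commutator Q : Set Q) := by
      haveI : (Subgroup.centralizer (commutator Q : Set Q)).Normal := inferInstance
      refine sup_le (fun x hx => Subgroup.mem_centralizer_iff.2 fun v hv => hab v hv x hx)
        ((Subgroup.closure_le _).2 ?_)
      rintro _ ⟨c, u, rfl⟩
      rw [SetLike.mem_coe, Subgroup.mem_centralizer_iff]
      intro v hv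
      have hv1 : φ c v = v := h.fixed_of_allFixed hA (commutator_le_fixMod φ hv) c
      have hv2 : φ c (u⁻¹ * v * u) = u⁻¹ * v * u := h.fixed_of_allFixed hA (commutator_le_fixMod φ
        (by simpa using (inferInstance : (commutator Q).Normal).conj_mem v hv u⁻¹)) c
      rw [map_mul, map_mul, map_inv, hv1] at hv2
      calc v * (φ c u * u⁻¹) = φ c u * ((φ c u)⁻¹ * v * φ c u) * u⁻¹ := by group
        _ = φ c u * (u⁻¹ * v * u) * u⁻¹ := by rw [hv2]
        _ = φ c u * u⁻¹ * v := by group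
    have hvm : ∀ v ∈ commutator Q, ∀ x ∈ movMod φ, v * x = x * v := fun v hv x hx =>
      Subgroup.mem_centralizer_iff.1 (hcent hx) v hv
    set M := ⁅movMod φ, movMod φ⁆
    have hMD : M ≤ commutator Q :=
      Subgroup.commutator_le.2 fun x _ y _ => bracket_mem_commutator x y
    have hMq : ∀ m ∈ M, m ^ q = 1 := by
      intro m hm
      refine (Subgroup.closure_induction (p := fun a _ => a ∈ commutator Q ∧ a ^ q = 1) ?_
        ⟨one_mem _, one_pow q⟩ ?_ ?_ hm).2
      · rintro _ ⟨x, hx, y, hy, rfl⟩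
        refine ⟨bracket_mem_commutator x y, ?_⟩
        have hl : ∀ n : ℕ, ⁅x ^ n, y⁆ = ⁅x, y⁆ ^ n := by
          intro n
          induction n with
          | zero => simp
          | succ n ih =>
            rw [pow_succ' x, pow_succ, ← ih]
            rw [show ⁅x * x ^ n, y⁆ = x * ⁅x ^ n, y⁆ * x⁻¹ * ⁅x, y⁆ by
              simp only [commutatorElement_def]; group,
              ← hvm _ (bracket_mem_commutator _ y) x hx, mul_inv_cancel_right]
        rw [← hl, commutatorElement_eq_one_iff_mul_comm]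
        exact hvm _ (hqD x hx) y hy
      · intro x y _ _ hx hy
        exact ⟨mul_mem hx.1 hy.1, by rw [Commute.mul_pow (hab x hx.1 y hy.1), hx.2, hy.2, one_mul]⟩
      · intro x _ hx
        exact ⟨inv_mem hx.1, by rw [inv_pow, hx.2, inv_one]⟩
    have hformula : ∀ x ∈ movMod φ, ∀ y ∈ movMod φ, (x * y) ^ q = x ^ q * y ^ q * ⁅y, x⁆ ^ q.choose 2 :=
      fun x hx y hy => mul_pow_of_bracket rfl (hvm _ (bracket_mem_commutator y x) x hx)
        (hvm _ (bracket_mem_commutator y x) y hy) q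
    let P : Subgroup Q :=
      { carrier := {x | x ∈ movMod φ ∧ x ^ q ∈ M}
        one_mem' := ⟨one_mem _, by rw [one_pow]; exact one_mem _⟩
        mul_mem' := fun {x y} hx hy => ⟨mul_mem hx.1 hy.1, by
          rw [hformula x hx.1 y hy.1]
          exact mul_mem (mul_mem hx.2 hy.2) (pow_mem (Subgroup.commutator_mem_commutator hy.1 hx.1) _)⟩
        inv_mem' := fun {x} hx => ⟨inv_mem hx.1, by rw [inv_pow]; exact inv_mem hx.2⟩ }
    have hcover : ∀ w ∈ movMod φ, ∃ p ∈ P, p⁻¹ * w ∈ commutator Q := by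
      intro w hw
      obtain ⟨c, hc⟩ := h.exists_ne_one
      obtain ⟨u, hu, hd⟩ := h.exists_delta hc hw
      refine ⟨_, ⟨delta_mem_movMod φ c u, ?_⟩, hd⟩
      have e1 := hformula _ (delta_mem_movMod φ c u) u hu
      rw [inv_mul_cancel_right, ← map_pow,
        h.fixed_of_allFixed hA (commutator_le_fixMod φ (hqD u hu)) c] at e1
      set δ := φ c u * u⁻¹
      have hz : ⁅u, δ⁆ ^ q.choose 2 ∈ M :=
        pow_mem (Subgroup.commutator_mem_commutator hu (delta_mem_movMod φ c u)) _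
      have hcm : ∀ k : Q, k ∈ commutator Q → u ^ q * k = k * u ^ q := fun k hk =>
        (hab _ (hqD u hu) k hk)
      have e2 : δ ^ q = (⁅u, δ⁆ ^ q.choose 2)⁻¹ := by
        refine eq_inv_of_mul_eq_one_left (mul_right_cancel (b := u ^ q) ?_)
        rw [one_mul, mul_assoc, ← hcm _ (hMD hz), ← mul_assoc]
        exact e1.symm
      rw [e2]
      exact inv_mem hz
    have hMP : M ≤ P := fun m hm =>
      ⟨commutator_le_movMod φ (hMD hm), by rw [hMq m hm]; exact one_mem _⟩
    obtain ⟨a', ha', hda⟩ := hcover a ha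
    obtain ⟨b', hb', hdb⟩ := hcover b hb
    have hne' : val μ ⁅a', b'⁆ ≠ 1 := by
      rwa [pair_congr hμ (QuotientGroup.eq.2 hda : Abelianization.of a' = Abelianization.of a)
        (QuotientGroup.eq.2 hdb : Abelianization.of b' = Abelianization.of b)]
    refine h.false_of_part ρ hU hfpf P M (fun x hx => hx.1) hMD hMP
      (fun x hx y hy => Subgroup.commutator_mem_commutator hx.1 hy.1) (fun x hx => hx.2) hMq
      (fun m hm x hx => hvm m (hMD hm) x hx.1) ha' hb' (hindμ a' b' hne') fun _ => ?_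
    have hsup : P ⊔ commutator Q = movMod φ := by
      refine le_antisymm (sup_le (fun x hx => hx.1) (commutator_le_movMod φ)) fun w hw => ?_
      obtain ⟨p, hp, hd⟩ := hcover w hw
      rw [← mul_inv_cancel_left p w]
      exact mul_mem (Subgroup.mem_sup_left hp) (Subgroup.mem_sup_right hd)
    rw [← Subgroup.relIndex_sup_right, hsup]
    exact h.five_le_relIndex
  have hcen1 : ∀ x ∈ lowLay Q 1, ∀ y : Q, x * y = y * x := fun x hx y => by
    have h2 := (bracket_mem_lowLay hx y).1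
    rw [h.lowLay_two_eq_bot hN, Subgroup.mem_bot, commutatorElement_eq_one_iff_mul_comm] at h2
    exact h2
  by_cases hlay : lowLay Q 1 = ⊥
  · refine h.false_of_part ρ hU hfpf (movMod φ) (commutator Q) le_rfl le_rfl (commutator_le_movMod φ)
      (fun x _ y _ => bracket_mem_commutator x y) hqD (fun m hm => ?_) (fun m hm x _ => ?_) ha hb
      (hindμ a b hne) fun _ => h.five_le_relIndex
    · have := h.pow_mem_lay1 (v := m) hm
      rwa [hlay, Subgroup.mem_bot] at this
    · have := mem_lay1 (v := m) hm x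
      rwa [hlay, Subgroup.mem_bot, commutatorElement_eq_one_iff_mul_comm] at this
  haveI hnt1 : Nontrivial (Lay Q 1) := by
    by_contra hno
    refine hlay (lowLay_eq_bot_of_le (k := 1) fun x hx => ?_)
    rw [not_nontrivial_iff_subsingleton] at hno
    exact (toLay_eq_one (x := (⟨x, hx⟩ : lowLay Q 1))).1 (hno.elim _ _)
  obtain ⟨z, hz⟩ := exists_ne (1 : Lay Q 1)
  obtain ⟨l, hl⟩ := exists_dual_ne hz
  have hl1 : l ≠ 1 := fun e => hl (by rw [e]; rfl)
  set ν := layChar l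
  have hν : ν ∈ central (lowLay Q 1) := layChar_central l
  have hν1 : ν ≠ 1 := layChar_ne_one hl1
  have hL := h.layers3 hN
  set P := movMod φ ⊓ lperp hν
  have hperp : hL.perp l = (P.subgroupOf (movMod φ)).map (QuotientGroup.mk' _) := by
    ext x
    constructor
    · intro hx
      exact ⟨Quotient.out x, Subgroup.mem_subgroupOf.2 ⟨(Quotient.out x).2, lperp_of_perp h hN hx⟩,
        QuotientGroup.out_eq' x⟩
    · rintro ⟨p, hp, rfl⟩
      exact perp_of_lperp (Subgroup.mem_subgroupOf.1 hp).2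
  have hrel : (commutator Q).relIndex P = Nat.card (Lay Q 0) := by
    rw [← hL.card_perp hl1, hperp, ← Subgroup.relIndex_ker, QuotientGroup.ker_mk',
      Subgroup.relIndex_subgroupOf inf_le_left]
    rfl
  obtain ⟨a₁, ha₁, ha₁D⟩ : ∃ x ∈ P, x ∉ commutator Q := by
    by_contra hno
    push Not at hno
    have := Finite.one_lt_card (α := Lay Q 0)
    rw [← hrel, Subgroup.relIndex_eq_one.2 hno] at this
    exact lt_irrefl _ this
  obtain ⟨t, ht, htne⟩ : ∃ t ∈ lperp hν, val ν ⁅a₁, t⁆ ≠ 1 := by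
    by_contra hall
    push Not at hall
    exact ha₁D (h.forms_nondeg hN hν hν1 ha₁.2 ha₁.1 hall)
  obtain ⟨b₁, hb₁, m, hm, rfl⟩ := h.exists_decomp t
  have hb₁' : b₁ ∈ lperp hν := by
    rw [← mul_inv_cancel_right b₁ m]
    exact (lperp hν).mul_mem ht ((lperp hν).inv_mem (h.fix_le_lperp hN hν hm))
  rw [pair_mul_right hν (h.pair_lperp hν hν1 hN ha₁.2 hb₁')
    (h.pair_lperp hν hν1 hN ha₁.2 (h.fix_le_lperp hN hν hm)), h.pair_lperp_fix hν hν1 hN ha₁.2 hm,
    mul_one] at htne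
  have hqν : val ν ⁅a₁, b₁⁆ ^ q = 1 := by
    have hmem := h.pair_lperp hν hν1 hN ha₁.2 hb₁'
    rw [← val_pow ν hmem, h.lay1_pow hN hmem, val_one]
  refine h.false_of_part ρ hU hfpf P (lowLay Q 1) inf_le_left (lowLay_le 1)
    (fun x hx => ⟨commutator_le_movMod φ (lowLay_le 1 hx), lay0_le_lperp hν (lowLay_le 1 hx)⟩)
    (fun x hx y hy => h.pair_lperp hν hν1 hN hx.2 hy.2)
    (fun x hx => h.pow_mem_lay1_of_lperp hN hν hν1 hx.1 hx.2) (fun x hx => h.lay1_pow hN hx)
    (fun m hm x _ => hcen1 m hm x) ha₁ (show b₁ ∈ P from ⟨hb₁, hb₁'⟩)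
    (h.ind_of_pair hν (H := P) (fun x hx y hy => h.pair_lperp hν hν1 hN hx.2 hy.2) ha₁ ⟨hb₁, hb₁'⟩
      hqν htne fun d hd _ x hx => hx.2 d hd) fun h2 => ?_
  rw [hrel]
  exact h.five_le_lay hN h2

end Cfsg.Agent.NoDivDeg
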