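/-
The case of `q` dividing the order of the derived subgroup of the kernel.

Main result: `Ctx.exists_two_values`.
-/
import Cfsg.Agent.Lib.NoDivDeg.Setting
import Cfsg.Agent.Lib.NoDivDeg.Kernel

set_option autoImplicit false
set_option linter.style.haveILetI false
set_option linter.unusedSectionVars false

namespace Cfsg.Agent.NoDivDeg

open Cfsg Cfsg.Agent.Char Cfsg.Agent.CharApp Cfsg.Agent.CharApp.DegreeSets
open Cfsg.Agent.Codegree (kerSub mem_kerSub inflate inflate_apply)
open scoped ComplexConjugate commutatorElement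

universe u

variable {G : Type u} [Group G] [Finite G] {N : Subgroup G} [hNn : N.Normal] {g : G} {f q : ℕ}

/-- The orbit length times the degree. -/
noncomputable def valN (N : Subgroup G) [N.Normal] (θ : IrrCharacter N) : ℕ :=
  (inertia N (θ : N → ℂ)).index * charDegree (θ : N → ℂ)

theorem Ctx.valN_anti (h : Ctx N g f q) (θ θ' : IrrCharacter N) (hθ : charDegree (θ : N → ℂ) ≠ 1)
    (hd : valN N θ ∣ valN N θ') : valN N θ = valN N θ' := by
  obtain ⟨χ, hχ⟩ := h.exists_deg θ
  obtain ⟨χ', hχ'⟩ := h.exists_deg θ'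
  rw [show valN N θ = _ from hχ.symm, show valN N θ' = _ from hχ'.symm] at hd ⊢
  exact h.nd.eq_of_dvd (fun e => hθ (mul_eq_one.1 (hχ.symm.trans e)).2) hd

/-- A generator whose `f`-th power has order dividing a power of `f`. -/
theorem Ctx.exists_gen (h : Ctx N g f q) : ∃ g' : G, Ctx N g' f q ∧ ∃ k, (g' ^ f) ^ (f ^ k) = 1 := by
  have hfpos : 0 < f := Nat.pos_of_ne_zero (h.idx ▸ Subgroup.index_ne_zero_of_finite)
  have hexp : ∀ o : ℕ, 0 < o → ∃ b k : ℕ, b.Coprime f ∧ o ∣ b * f ^ k := by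
    intro o
    induction o using Nat.strong_induction_on with
    | _ o ih =>
      intro ho
      by_cases hc : o.Coprime f
      · exact ⟨o, 0, hc, by simp⟩
      obtain ⟨r, hr, hro, hrf⟩ := Nat.Prime.not_coprime_iff_dvd.1 hc
      obtain ⟨o', rfl⟩ := hro
      have ho' : 0 < o' := Nat.pos_of_mul_pos_left ho
      obtain ⟨b, k, hb, hd⟩ := ih o' (lt_mul_of_one_lt_left ho' hr.one_lt) ho'
      refine ⟨b, k + 1, hb, ?_⟩
      rw [pow_succ]
      calc r * o' ∣ f * (b * f ^ k) := Nat.mul_dvd_mul hrf hd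
        _ = b * (f ^ k * f) := by ring
  obtain ⟨b, k, hb, hbk⟩ := hexp _ (orderOf_pos (g ^ f))
  refine ⟨g ^ b, ⟨h.nd, h.idx, fun x => ?_, h.notPrime, h.one_ne, h.prime, h.cop, h.deg_f, h.dvd, ?_⟩,
    k, ?_⟩
  · -- a coprime power still generates
    have hbN : (g : G ⧸ N) ∈ Subgroup.zpowers ((g ^ b : G) : G ⧸ N) := by
      obtain ⟨l, hl⟩ := exists_pow_eq_self_of_coprime (x := (g : G ⧸ N)) (n := b)
        (hb.coprime_dvd_right (orderOf_dvd_of_pow_eq_one (by
          rw [← QuotientGroup.mk_pow]; exact (QuotientGroup.eq_one_iff _).2 h.pow_mem)))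
      rw [← hl, ← QuotientGroup.mk_pow]
      exact Subgroup.npow_mem_zpowers _ _
    obtain ⟨i, hi⟩ := h.gen x
    obtain ⟨j, hj⟩ := Subgroup.mem_zpowers_iff.1 (Subgroup.zpow_mem _ hbN i)
    refine ⟨j, QuotientGroup.eq.1 ?_⟩
    rw [QuotientGroup.mk_zpow, hj, ← QuotientGroup.mk_zpow]
    exact QuotientGroup.eq.2 hi
  · obtain ⟨x, hx, hmv⟩ := h.exists_movedA
    refine ⟨x, hx, fun hm => hmv ?_⟩
    have hbn : g ^ b ∉ N := h.not_mem_gen fun hd => by
      have h2 : f.Coprime f := (hb.coprime_dvd_left hd)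
      exact h.one_ne (Nat.coprime_self f |>.1 h2)
    refine h.fix_eq hbn ?_
    rw [conjA_of, ← mul_inv_eq_one, ← map_inv, ← map_mul]
    exact (QuotientGroup.eq_one_iff _).2 hm
  · obtain ⟨c, hc⟩ := hbk
    rw [← pow_mul, ← pow_mul, show b * (f * f ^ k) = f * (b * f ^ k) by ring, pow_mul, hc, pow_mul,
      pow_orderOf_eq_one, one_pow]

/-- The image of `L` in the abelianization. -/
noncomputable abbrev imA (N : Subgroup G) (L : Subgroup N) : Subgroup (Abelianization N) :=
  L.map Abelianization.of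

theorem Ctx.of_mem_imA (h : Ctx N g f q) (L : Subgroup N) [L.Normal]
    (hLinv : ∀ x : G, ∀ n ∈ L, MulAut.conjNormal x n ∈ L) {x : G} (hx : x ∉ N)
    {a : Abelianization N} (ha : deltaA N x a ∈ imA N L) (y : G) : deltaA N y a ∈ imA N L := by
  have hinvA : ∀ (z : G) (b : Abelianization N), b ∈ imA N L → conjA N z b ∈ imA N L := by
    rintro z _ ⟨n, hn, rfl⟩
    exact ⟨_, hLinv z n hn, rfl⟩
  have hW : ∀ (z : G) (b : Abelianization N), b ∈ imA N L → deltaA N z b ∈ imA N L := fun z b hb =>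
    (imA N L).mul_mem (hinvA z b hb) ((imA N L).inv_mem hb)
  obtain ⟨w, hw, m, hm, rfl⟩ := h.exists_decompA a
  have hm' : ∀ z : G, deltaA N z m = 1 := fun z =>
    MonoidHom.mem_ker.1 (h.ker_le z (mem_ker_deltaA.2 hm))
  rw [map_mul, hm', mul_one] at ha ⊢
  let S : Subgroup (Abelianization N) := imA N L ⊓ movA N g
  have hS : ∀ (z : G) (b : Abelianization N), b ∈ S → deltaA N z b ∈ S := fun z b hb =>
    ⟨hW z b hb.1, (movA N g).mul_mem (h.conjA_mem_movA z hb.2) ((movA N g).inv_mem hb.2)⟩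
  let δS : S → S := fun b => ⟨deltaA N x b, hS x b b.2⟩
  have hinj : Function.Injective δS := fun b c e => by
    refine Subtype.ext (mul_inv_eq_one.1 (h.eq_one_of_fix hx ((movA N g).mul_mem b.2.2 ((movA N g).inv_mem c.2.2)) ?_))
    refine mem_ker_deltaA.1 ?_
    rw [MonoidHom.mem_ker, map_mul, map_inv, show deltaA N x b = deltaA N x c from congrArg Subtype.val e,
      mul_inv_cancel]
  obtain ⟨b, hb⟩ := Finite.injective_iff_surjective.1 hinj ⟨deltaA N x w, ha,
    (movA N g).mul_mem (h.conjA_mem_movA x hw) ((movA N g).inv_mem hw)⟩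
  have hb' : deltaA N x b = deltaA N x w := congrArg Subtype.val hb
  have hwb : w * (b : Abelianization N)⁻¹ = 1 := by
    refine h.eq_one_of_fix hx ((movA N g).mul_mem hw ((movA N g).inv_mem b.2.2)) (mem_ker_deltaA.1 ?_)
    rw [MonoidHom.mem_ker, map_mul, map_inv, hb', mul_inv_cancel]
  rw [mul_inv_eq_one.1 hwb]
  exact hW y _ b.2.1

/-- The nonlinear values and the derived subgroup when `q` divides its order. -/
theorem Ctx.exists_two_values [Group.IsSolvable G] (h₀ : Ctx N g f q) (hD : q ∣ Nat.card (commutator N)) :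
    (∃ m₁ m₂ : ℕ, ∀ θ : IrrCharacter N, charDegree (θ : N → ℂ) ≠ 1 → valN N θ = m₁ ∨ valN N θ = m₂) ∧
      ∀ a ∈ commutator N, ∀ b ∈ commutator N, a * b = b * a := by
  classical
  obtain ⟨g, h, k₀, hk₀⟩ := h₀.exists_gen
  haveI := Fact.mk h.prime
  haveI := Fintype.ofFinite N
  haveI := Fintype.ofFinite G
  obtain ⟨P, L, hLn, hc⟩ := hasNormalPComplement_of_dvd q h.dvd
  haveI := hLn
  obtain ⟨kP, hkP⟩ := P.2.exists_card_eq
  have hLidx : L.index = q ^ kP := by rw [hc.symm.index_eq_card, hkP]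
  have hLco : (Nat.card L).Coprime q := by
    rw [Nat.coprime_comm, h.prime.coprime_iff_not_dvd, ← hc.index_eq_card]
    exact P.not_dvd_index
  have hLmem : ∀ n : N, ∀ m : ℕ, m.Coprime q → n ^ m = 1 → n ∈ L := fun n m hm hn =>
    mem_of_coprime_pow L (hm.pow_right kP) (by rw [hn]; exact one_mem _)
      (hLidx ▸ Subgroup.pow_index_mem L n)
  have hLinv : ∀ x : G, ∀ n ∈ L, MulAut.conjNormal x n ∈ L := fun x n hn =>
    hLmem _ (Nat.card L) hLco (by
      rw [← map_pow, show n ^ Nat.card L = 1 from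
        congrArg Subtype.val (pow_card_eq_one' (x := (⟨n, hn⟩ : L))), map_one])
  have hqL : ∀ n : N, n ∈ L → ∀ j, n ^ (q ^ j) = 1 → n = 1 := fun n hn j hj =>
    Fpf.eq_one_of_pow_coprime (hLco.pow_right j)
      (congrArg Subtype.val (pow_card_eq_one' (x := (⟨n, hn⟩ : L)))) hj
  let π := QuotientGroup.mk' L
  have hπ : Function.Surjective π := QuotientGroup.mk'_surjective L
  have hQp : IsPGroup q (N ⧸ L) := IsPGroup.of_card (n := kP) (by rw [← L.index_eq_card, hLidx])
  have hcomap : ∀ n : N, π n ∈ commutator (N ⧸ L) ↔ Abelianization.of n ∈ imA N L := by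
    intro n
    rw [show commutator (N ⧸ L) = (commutator N).map π by
      rw [commutator_def, commutator_def, Subgroup.map_commutator, Subgroup.map_top_of_surjective π hπ]]
    constructor
    · rintro ⟨d, hd, e⟩
      refine ⟨d⁻¹ * n, QuotientGroup.eq.1 e, ?_⟩
      rw [map_mul, map_inv, show Abelianization.of d = 1 from (QuotientGroup.eq_one_iff d).2 hd, inv_one,
        one_mul]
    · rintro ⟨l, hl, e⟩
      refine ⟨n * l⁻¹, (QuotientGroup.eq_one_iff _).1 ?_, ?_⟩
      · show Abelianization.of (n * l⁻¹) = 1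
        rw [map_mul, map_inv, e, mul_inv_cancel]
      · show π (n * l⁻¹) = π n
        rw [map_mul, map_inv, show π l = 1 from (QuotientGroup.eq_one_iff l).2 hl, inv_one, mul_one]
  -- the operator of the quotient
  let cq : G →* MulAut (N ⧸ L) :=
    { toFun := fun x => QuotientGroup.congr L L (MulAut.conjNormal x) (by
        refine Subgroup.eq_of_le_of_card_ge ?_ ?_
        · rintro _ ⟨n, hn, rfl⟩
          exact hLinv x n hn
        · rw [Subgroup.card_map_of_injective (MulEquiv.injective _)])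
      map_one' := MulEquiv.ext fun y => by
        obtain ⟨n, rfl⟩ := hπ y
        show π (MulAut.conjNormal (1 : G) n) = π n
        rw [map_one]
        rfl
      map_mul' := fun x y => MulEquiv.ext fun z => by
        obtain ⟨n, rfl⟩ := hπ z
        show π (MulAut.conjNormal (x * y) n) = π (MulAut.conjNormal x (MulAut.conjNormal y n))
        rw [map_mul]
        rfl }
  have hcq : ∀ (x : G) (n : N), cq x (π n) = π (MulAut.conjNormal x n) := fun x n => rfl
  set σ := cq g
  have hgf : (⟨g ^ f, h.pow_mem⟩ : N) ∈ L := hLmem _ (f ^ k₀) (h.cop.pow_left k₀) (Subtype.ext hk₀)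
  have hσf : σ ^ f = 1 := by
    rw [← map_pow]
    refine MulEquiv.ext fun y => ?_
    obtain ⟨n, rfl⟩ := hπ y
    rw [hcq, show (MulAut.conjNormal (g ^ f) : MulAut N) n = ⟨g ^ f, h.pow_mem⟩ * n * (⟨g ^ f, h.pow_mem⟩ : N)⁻¹
      from Subtype.ext (MulAut.conjNormal_apply (g ^ f) n), map_mul, map_mul, map_inv, MulAut.one_apply,
      show π (⟨g ^ f, h.pow_mem⟩ : N) = 1 from (QuotientGroup.eq_one_iff _).2 hgf, one_mul, inv_one, mul_one]
  set Cy := Subgroup.zpowers σ
  letI : CommGroup Cy :=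
    { (inferInstance : Group Cy) with
      mul_comm := fun a b => by
        obtain ⟨i, hi⟩ := Subgroup.mem_zpowers_iff.1 a.2
        obtain ⟨j, hj⟩ := Subgroup.mem_zpowers_iff.1 b.2
        refine Subtype.ext ?_
        show (a : MulAut (N ⧸ L)) * b = b * a
        rw [← hi, ← hj, ← zpow_add, ← zpow_add, add_comm] }
  haveI : Finite Cy := Finite.of_injective (fun c : Cy => (((c : MulAut (N ⧸ L)) : N ⧸ L → N ⧸ L)))
    fun a b e => Subtype.ext (MulEquiv.ext fun y => congrFun e y)
  let φ : Cy →* MulAut (N ⧸ L) := Cy.subtype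
  have hofQ : ∀ (x : G) (n : N), Abelianization.of (cq x (π n)) = Abelianization.of (π n) ↔
      deltaA N x (Abelianization.of n) ∈ imA N L := fun x n => by
    rw [show deltaA N x (Abelianization.of n) = Abelianization.of (MulAut.conjNormal x n * n⁻¹) by
      rw [map_mul, map_inv]; rfl, ← hcomap, hcq, ← mul_inv_eq_one, ← map_inv, ← map_mul, ← map_inv π,
      ← map_mul]
    exact QuotientGroup.eq_one_iff _
  have hfix : ∀ x ∉ N, ∀ n : N, Abelianization.of (cq x (π n)) = Abelianization.of (π n) →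
      π n ∈ fixMod φ := by
    intro x hx n hn c
    obtain ⟨i, hi⟩ := Subgroup.mem_zpowers_iff.1 c.2
    show Abelianization.of ((c : MulAut (N ⧸ L)) (π n)) = _
    rw [← hi, ← map_zpow]
    exact (hofQ _ n).2 (h.of_mem_imA L hLinv hx ((hofQ x n).1 hn) _)
  obtain ⟨x₀, ⟨j₀, hj₀⟩, hx₀⟩ := h.exists_movedA
  have hmv : Abelianization.of (σ (π x₀)) ≠ Abelianization.of (π x₀) := by
    rw [ne_eq, hofQ]
    intro hm
    refine hx₀ (mem_ker_deltaA.1 (Fpf.eq_one_of_pow_coprime (hLco.pow_right j₀) ?_ ?_))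
    · obtain ⟨l, hl, e⟩ := hm
      rw [← e, ← map_pow, show l ^ Nat.card L = 1 from
        congrArg Subtype.val (pow_card_eq_one' (x := (⟨l, hl⟩ : L))), map_one]
    · rw [← map_pow, ← map_pow, hj₀, map_one, map_one]
  have hiff : ∀ i : ℕ, σ ^ i = 1 ↔ f ∣ i := by
    intro i
    refine ⟨fun e => by_contra fun hd => ?_, fun ⟨t, ht⟩ => by rw [ht, pow_mul, hσf, one_pow]⟩
    rw [← map_pow] at e
    exact hmv (hfix _ (h.not_mem_gen hd) x₀ (by rw [e]; rfl) ⟨σ, Subgroup.mem_zpowers σ⟩)
  have hord : orderOf σ = f :=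
    Nat.dvd_antisymm (orderOf_dvd_of_pow_eq_one hσf) ((hiff _).1 (pow_orderOf_eq_one σ))
  have hgi : ∀ i : ℤ, g ^ i ∈ N ↔ (f : ℤ) ∣ i := by
    intro i
    have hfpos : (f : ℤ) ≠ 0 := by exact_mod_cast (h.idx ▸ Subgroup.index_ne_zero_of_finite)
    obtain ⟨m, hm⟩ := Int.eq_ofNat_of_zero_le (Int.emod_nonneg i hfpos)
    have e : g ^ i = (g ^ f) ^ (i / (f : ℤ)) * g ^ m := by
      rw [← zpow_natCast g f, ← zpow_mul, ← zpow_natCast g m, ← zpow_add, ← hm, Int.mul_ediv_add_emod]
    rw [e, Subgroup.mul_mem_cancel_left N (N.zpow_mem h.pow_mem _), Int.dvd_iff_emod_eq_zero, hm]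
    constructor
    · intro hgm
      have hd : f ∣ m := by_contra fun hd => h.not_mem_gen hd hgm
      have hlt : m < f := by
        have := Int.emod_lt_of_pos i (lt_of_le_of_ne (Int.natCast_nonneg f) (Ne.symm hfpos))
        omega
      exact_mod_cast Nat.eq_zero_of_dvd_of_lt hd hlt
    · intro h0
      rw [show m = 0 by exact_mod_cast h0, pow_zero]
      exact one_mem _
  -- the map from the big group onto the operators
  choose ι hι using h.gen
  have hcongr : ∀ i j : ℤ, (g ^ i)⁻¹ * g ^ j ∈ N → σ ^ i = σ ^ j := by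
    intro i j hm
    rw [← zpow_neg, ← zpow_add, hgi] at hm
    obtain ⟨t, ht⟩ := hm
    rw [show j = i + (f : ℤ) * t by linarith, zpow_add, zpow_mul, zpow_natCast, hσf, one_zpow, mul_one]
  let pr : G →* Cy := MonoidHom.mk' (fun x => ⟨σ ^ ι x, Subgroup.zpow_mem_zpowers σ _⟩) fun x y => by
    refine Subtype.ext ?_
    show σ ^ ι (x * y) = σ ^ ι x * σ ^ ι y
    rw [← zpow_add]
    refine hcongr _ _ (QuotientGroup.eq.1 ?_)
    rw [QuotientGroup.eq.2 (hι (x * y)), zpow_add, QuotientGroup.mk_mul, QuotientGroup.mk_mul,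
      QuotientGroup.eq.2 (hι x), QuotientGroup.eq.2 (hι y)]
  have hprg : ∀ i : ℤ, (pr (g ^ i) : MulAut (N ⧸ L)) = σ ^ i := fun i => hcongr _ _ (hι (g ^ i))
  have hprsurj : Function.Surjective pr := fun c => by
    obtain ⟨i, hi⟩ := Subgroup.mem_zpowers_iff.1 c.2
    exact ⟨g ^ i, Subtype.ext ((hprg i).trans hi)⟩
  have hprN : ∀ x, pr x = 1 → x ∈ N := fun x hx => by
    have h1 : σ ^ ι x = 1 := congrArg Subtype.val hx
    rw [← orderOf_dvd_iff_zpow_eq_one, hord] at h1
    have := N.mul_mem ((hgi _).2 h1) (hι x)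
    rwa [mul_inv_cancel_left] at this
  -- inflated characters
  have hinert : ∀ (θ : IrrCharacter N) (ψ : IrrCharacter (N ⧸ L)),
      (∀ n, (θ : N → ℂ) n = (ψ : N ⧸ L → ℂ) (π n)) →
      inertia N (θ : N → ℂ) = (stabC φ (ψ : N ⧸ L → ℂ)).comap pr := by
    intro θ ψ hθψ
    ext x
    have hstab : pr x ∈ stabC φ (ψ : N ⧸ L → ℂ) ↔ g ^ ι x ∈ inertia N (θ : N → ℂ) := by
      rw [← inv_mem_iff (x := g ^ ι x), mem_inertia, funext_iff]
      constructor
      · intro hc n
        rw [conjFun_eq, inv_inv, hθψ, hθψ, ← hcq, map_zpow]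
        exact hc (π n)
      · intro hc y
        obtain ⟨n, rfl⟩ := hπ y
        have := hc n
        rw [conjFun_eq, inv_inv, hθψ, hθψ, ← hcq, map_zpow] at this
        exact this
    rw [Subgroup.mem_comap, hstab]
    conv_lhs => rw [← mul_inv_cancel_left (g ^ ι x) x]
    exact Subgroup.mul_mem_cancel_right _
      (le_inertia N (IsIrrCharacter.isClassFunction θ.2) (hι x))
  have hval : ∀ (θ : IrrCharacter N) (ψ : IrrCharacter (N ⧸ L)),
      (∀ n, (θ : N → ℂ) n = (ψ : N ⧸ L → ℂ) (π n)) →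
      valN N θ = (stabC φ (ψ : N ⧸ L → ℂ)).index * charDegree (ψ : N ⧸ L → ℂ) ∧
        charDegree (θ : N → ℂ) = charDegree (ψ : N ⧸ L → ℂ) := by
    intro θ ψ hθψ
    have hd : charDegree (θ : N → ℂ) = charDegree (ψ : N ⧸ L → ℂ) := by
      have h1 := hθψ 1
      rw [apply_one θ.2, map_one, apply_one ψ.2] at h1
      exact_mod_cast h1
    refine ⟨?_, hd⟩
    rw [valN, hinert θ ψ hθψ, Subgroup.index_comap_of_surjective _ hprsurj, hd]
  have hQD : QData φ q :=
    { prime := h.prime
      pgroup := hQp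
      cop := by rw [Nat.card_zpowers, hord]; exact h.cop
      semireg := fun c hc y hy => by
        obtain ⟨i, hi⟩ := Subgroup.mem_zpowers_iff.1 c.2
        obtain ⟨n, rfl⟩ := hπ y
        refine hfix (g ^ i) (fun hm => hc (Subtype.ext ?_)) n ?_
        · show (c : MulAut (N ⧸ L)) = 1
          rw [← hi, ← orderOf_dvd_iff_zpow_eq_one, hord]
          exact (hgi i).1 hm
        · rw [map_zpow]
          show Abelianization.of ((σ ^ i) (π n)) = _
          rw [hi]
          exact hy
      moved := ⟨⟨σ, Subgroup.mem_zpowers σ⟩, π x₀, hmv⟩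
      fix := fun ψ hψ => by
        obtain ⟨x, hx, hxN⟩ := h.exists_inertia (inflate L ψ)
          (by rwa [ThreeDegrees.deg_inflate])
        rw [hinert _ ψ (fun n => inflate_apply L ψ n)] at hx
        exact ⟨pr x, hx, fun e => hxN (hprN x e)⟩
      anti := fun ψ ψ' hψ hψ' hd => by
        rw [← (hval (inflate L ψ) ψ fun n => inflate_apply L ψ n).1,
          ← (hval (inflate L ψ') ψ' fun n => inflate_apply L ψ' n).1] at hd ⊢
        exact h.valN_anti _ _ (by rwa [ThreeDegrees.deg_inflate]) hd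
      notPrime := by rw [Nat.card_zpowers, hord]; exact h.notPrime }
  have hDQ : commutator (N ⧸ L) ≠ ⊥ := fun e => by
    refine h.prime.not_dvd_one (hLco.gcd_eq_one ▸ Nat.dvd_gcd (hD.trans (Subgroup.card_dvd_of_le ?_)) dvd_rfl)
    rw [show commutator (N ⧸ L) = (commutator N).map π by
      rw [commutator_def, commutator_def, Subgroup.map_commutator, Subgroup.map_top_of_surjective π hπ],
      Subgroup.map_eq_bot_iff, QuotientGroup.ker_mk'] at e
    exact e
  -- moved `q`-elements centralize nothing in the intersection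
  have hcent : ∀ p : N, (∃ j, p ^ (q ^ j) = 1) → conjA N g (Abelianization.of p) ≠ Abelianization.of p →
      ∀ d ∈ commutator N, d ∈ L → p * d = d * p → d = 1 := by
    rintro p ⟨j, hj⟩ hp d hd hdL hpd
    set CL := Subgroup.centralizer ({p} : Set N) ⊓ L
    set LD := L ⊓ commutator N
    have hPz : IsPGroup q (Subgroup.zpowers p) := by
      obtain ⟨i, -, hi⟩ := (Nat.dvd_prime_pow h.prime).1 (orderOf_dvd_of_pow_eq_one hj)
      exact IsPGroup.of_card (n := i) (by rw [Nat.card_zpowers, hi])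
    have himg : imA N L ≤ CL.map Abelianization.of := by
      rintro _ ⟨y, hy, rfl⟩
      let Ω := {z : N // y⁻¹ * z ∈ LD}
      have hΩ : ∀ (s z : N), y⁻¹ * z ∈ LD → y⁻¹ * (s * z * s⁻¹) ∈ LD := by
        intro s z hz
        have hzL : z ∈ L := by simpa using L.mul_mem hy hz.1
        refine ⟨L.mul_mem (L.inv_mem hy) (hLn.conj_mem z hzL s), of_eq_of_iff.1 ?_⟩
        rw [of_eq_of_iff.2 hz.2, map_mul, map_mul, map_inv, mul_comm (Abelianization.of s),
          mul_inv_cancel_right]
      letI : MulAction (Subgroup.zpowers p) Ω :=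
        { smul := fun s z => ⟨(s : N) * z.1 * (s : N)⁻¹, hΩ _ _ z.2⟩
          one_smul := fun z => Subtype.ext (by show (1 : N) * z.1 * (1 : N)⁻¹ = z.1; simp)
          mul_smul := fun s t z => Subtype.ext (by
            show ((s : N) * t) * z.1 * ((s : N) * t)⁻¹ = (s : N) * ((t : N) * z.1 * (t : N)⁻¹) * (s : N)⁻¹
            group) }
      have hcard : Nat.card Ω = Nat.card LD :=
        Nat.card_congr ((Equiv.mulLeft y⁻¹).subtypeEquiv fun _ => Iff.rfl)
      obtain ⟨z, hz⟩ := hPz.nonempty_fixed_point_of_prime_not_dvd_card (α := Ω) (by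
        rw [hcard]
        exact fun hd => h.prime.not_dvd_one
          (hLco.gcd_eq_one ▸ Nat.dvd_gcd (hd.trans (Subgroup.card_dvd_of_le inf_le_left)) dvd_rfl))
      have hz' : p * z.1 * p⁻¹ = z.1 := congrArg Subtype.val (hz ⟨p, Subgroup.mem_zpowers p⟩)
      refine ⟨z.1, ⟨Subgroup.mem_centralizer_singleton_iff.2 ?_, by simpa using L.mul_mem hy z.2.1⟩,
        (of_eq_of_iff.2 z.2.2).symm⟩
      calc z.1 * p = (p * z.1 * p⁻¹) * p := by rw [hz']
        _ = p * z.1 := by group
    have hCLdvd : Nat.card CL ∣ Nat.card (imA N L) * (imA N L).index := by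
      rw [Subgroup.card_mul_index]
      have := Subgroup.card_dvd_of_le (inf_le_left : CL ≤ Subgroup.centralizer ({p} : Set N))
      rwa [h.card_centralizer hp, Subgroup.index_eq_card] at this
    have hCLco : (Nat.card CL).Coprime (imA N L).index := by
      refine ((hLco.coprime_dvd_left (Subgroup.card_dvd_of_le inf_le_right)).pow_right kP).coprime_dvd_right ?_
      rw [← hLidx]
      exact Subgroup.index_map_dvd L QuotientGroup.mk_surjective
    have hle : Nat.card CL ≤ Nat.card (CL.map Abelianization.of) :=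
      (Nat.le_of_dvd Nat.card_pos (hCLco.dvd_of_dvd_mul_right hCLdvd)).trans (Subgroup.card_le_of_le himg)
    have hbij : Function.Bijective ((Abelianization.of : N →* Abelianization N).subgroupMap CL) :=
      (Nat.bijective_iff_surjective_and_card _).2 ⟨MonoidHom.subgroupMap_surjective _ _,
        le_antisymm hle (Nat.card_le_card_of_surjective _ (MonoidHom.subgroupMap_surjective _ _))⟩
    have := @hbij.1 ⟨d, ⟨Subgroup.mem_centralizer_singleton_iff.2 hpd.symm, hdL⟩⟩ 1
      (Subtype.ext ((QuotientGroup.eq_one_iff d).2 hd))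
    exact congrArg Subtype.val this
  -- the intersection with the derived subgroup is trivial
  have hLD : ∀ d ∈ commutator N, d ∈ L → d = 1 := by
    by_contra hne
    push Not at hne
    obtain ⟨d, hd, hdL, hd1⟩ := hne
    set S₀ := (L ⊓ commutator N).map N.subtype
    haveI hS₀n : S₀.Normal := ⟨by
      rintro _ ⟨n, hn, rfl⟩ x
      refine ⟨MulAut.conjNormal x n, ⟨hLinv x n hn.1, Subgroup.characteristic_iff_map_le.1 inferInstance (MulAut.conjNormal x : MulAut N) (Subgroup.mem_map_of_mem _ hn.2)⟩,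
        MulAut.conjNormal_apply x n⟩⟩
    have hlast : ∀ m : ℕ, ∀ S : Subgroup G, S.Normal → Nat.card S = m → S ≠ ⊥ →
        ∃ U : Subgroup G, U.Normal ∧ U ≤ S ∧ U ≠ ⊥ ∧ ∀ a ∈ U, ∀ b ∈ U, a * b = b * a := by
      intro m
      induction m using Nat.strong_induction_on with
      | _ m ih =>
        intro S hSn hSm hS
        by_cases hcom : ⁅S, S⁆ = ⊥
        · exact ⟨S, hSn, le_rfl, hS, fun a ha b hb => commutatorElement_eq_one_iff_mul_comm.1
            (Subgroup.mem_bot.1 (hcom ▸ Subgroup.commutator_mem_commutator ha hb))⟩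
        have hle : ⁅S, S⁆ ≤ S := Subgroup.commutator_le_self S
        have hne : ⁅S, S⁆ ≠ S := fun e => hS (le_bot_iff.1 (by
          obtain ⟨k, hk⟩ := (Group.isSolvable_def G).1 inferInstance
          rw [← hk]
          clear hk
          induction k with
          | zero => rw [derivedSeries_zero]; exact le_top
          | succ k ihk =>
            rw [derivedSeries_succ, ← e]
            exact Subgroup.commutator_mono ihk ihk))
        obtain ⟨U, h1, h2, h3, h4⟩ := ih (Nat.card (⁅S, S⁆ : Subgroup G)) (hSm ▸ (by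
          by_contra hge
          exact hne (Subgroup.eq_of_le_of_card_ge hle (not_lt.1 hge)))) _ (Subgroup.commutator_normal S S) rfl hcom
        exact ⟨U, h1, h2.trans hle, h3, h4⟩
    obtain ⟨U, hUn, hUle, hUne, hUab⟩ := hlast _ S₀ hS₀n rfl fun e => hd1 (by
      have : (d : G) ∈ S₀ := ⟨d, ⟨hdL, hd⟩, rfl⟩
      rw [e, Subgroup.mem_bot] at this
      exact Subtype.ext this)
    haveI := hUn
    letI : CommGroup U :=
      { (inferInstance : Group U) with mul_comm := fun a b => Subtype.ext (hUab a a.2 b b.2) }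
    haveI : Nontrivial U := (Subgroup.nontrivial_iff_ne_bot U).2 hUne
    let e : (P : Subgroup N) ≃* N ⧸ L := MulEquiv.ofBijective (π.comp (P : Subgroup N).subtype)
      ((Nat.bijective_iff_injective_and_card _).2 ⟨(injective_iff_map_eq_one _).2 fun p hp => Subtype.ext
        (hqL p ((QuotientGroup.eq_one_iff (p : N)).1 hp) kP (by
          rw [← hkP]
          exact congrArg Subtype.val (pow_card_eq_one' (x := p)))),
        by rw [← L.index_eq_card, hLidx, hkP]⟩)
    let ρ : N ⧸ L →* MulAut U :=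
      (MulAut.conjNormal : G →* MulAut U).comp (N.subtype.comp ((P : Subgroup N).subtype.comp e.symm.toMonoidHom))
    refine hQD.false_of_action hDQ ρ ?_ fun y hy u hu => ?_
    · refine hLco.coprime_dvd_left ?_
      refine (Subgroup.card_dvd_of_le hUle).trans ?_
      rw [Subgroup.card_map_of_injective N.subtype_injective]
      exact Subgroup.card_dvd_of_le inf_le_left
    · set p : N := ((e.symm y : (P : Subgroup N)) : N)
      have hpy : π p = y := e.apply_symm_apply y
      have hpm : conjA N g (Abelianization.of p) ≠ Abelianization.of p := fun e' => hy (by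
        rw [← hpy]
        intro c
        obtain ⟨i, hi⟩ := Subgroup.mem_zpowers_iff.1 c.2
        show Abelianization.of ((c : MulAut (N ⧸ L)) (π p)) = _
        rw [← hi, ← map_zpow]
        refine (hofQ _ p).2 ?_
        rw [MonoidHom.mem_ker.1 (h.ker_le (g ^ i) (mem_ker_deltaA.2 e'))]
        exact one_mem _)
      obtain ⟨⟨d', ⟨hd'L, hd'⟩, hd'u⟩⟩ := And.intro (hUle u.2) trivial
      refine Subtype.ext ?_
      rw [OneMemClass.coe_one, ← hd'u]
      refine congrArg N.subtype (hcent p ⟨kP, by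
        rw [← hkP]
        exact congrArg Subtype.val (pow_card_eq_one' (x := e.symm y))⟩ hpm d' hd' hd'L (Subtype.ext ?_)) |>.trans
        (map_one _)
      have h1 : (p : G) * (u : G) * (p : G)⁻¹ = u :=
        (MulAut.conjNormal_apply (H := U) (p : G) u).symm.trans (congrArg Subtype.val hu)
      show (p : G) * N.subtype d' = N.subtype d' * (p : G)
      rw [hd'u]
      exact mul_inv_eq_iff_eq_mul.1 h1
  -- the complement is central
  have hLN : ∀ l ∈ L, ∀ n : N, n * l = l * n := fun l hl n => by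
    refine commutatorElement_eq_one_iff_mul_comm.1
      (hLD _ (Subgroup.commutator_mem_commutator (Subgroup.mem_top n) (Subgroup.mem_top l)) ?_)
    rw [commutatorElement_def]
    exact L.mul_mem (hLn.conj_mem l hl n) (L.inv_mem hl)
  have hLG : ∀ l ∈ L, ∀ x : G, MulAut.conjNormal x l = l := fun l hl x => by
    have hfx : conjA N g (Abelianization.of l) = Abelianization.of l := by
      by_contra hne
      have h1 := h.card_centralizer hne
      rw [show Subgroup.centralizer ({l} : Set N) = ⊤ from (Subgroup.eq_top_iff' _).2 fun n =>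
        Subgroup.mem_centralizer_singleton_iff.2 (hLN l hl n), Subgroup.card_top,
        ← (commutator N).card_mul_index] at h1
      have h2 : Nat.card (commutator N) = 1 := Nat.eq_of_mul_eq_mul_right
        (Nat.pos_of_ne_zero Subgroup.index_ne_zero_of_finite) (h1.trans (one_mul _).symm)
      rw [h2] at hD
      exact h.prime.not_dvd_one hD
    have h3 := mem_ker_deltaA.1 (h.ker_le x (mem_ker_deltaA.2 hfx))
    rw [conjA_of, ← mul_inv_eq_one, ← map_inv, ← map_mul] at h3
    exact mul_inv_eq_one.1 (hLD _ ((QuotientGroup.eq_one_iff _).1 h3) (L.mul_mem (hLinv x l hl) (L.inv_mem hl)))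
  obtain ⟨⟨m₁, m₂, hm⟩, hab⟩ := hQD.exists_two_values
  refine ⟨⟨m₁, m₂, fun θ hθ => ?_⟩, fun a ha b hb => ?_⟩
  swap
  · have hmap : (commutator N).map π = commutator (N ⧸ L) := by
      rw [commutator_def, commutator_def, Subgroup.map_commutator, Subgroup.map_top_of_surjective π hπ]
    refine commutatorElement_eq_one_iff_mul_comm.1 (hLD _
      (Subgroup.commutator_mem_commutator (Subgroup.mem_top a) (Subgroup.mem_top b))
      ((QuotientGroup.eq_one_iff _).1 ?_))
    show π ⁅a, b⁆ = 1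
    rw [map_commutatorElement, commutatorElement_eq_one_iff_mul_comm]
    exact hab _ (hmap ▸ Subgroup.mem_map_of_mem π ha) _ (hmap ▸ Subgroup.mem_map_of_mem π hb)
  obtain ⟨ν, hν, hres, -⟩ := exists_central_of_trivial (J := L) θ (J' := ⊥)
    (fun l hl w => Subgroup.mem_bot.2 (commutatorElement_eq_one_iff_mul_comm.2 (hLN l hl w).symm)) bot_le
  let mlt : (↥(P : Subgroup N)) × L →* N :=
    { toFun := fun a => (a.1 : N) * (a.2 : N)
      map_one' := one_mul _
      map_mul' := fun a b => by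
        show (a.1 : N) * b.1 * ((a.2 : N) * b.2) = (a.1 : N) * a.2 * ((b.1 : N) * b.2)
        simp only [mul_assoc]
        rw [← mul_assoc (b.1 : N) (a.2 : N), hLN _ a.2.2 (b.1 : N), mul_assoc] }
  have hmlt : Function.Bijective mlt := hc.symm
  let eN := MulEquiv.ofBijective mlt hmlt
  let ψ : N →* ℂˣ := ν.comp ((MonoidHom.snd _ _).comp eN.symm.toMonoidHom)
  have hψval : ∀ (a : (P : Subgroup N)) (l : L), ψ ((a : N) * l) = ν l := fun a l => by
    show ν ((eN.symm (eN (a, l))).2) = ν l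
    rw [MulEquiv.symm_apply_apply]
  have hψq : ∀ n : N, n ^ (q ^ kP) = 1 → ψ n = 1 := fun n hn => by
    refine Fpf.eq_one_of_pow_coprime (hLco.pow_right kP) ?_ (by rw [← map_pow, hn, map_one])
    show ν ((eN.symm n).2) ^ _ = 1
    rw [← map_pow, pow_card_eq_one', map_one]
  have hψinv : ∀ (x : G) (n : N), ψ (MulAut.conjNormal x n) = ψ n := fun x n => by
    obtain ⟨⟨a, l⟩, rfl⟩ := eN.surjective n
    show ψ (MulAut.conjNormal x ((a : N) * l)) = ψ ((a : N) * l)
    rw [map_mul, map_mul, hLG _ l.2 x, map_mul, hψq (MulAut.conjNormal x (a : N)) (by rw [← map_pow, ← hkP, show (a : N) ^ Nat.card (P : Subgroup N) = 1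
        from congrArg Subtype.val (pow_card_eq_one' (x := a)), map_one]),
      hψq (a : N) (by rw [← hkP]; exact congrArg Subtype.val (pow_card_eq_one' (x := a)))]
  have hirr : IsIrrCharacter N (fun n => (θ : N → ℂ) n * ((ψ⁻¹ n : ℂˣ) : ℂ)) :=
    IsIrrCharacter.mul_linear θ.2 ((Units.coeHom ℂ).comp ψ⁻¹)
  obtain ⟨θb, hθb⟩ := Codegree.exists_quot ⟨_, hirr⟩ L fun l hl => by
    rw [mem_kerSub]
    show (θ : N → ℂ) l * ((ψ⁻¹ l : ℂˣ) : ℂ) = (θ : N → ℂ) 1 * ((ψ⁻¹ 1 : ℂˣ) : ℂ)
    have := hψval 1 ⟨l, hl⟩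
    rw [OneMemClass.coe_one, one_mul] at this
    rw [map_one, Units.val_one, mul_one, hres l hl, MonoidHom.inv_apply, this, val_of_mem ν hl, mul_assoc,
      ← Units.val_mul, mul_inv_cancel, Units.val_one, mul_one]
  obtain ⟨hv, hd⟩ := hval ⟨_, hirr⟩ θb fun n => (hθb n).symm
  have hdeg : charDegree (fun n => (θ : N → ℂ) n * ((ψ⁻¹ n : ℂˣ) : ℂ)) = charDegree (θ : N → ℂ) := by
    simp [charDegree]
  have hI : inertia N (fun n => (θ : N → ℂ) n * ((ψ⁻¹ n : ℂˣ) : ℂ)) = inertia N (θ : N → ℂ) := by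
    ext x
    rw [mem_inertia, mem_inertia, funext_iff, funext_iff]
    refine forall_congr' fun n => ?_
    rw [conjFun_eq, conjFun_eq, MonoidHom.inv_apply, MonoidHom.inv_apply, hψinv]
    exact mul_left_inj' (Units.ne_zero _)
  have hvv : valN N θ = valN N ⟨_, hirr⟩ := by
    show _ * _ = _ * _
    rw [← hI, ← hdeg]
  rw [hvv, hv]
  exact hm θb (hd ▸ hdeg ▸ hθ)

end Cfsg.Agent.NoDivDeg
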