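/-
Characters over the linear characters of the derived subgroup.

Main results: `exists_deg_eq_index`, `stabilizer_eq`, `exists_deg_of_commutator_comm`.
-/
import Cfsg.Agent.Lib.NoDivDeg.Action

set_option autoImplicit false
set_option linter.style.haveILetI false

namespace Cfsg.Agent.NoDivDeg

open Cfsg Cfsg.Agent.Char Cfsg.Agent.CharApp Cfsg.Agent.CharApp.DegreeSets
open MulAction
open scoped ComplexConjugate

universe u

variable {X : Type u} [Group X] [Finite X] {σ : MulAut X} {f q : ℕ}

theorem mem_invChars_commutator (μ : commutator X →* ℂˣ) : μ ∈ invChars (commutator X) :=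
  fun d hd j => by
    have e : MulAut.conjNormal d⁻¹ j = (⟨d, hd⟩ : commutator X)⁻¹ * j * ⟨d, hd⟩ := by
      apply Subtype.ext
      simp [MulAut.conjNormal_apply]
    rw [e, map_mul, map_mul, map_inv, mul_comm, mul_inv_cancel_left]

/-- A retraction onto an abelian complement gives every invariant linear character of the derived
subgroup an extension to its inertia group. -/
theorem exists_extension (π : X →* X) (hofπ : ∀ x, Abelianization.of (π x) = Abelianization.of x)
    (μ : invChars (commutator X)) :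
    ∃ ψ : inertia (commutator X) (cfun _ μ) →* ℂ, ∀ (t : inertia (commutator X) (cfun _ μ))
      (ht : (t : X) ∈ commutator X), π (t : X) = 1 →
        ψ t = cfun (commutator X) μ ⟨(t : X), ht⟩ := by
  set T := inertia (commutator X) (cfun _ μ)
  have hmem : ∀ x : X, x * (π x)⁻¹ ∈ commutator X := fun x => by
    refine (QuotientGroup.eq_one_iff _).1 ?_
    show Abelianization.of (x * (π x)⁻¹) = 1
    rw [map_mul, map_inv, hofπ, mul_inv_cancel]
  refine ⟨
    { toFun := fun t => (((μ : commutator X →* ℂˣ) ⟨(t : X) * (π (t : X))⁻¹, hmem _⟩ : ℂˣ) : ℂ)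
      map_one' := ?_
      map_mul' := fun s t => ?_ }, fun t ht h1 => ?_⟩
  · rw [show (⟨((1 : T) : X) * (π ((1 : T) : X))⁻¹, hmem _⟩ : commutator X) = 1 from Subtype.ext (by simp),
      map_one, Units.val_one]
  · have hs : π (s : X) ∈ T := by
      have h := s.2
      simp only [T, inertia_cfun, Subgroup.mem_comap] at h ⊢
      rwa [hofπ]
    have hsplit : (⟨((s * t : T) : X) * (π ((s * t : T) : X))⁻¹, hmem _⟩ : commutator X) =
        ⟨(s : X) * (π (s : X))⁻¹, hmem _⟩ *
          MulAut.conjNormal (π (s : X)) ⟨(t : X) * (π (t : X))⁻¹, hmem _⟩ := by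
      apply Subtype.ext
      simp only [Subgroup.coe_mul, MulAut.conjNormal_apply, map_mul]
      group
    rw [hsplit, map_mul, Units.val_mul]
    congr 1
    have h3 := (mem_inertia_iff _).1 hs ⟨(t : X) * (π (t : X))⁻¹, hmem _⟩
    exact (congrArg (fun y => (((μ : commutator X →* ℂˣ) y : ℂˣ) : ℂ))
      (Subtype.ext (MulAut.conjNormal_apply _ _))).trans h3
  · show (((μ : commutator X →* ℂˣ) _ : ℂˣ) : ℂ) = _
    refine congrArg (fun y => (((μ : commutator X →* ℂˣ) y : ℂˣ) : ℂ)) (Subtype.ext ?_)
    simp [h1]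

/-- The orbit size of a nontrivial invariant linear character of the derived subgroup is a degree. -/
theorem exists_deg_eq_index (π : X →* X) (hofπ : ∀ x, Abelianization.of (π x) = Abelianization.of x)
    (hker : ∀ x ∈ commutator X, π x = 1) (μ : invChars (commutator X)) :
    ∃ θ : IrrCharacter X,
      charDegree (θ : X → ℂ) = (stabilizer (Abelianization X) μ).index := by
  classical
  haveI := Fintype.ofFinite X
  haveI := Fintype.ofFinite (commutator X)
  haveI := Fintype.ofFinite (inertia (commutator X) (cfun _ μ))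
  obtain ⟨ψ, hψ⟩ := exists_extension π hofπ μ
  have hirr : IsIrrCharacter (inertia (commutator X) (cfun _ μ)) ψ := by
    have := IsIrrCharacter.mul_linear (isIrrCharacter_one (G := inertia (commutator X) (cfun _ μ))) ψ
    simp only [Pi.one_apply, one_mul] at this
    exact this
  have hover : classInner (fun n : commutator X => ψ ⟨(n : X),
      le_inertia _ (IsIrrCharacter.isClassFunction (isIrr_cfun _ μ)) n.2⟩) (cfun _ μ) ≠ 0 := by
    rw [show (fun n : commutator X => ψ ⟨(n : X), _⟩) = cfun (commutator X) μ from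
      funext fun n => hψ _ n.2 (hker _ n.2), classInner_irr_self (isIrr_cfun _ μ)]
    exact one_ne_zero
  obtain ⟨hind, -, -⟩ := clifford_correspondence _ (isIrr_cfun _ μ) hirr hover
  refine ⟨⟨_, hind⟩, ?_⟩
  have h1 := apply_one hind
  rw [indFun_one_apply, map_one, mul_one, index_inertia_cfun] at h1
  exact_mod_cast h1.symm

/-- All nontrivial invariant linear characters of the derived subgroup have one stabilizer. -/
theorem Data.stabilizer_eq (h : Data X σ f q) (π : X →* X)
    (hofπ : ∀ x, Abelianization.of (π x) = Abelianization.of x)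
    (hker : ∀ x ∈ commutator X, π x = 1)
    (hfpf : ∀ x : X, σ x * x⁻¹ ∉ commutator X → ∀ d ∈ commutator X, x * d = d * x → d = 1)
    {μ ν : invChars (commutator X)} (hμ : μ ≠ 1) (hν : ν ≠ 1) :
    stabilizer (Abelianization X) μ = stabilizer (Abelianization X) ν := by
  have hne : ∀ {μ : invChars (commutator X)}, μ ≠ 1 →
      (stabilizer (Abelianization X) μ).index ≠ 1 := fun {μ} hμ e => by
    obtain ⟨x, -, hx⟩ := h.moved
    refine smul_ne_of_moved (σ := σ) le_rfl hfpf (a := Abelianization.of x) ?_ hμ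
      (mem_stabilizer_iff.1 (Subgroup.index_eq_one.1 e ▸ Subgroup.mem_top _))
    rw [abAut_of]
    exact fun e' => hx (moved_iff.2 e')
  refine stabilizer_eq_of_antichain (fun v w hv hw hd => ?_) hμ hν
  obtain ⟨θ, hθ⟩ := exists_deg_eq_index π hofπ hker v
  obtain ⟨θ', hθ'⟩ := exists_deg_eq_index π hofπ hker w
  rw [← hθ, ← hθ'] at hd ⊢
  exact h.anti θ θ' (hθ ▸ hne hv) (hθ' ▸ hne hw) hd

/-- An abelian derived subgroup: a single nonlinear degree. -/
theorem Data.exists_deg_of_commutator_comm (h : Data X σ f q) (π : X →* X)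
    (hofπ : ∀ x, Abelianization.of (π x) = Abelianization.of x)
    (hker : ∀ x ∈ commutator X, π x = 1)
    (hfpf : ∀ x : X, σ x * x⁻¹ ∉ commutator X → ∀ d ∈ commutator X, x * d = d * x → d = 1)
    (hab : ∀ a b : commutator X, a * b = b * a) :
    ∃ m : ℕ, ∀ θ : IrrCharacter X, charDegree (θ : X → ℂ) = 1 ∨ charDegree (θ : X → ℂ) = m := by
  classical
  haveI := Fintype.ofFinite X
  haveI := Fintype.ofFinite (commutator X)
  have key : ∀ θ : IrrCharacter X, charDegree (θ : X → ℂ) ≠ 1 → ∃ μ : invChars (commutator X),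
      μ ≠ 1 ∧ charDegree (θ : X → ℂ) = (stabilizer (Abelianization X) μ).index := by
    intro θ hθ
    obtain ⟨η, hη⟩ := exists_constituent (IsCharacter.restrict (IsIrrCharacter.isCharacter θ.2)
      (commutator X)) (by rw [OneMemClass.coe_one]; exact IsIrrCharacter.apply_one_ne_zero θ.2)
    obtain ⟨l, hl⟩ := exists_hom_of_degree_one (IsIrrCharacter.isCharacter η.2)
      (apply_one_eq_one_of_comm hab η)
    set μ : invChars (commutator X) := ⟨l.toHomUnits, mem_invChars_commutator _⟩
    have hμη : cfun (commutator X) μ = (η : commutator X → ℂ) := by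
      rw [← hl]; funext j; simp [cfun, μ]
    rw [← hμη] at hη
    refine ⟨μ, fun e => hθ ?_, ?_⟩
    · have hone : cfun (commutator X) μ = 1 := by rw [e]; funext j; simp [cfun]
      rw [hone] at hη
      have := degree_one_of_trivOn (commutator X) (fun x y =>
        Subgroup.commutator_mem_commutator (Subgroup.mem_top x) (Subgroup.mem_top y)) θ.2
        (trivOn_of_constituent_one _ θ.2 hη)
      rw [apply_one θ.2] at this
      exact_mod_cast this
    set T := inertia (commutator X) (cfun _ μ)
    haveI := Fintype.ofFinite T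
    obtain ⟨ψ₀, hψ₀⟩ := exists_extension π hofπ μ
    obtain ⟨ψ, hψ, hind, hmult, -⟩ := exists_correspondent _ (isIrr_cfun _ μ) θ.2 hη
    have hDT : commutator X ≤ T := le_inertia _ (IsIrrCharacter.isClassFunction (isIrr_cfun _ μ))
    haveI := Fintype.ofFinite ((commutator X).subgroupOf T)
    have hψ₀irr : IsIrrCharacter T ψ₀ := by
      have := IsIrrCharacter.mul_linear (isIrrCharacter_one (G := T)) ψ₀
      simp only [Pi.one_apply, one_mul] at this
      exact this
    let e := Subgroup.subgroupOfEquivOfLe hDT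
    have hres₀ : (fun n : (commutator X).subgroupOf T => ψ₀ (n : T)) =
        fun n => cfun (commutator X) μ (e n) :=
      funext fun n => hψ₀ _ n.2 (hker _ n.2)
    have hres₀irr : IsIrrCharacter ((commutator X).subgroupOf T)
        (fun n => ψ₀ ((n : (commutator X).subgroupOf T) : T)) := by
      rw [hres₀]; exact IsIrrCharacter.comp_equiv (isIrr_cfun _ μ) e
    obtain ⟨β, hβ, hβt, hψβ⟩ := gallagher_exhaustive ((commutator X).subgroupOf T) hψ₀irr hres₀irr hψ (by
      rw [hres₀, show (fun n : (commutator X).subgroupOf T => ψ (n : T)) =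
        fun n => (fun n : commutator X => ψ ⟨(n : X), hDT n.2⟩) (e n) from rfl,
        classInner_comp_equiv e (fun n : commutator X => ψ ⟨(n : X), hDT n.2⟩) (cfun (commutator X) μ)]
      rw [hmult]
      exact hη)
    have hβ1 : β 1 = 1 := degree_one_of_trivOn _ (fun x y => Subgroup.mem_subgroupOf.2
      (Subgroup.commutator_mem_commutator (Subgroup.mem_top (x : X)) (Subgroup.mem_top (y : X)))) hβ hβt
    have h1 := apply_one θ.2
    rw [show (θ : X → ℂ) 1 = indFun T ψ 1 from congrFun hind.symm 1, indFun_one_apply, hψβ, Pi.mul_apply, map_one, one_mul, hβ1, mul_one,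
      index_inertia_cfun] at h1
    exact_mod_cast h1.symm
  by_cases hex : ∃ θ : IrrCharacter X, charDegree (θ : X → ℂ) ≠ 1
  · obtain ⟨θ₀, hθ₀⟩ := hex
    refine ⟨charDegree (θ₀ : X → ℂ), fun θ => or_iff_not_imp_left.2 fun hθ => ?_⟩
    obtain ⟨μ, hμ, e⟩ := key θ hθ
    obtain ⟨μ₀, hμ₀, e₀⟩ := key θ₀ hθ₀
    rw [e, e₀, h.stabilizer_eq π hofπ hker hfpf hμ hμ₀]
  · push Not at hex
    exact ⟨1, fun θ => Or.inl (hex θ)⟩

end Cfsg.Agent.NoDivDeg
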