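/-
The commutator pairing of the derived subgroup against a linear character of its derived subgroup is
nondegenerate.

Main results: `layer`, `pairing_mul_left`, `mem_layer_of_pairing_eq_one`.
-/
import Cfsg.Agent.Lib.NoDivDeg.Linear

set_option autoImplicit false
set_option linter.style.haveILetI false

namespace Cfsg.Agent.NoDivDeg

open Cfsg Cfsg.Agent.Char Cfsg.Agent.CharApp Cfsg.Agent.CharApp.DegreeSets
open MulAction
open scoped ComplexConjugate commutatorElement

universe u

variable {X : Type u} [Group X] [Finite X] {σ : MulAut X} {f q : ℕ}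

/-- The second derived subgroup. -/
abbrev layer (X : Type u) [Group X] : Subgroup X := ⁅commutator X, commutator X⁆

theorem layer_le : layer X ≤ commutator X := Subgroup.commutator_le_self _

theorem bracket_mem_layer {a b : X} (ha : a ∈ commutator X) (hb : b ∈ commutator X) :
    ⁅a, b⁆ ∈ layer X := Subgroup.commutator_mem_commutator ha hb

/-- The commutator pairing. -/
def pairing (μ : invChars (layer X)) (a b : commutator X) : ℂˣ :=
  (μ : layer X →* ℂˣ) ⟨⁅(a : X), (b : X)⁆, bracket_mem_layer a.2 b.2⟩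

theorem apply_conj_eq (μ : invChars (layer X)) {a : X} (ha : a ∈ commutator X) (j : layer X) :
    (μ : layer X →* ℂˣ) (MulAut.conjNormal a j) = (μ : layer X →* ℂˣ) j := by
  simpa using μ.2 a⁻¹ ((commutator X).inv_mem ha) j

theorem pairing_mul_left (μ : invChars (layer X)) (a a' b : commutator X) :
    pairing μ (a * a') b = pairing μ a b * pairing μ a' b := by
  unfold pairing
  rw [mul_comm, ← apply_conj_eq μ a.2 ⟨⁅(a' : X), (b : X)⁆, _⟩, ← map_mul]
  refine congrArg _ (Subtype.ext ?_)
  simp only [Subgroup.coe_mul, MulAut.conjNormal_apply, commutatorElement_def]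
  group

theorem pairing_swap (μ : invChars (layer X)) (a b : commutator X) :
    pairing μ b a = (pairing μ a b)⁻¹ := by
  unfold pairing
  rw [← map_inv]
  exact congrArg _ (Subtype.ext (by simp [commutatorElement_inv]))

theorem pairing_mul_right (μ : invChars (layer X)) (a b b' : commutator X) :
    pairing μ a (b * b') = pairing μ a b * pairing μ a b' := by
  rw [pairing_swap, pairing_mul_left, mul_inv, ← pairing_swap, ← pairing_swap]

theorem pairing_one_left (μ : invChars (layer X)) (b : commutator X) : pairing μ 1 b = 1 :=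
  mul_eq_left.1 (by rw [← pairing_mul_left, one_mul])

theorem pairing_pow_left (μ : invChars (layer X)) (a b : commutator X) (n : ℕ) :
    pairing μ (a ^ n) b = pairing μ a b ^ n := by
  induction n with
  | zero => rw [pow_zero, pow_zero, pairing_one_left]
  | succ n ih => rw [pow_succ, pairing_mul_left, ih, pow_succ]

/-- The radical of the pairing. -/
def radical (μ : invChars (layer X)) : Subgroup (commutator X) where
  carrier := {a | ∀ b, pairing μ a b = 1}
  one_mem' := fun b => pairing_one_left μ b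
  mul_mem' := fun {a a'} ha ha' b => by rw [pairing_mul_left, ha b, ha' b, one_mul]
  inv_mem' := fun {a} ha b => by
    have h := pairing_mul_left μ a⁻¹ a b
    rw [inv_mul_cancel, pairing_one_left, ha b, mul_one] at h
    exact h.symm

theorem commutator_subtype_eq :
    (commutator (commutator X)).map (commutator X).subtype = layer X :=
  Subgroup.map_subtype_commutator _

theorem mem_layer_iff {a : commutator X} :
    (a : X) ∈ layer X ↔ a ∈ commutator (commutator X) := by
  rw [← commutator_subtype_eq, Subgroup.mem_map]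
  exact ⟨fun ⟨b, hb, e⟩ => by rwa [← Subtype.ext e], fun h => ⟨a, h, rfl⟩⟩

theorem layer_subgroupOf_le_radical (μ : invChars (layer X)) :
    (layer X).subgroupOf (commutator X) ≤ radical μ := fun j hj b => by
  rw [pairing_swap, inv_eq_one]
  show (μ : layer X →* ℂˣ) _ = 1
  have e : (⟨⁅(b : X), (j : X)⁆, bracket_mem_layer b.2 j.2⟩ : layer X) =
      MulAut.conjNormal (b : X) (⟨(j : X), hj⟩ : layer X) * (⟨(j : X), hj⟩ : layer X)⁻¹ := by
    apply Subtype.ext
    simp [commutatorElement_def, MulAut.conjNormal_apply]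
  rw [e, map_mul, map_inv, apply_conj_eq μ b.2, mul_inv_cancel]

/-- A nonlinear degree being prime to `f`, the pairing has trivial radical. -/
theorem Data.mem_layer_of_pairing_eq_one (h : Data X σ f q) (π : X →* X)
    (hofπ : ∀ x, Abelianization.of (π x) = Abelianization.of x)
    (hker : ∀ x ∈ commutator X, π x = 1)
    (hfpf : ∀ x : X, σ x * x⁻¹ ∉ commutator X → ∀ d ∈ commutator X, x * d = d * x → d = 1)
    {μ : invChars (layer X)} (hμ : μ ≠ 1) {a : commutator X} (ha : a ∈ radical μ) :
    (a : X) ∈ layer X := by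
  classical
  by_contra haJ
  haveI := Fintype.ofFinite X
  haveI := Fintype.ofFinite (commutator X)
  set R := radical μ
  haveI := Fintype.ofFinite R
  set J' := (layer X).subgroupOf (commutator X)
  set J'' := J'.subgroupOf R
  haveI : J''.Normal := inferInstance
  haveI := Fintype.ofFinite J''
  have hJR : J' ≤ R := layer_subgroupOf_le_radical μ
  haveI hRn : R.Normal := ⟨fun r hr b => by
    have : b * r * b⁻¹ = (b * r * b⁻¹ * r⁻¹) * r := by group
    rw [this]
    refine R.mul_mem (hJR ?_) hr
    show ((b * r * b⁻¹ * r⁻¹ : commutator X) : X) ∈ layer X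
    simpa [commutatorElement_def] using bracket_mem_layer b.2 r.2⟩
  let e : J'' ≃* layer X := (Subgroup.subgroupOfEquivOfLe hJR).trans
    (Subgroup.subgroupOfEquivOfLe layer_le)
  have he : ∀ j : J'', ((e j : layer X) : X) = ((j : R) : commutator X) := fun j => rfl
  -- `μ` on the layer inside the radical
  let μ' : J'' → ℂ := fun j => cfun (layer X) μ (e j)
  have hμ' : IsIrrCharacter J'' μ' := IsIrrCharacter.comp_equiv (isIrr_cfun _ μ) e
  have hRfix : ∀ r : R, CliffordChar.conjFun J'' r μ' = μ' := fun r => funext fun j => by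
    rw [CliffordChar.conjFun_apply]
    refine congrArg (fun y => ((y : ℂˣ) : ℂ)) ?_
    refine Eq.trans (congrArg (μ : layer X →* ℂˣ) (Subtype.ext ?_))
      (apply_conj_eq μ ((commutator X).inv_mem (r : commutator X).2) (e j))
    rw [MulAut.conjNormal_apply, he, he]
    simp
  -- a linear extension to the radical
  obtain ⟨χ, hχ, hover⟩ := exists_over J'' hμ'
  have hχJ := restrict_invariant J'' hχ hμ' hover hRfix
  have hχker : commutator R ≤ Codegree.kerSub ⟨χ, hχ⟩ := by
    refine Subgroup.commutator_le.2 fun r _ s _ => ?_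
    rw [Codegree.mem_kerSub]
    have hmem : ⁅r, s⁆ ∈ J'' := by
      show ((⁅r, s⁆ : R) : commutator X).1 ∈ layer X
      simpa [commutatorElement_def] using bracket_mem_layer (r : commutator X).2 (s : commutator X).2
    have h1 := congrFun hχJ ⟨_, hmem⟩
    have h2 := congrFun hχJ 1
    simp only [Pi.smul_apply, OneMemClass.coe_one] at h1 h2
    show χ ⁅r, s⁆ = χ 1
    rw [h1, h2]
    congr 1
    show (((μ : layer X →* ℂˣ) (e ⟨_, hmem⟩) : ℂˣ) : ℂ) = (((μ : layer X →* ℂˣ) (e 1) : ℂˣ) : ℂ)
    rw [map_one, map_one]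
    have := r.2 (s : commutator X)
    unfold pairing at this
    rw [← this]
    congr 2
  obtain ⟨l, hl⟩ := exists_hom_of_degree_one (IsIrrCharacter.isCharacter hχ)
    (by rw [apply_one hχ, ThreeDegrees.deg_one_of_commutator_le ⟨χ, hχ⟩ hχker, Nat.cast_one])
  have hlμ : ∀ j : J'', l (j : R) = μ' j := by
    have hres : IsIrrCharacter J'' (fun j : J'' => χ j) := by
      rw [← hl]
      have := IsIrrCharacter.mul_linear (isIrrCharacter_one (G := J'')) (l.comp J''.subtype)
      simp only [Pi.one_apply, one_mul] at this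
      exact this
    by_contra hno
    refine hover (classInner_irr_of_ne hres hμ' fun e' => hno fun j => ?_)
    rw [← congrFun e' j, ← hl]
  set ν₀ : R →* ℂˣ := l.toHomUnits
  let Ext : (R →* ℂˣ) → Prop := fun ν => ∀ j : J'', ν (j : R) = (μ : layer X →* ℂˣ) (e j)
  have hν₀ : Ext ν₀ := fun j => Units.ext (hlμ j)
  -- a second extension
  obtain ⟨ω, hωJ, hω⟩ : ∃ ω : R →* ℂˣ, (∀ j : J'', ω (j : R) = 1) ∧ ω ⟨a, ha⟩ ≠ 1 := by
    have hab : ∀ u v : R ⧸ J'', u * v = v * u := by
      intro u v
      induction u using QuotientGroup.induction_on with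
      | H u => induction v using QuotientGroup.induction_on with
        | H v =>
          rw [← QuotientGroup.mk_mul, ← QuotientGroup.mk_mul, QuotientGroup.eq]
          show (((u * v)⁻¹ * (v * u) : R) : commutator X).1 ∈ layer X
          simpa [commutatorElement_def, mul_assoc] using
            bracket_mem_layer ((commutator X).inv_mem (v : commutator X).2)
              ((commutator X).inv_mem (u : commutator X).2)
    obtain ⟨l', hl'⟩ := TwoDegrees.exists_linear_sep hab (y := ((⟨a, ha⟩ : R) : R ⧸ J''))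
      fun e' => haJ ((QuotientGroup.eq_one_iff (⟨a, ha⟩ : R)).1 e')
    refine ⟨(l'.comp (QuotientGroup.mk' J'')).toHomUnits, fun j => Units.ext ?_, fun e' => hl' ?_⟩
    · show l' (((j : R) : R ⧸ J'')) = 1
      rw [(QuotientGroup.eq_one_iff _).2 j.2, map_one]
    · exact congrArg Units.val e'
  set T := inertia (layer X) (cfun (layer X) μ)
  have hT : ∀ {x : X}, x ∈ T → ∀ j : layer X,
      (μ : layer X →* ℂˣ) (MulAut.conjNormal x j) = (μ : layer X →* ℂˣ) j := fun {x} hx j => by
    apply Units.ext
    exact (congrArg (fun y => (((μ : layer X →* ℂˣ) y : ℂˣ) : ℂ))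
      (Subtype.ext (MulAut.conjNormal_apply _ _))).trans ((mem_inertia_iff _).1 hx j)
  -- the radical is normalized by `T`
  have hRT : ∀ {x : X}, x ∈ T → ∀ r : commutator X, r ∈ R → MulAut.conjNormal x r ∈ R := by
    intro x hx r hr b
    have h1 := hr (MulAut.conjNormal x⁻¹ b)
    unfold pairing at h1 ⊢
    rw [← h1]
    refine Eq.trans (congrArg _ (Subtype.ext ?_)) (hT hx _)
    simp only [MulAut.conjNormal_apply, commutatorElement_def]
    group
  let cj : ∀ x : X, x ∈ T → R →* R := fun x hx =>
    { toFun := fun r => ⟨MulAut.conjNormal x (r : commutator X), hRT hx _ r.2⟩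
      map_one' := Subtype.ext (map_one _)
      map_mul' := fun r s => Subtype.ext (map_mul _ _ _) }
  -- the common stabilizer of the linear characters of the derived subgroup
  obtain ⟨v₀, hv₀⟩ : ∃ v : invChars (commutator X), v ≠ 1 := by
    obtain ⟨l', hl'⟩ := TwoDegrees.exists_linear_sep (A := Abelianization (commutator X)) mul_comm
      (y := Abelianization.of a) fun e' => haJ (mem_layer_iff.2 ((QuotientGroup.eq_one_iff _).1 e'))
    refine ⟨⟨(l'.comp Abelianization.of).toHomUnits, mem_invChars_commutator _⟩, fun e' => hl' ?_⟩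
    have := congrArg (fun v : invChars (commutator X) => (((v : commutator X →* ℂˣ) a : ℂˣ) : ℂ)) e'
    simpa using this
  set S₀ := stabilizer (Abelianization X) v₀
  -- outside the common stabilizer commutation is onto the radical modulo the layer
  have honto : ∀ (x : X) (hx : x ∈ T), Abelianization.of x ∉ S₀ → ∀ r : R,
      ∃ r' : R, r⁻¹ * (cj x hx r' * r'⁻¹) ∈ J'' := by
    intro x hx hxS
    let A' := Abelianization (commutator X)
    let κ : A' →* A' := Abelianization.map (MulAut.conjNormal x : MulAut (commutator X)).toMonoidHom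
    let δ : A' →* A' :=
      { toFun := fun u => κ u * u⁻¹
        map_one' := by rw [map_one, inv_one, mul_one]
        map_mul' := fun u v => by rw [map_mul, mul_inv, mul_mul_mul_comm] }
    have hδsurj : Function.Surjective δ := by
      rw [← MonoidHom.range_eq_top]
      by_contra hne
      obtain ⟨u, -, hu⟩ := SetLike.exists_of_lt (lt_top_iff_ne_top.2 hne)
      obtain ⟨l', hl'⟩ := TwoDegrees.exists_linear_sep (A := A' ⧸ δ.range) mul_comm
        (y := (u : A' ⧸ δ.range)) fun e' => hu ((QuotientGroup.eq_one_iff _).1 e')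
      let v : invChars (commutator X) :=
        ⟨((l'.comp (QuotientGroup.mk' δ.range)).comp Abelianization.of).toHomUnits,
          mem_invChars_commutator _⟩
      have hv : v ≠ 1 := by
        intro e'
        obtain ⟨b, rfl⟩ := QuotientGroup.mk_surjective u
        refine hl' ?_
        have := congrArg (fun w : invChars (commutator X) => (((w : commutator X →* ℂˣ) b : ℂˣ) : ℂ)) e'
        change l' ((Abelianization.of b : A') : A' ⧸ δ.range) = 1 at this
        exact this
      refine hxS ?_
      rw [show S₀ = stabilizer (Abelianization X) v from h.stabilizer_eq π hofπ hker hfpf hv₀ hv,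
        mem_stabilizer_iff]
      refine Subtype.ext (MonoidHom.ext fun j => ?_)
      obtain ⟨k, rfl⟩ := (MulAut.conjNormal x : MulAut (commutator X)).surjective j
      rw [of_smul_apply]
      rw [show MulAut.conjNormal x⁻¹ (MulAut.conjNormal x k) = k from Subtype.ext (by
        simp [MulAut.conjNormal_apply, mul_assoc])]
      apply Units.ext
      show l' ((Abelianization.of k : A') : A' ⧸ δ.range) =
        l' ((Abelianization.of (MulAut.conjNormal x k) : A') : A' ⧸ δ.range)
      congr 1
      exact (QuotientGroup.eq.2 ⟨Abelianization.of k, mul_comm _ _⟩)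
    have hδinj : Function.Injective δ := Finite.injective_iff_surjective.2 hδsurj
    let Rb : Subgroup A' := R.map Abelianization.of
    have hmaps : ∀ u : Rb, δ u ∈ Rb := by
      rintro ⟨_, r, hr, rfl⟩
      exact ⟨MulAut.conjNormal x r * r⁻¹, R.mul_mem (hRT hx r hr) (R.inv_mem hr), by
        rw [map_mul, map_inv]; rfl⟩
    let δR : Rb → Rb := fun u => ⟨δ u, hmaps u⟩
    have hsurjR : Function.Surjective δR := Finite.injective_iff_surjective.1 fun u v e' =>
      Subtype.ext (hδinj (congrArg Subtype.val e'))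
    intro r
    obtain ⟨⟨_, r', hr', rfl⟩, hu⟩ := hsurjR ⟨_, r, r.2, rfl⟩
    refine ⟨⟨r', hr'⟩, ?_⟩
    show (((r : commutator X)⁻¹ * (MulAut.conjNormal x r' * r'⁻¹) : commutator X) : X) ∈ layer X
    refine mem_layer_iff.2 ((QuotientGroup.eq_one_iff _).1 ?_)
    show Abelianization.of ((r : commutator X)⁻¹ * (MulAut.conjNormal x r' * r'⁻¹)) = 1
    have hu' : κ (Abelianization.of r') * (Abelianization.of r')⁻¹ = Abelianization.of (r : commutator X) :=
      congrArg Subtype.val hu
    rw [map_mul, map_mul, map_inv, map_inv, inv_mul_eq_one]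
    exact hu'.symm
  let Bad : (R →* ℂˣ) → Prop := fun ν => Ext ν ∧ ∃ (x : X) (hx : x ∈ T),
    Abelianization.of x ∉ S₀ ∧ ν.comp (cj x hx) = ν
  -- at most one extension is fixed outside the common stabilizer
  have huniq : ∀ (x : X) (hx : x ∈ T), Abelianization.of x ∉ S₀ → ∀ ν ν' : R →* ℂˣ, Ext ν → Ext ν' →
      ν.comp (cj x hx) = ν → ν'.comp (cj x hx) = ν' → ν = ν' := by
    intro x hx hxS ν ν' hν hν' hf hf'
    refine MonoidHom.ext fun r => mul_inv_eq_one.1 ?_
    obtain ⟨r', hr'⟩ := honto x hx hxS r
    have hω1 : ∀ j : J'', (ν * ν'⁻¹) (j : R) = 1 := fun j => by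
      rw [MonoidHom.mul_apply, MonoidHom.inv_apply, hν j, hν' j, mul_inv_cancel]
    have h1 := hω1 ⟨_, hr'⟩
    have h2 : (ν * ν'⁻¹) (cj x hx r') = (ν * ν'⁻¹) r' := by
      rw [MonoidHom.mul_apply, MonoidHom.inv_apply, MonoidHom.mul_apply, MonoidHom.inv_apply]
      rw [← MonoidHom.comp_apply ν, hf, ← MonoidHom.comp_apply ν', hf']
    rw [map_mul, map_mul, map_inv, map_inv, h2, mul_inv_cancel, mul_one, inv_eq_one] at h1
    exact h1
  have hcjExt : ∀ (x : X) (hx : x ∈ T) (ν : R →* ℂˣ), Ext ν → Ext (ν.comp (cj x hx)) := by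
    intro x hx ν hν j
    have hmem : cj x hx (j : R) ∈ J'' := by
      show x * (((j : R) : commutator X) : X) * x⁻¹ ∈ layer X
      exact (inferInstance : (layer X).Normal).conj_mem _ j.2 x
    show ν (cj x hx (j : R)) = _
    rw [hν ⟨_, hmem⟩, ← hT hx (e j)]
    exact congrArg _ (Subtype.ext rfl)
  have hDfix : ∀ (ν : R →* ℂˣ), Ext ν → ∀ (d : commutator X) (r r' : R),
      (r' : commutator X) = d * r * d⁻¹ → ν r' = ν r := by
    intro ν hν d r r' hrr
    have hmem : r' * r⁻¹ ∈ J'' := by
      show (((r' : commutator X) * (r : commutator X)⁻¹ : commutator X) : X) ∈ layer X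
      rw [hrr]
      simpa [commutatorElement_def] using bracket_mem_layer d.2 (r : commutator X).2
    have h1 := hν ⟨_, hmem⟩
    rw [map_mul, map_inv] at h1
    rw [← mul_inv_eq_one, h1]
    have := r.2 d
    rw [pairing_swap, inv_eq_one] at this
    rw [← this]
    refine congrArg _ (Subtype.ext ?_)
    show (((r' * r⁻¹ : R) : commutator X) : X) = ⁅(d : X), ((r : commutator X) : X)⁆
    rw [Subgroup.coe_mul, InvMemClass.coe_inv, hrr]
    simp [commutatorElement_def]
  obtain ⟨ν, hν, hgood⟩ : ∃ ν, Ext ν ∧ ¬ Bad ν := by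
    by_contra hall
    push Not at hall
    obtain ⟨-, x, hx, hxS, hxf⟩ := hall ν₀ hν₀
    have hν₁ : Ext (ν₀ * ω) := fun j => by rw [MonoidHom.mul_apply, hν₀ j, hωJ j, mul_one]
    obtain ⟨-, y, hy, hyS, hyf⟩ := hall _ hν₁
    have hyfix : ν₀.comp (cj y hy) = ν₀ := by
      refine huniq x hx hxS _ _ (hcjExt y hy ν₀ hν₀) hν₀ (MonoidHom.ext fun r => ?_) hxf
      show ν₀ (cj y hy (cj x hx r)) = ν₀ (cj y hy r)
      refine Eq.trans ?_ (congrArg (fun φ : R →* ℂˣ => φ (cj y hy r)) hxf)
      show ν₀ (cj y hy (cj x hx r)) = ν₀ (cj x hx (cj y hy r))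
      exact hDfix ν₀ hν₀ ⟨y * x * y⁻¹ * x⁻¹, Subgroup.commutator_mem_commutator
        (Subgroup.mem_top y) (Subgroup.mem_top x)⟩ _ _ (Subtype.ext (by
          show y * (x * ((r : commutator X) : X) * x⁻¹) * y⁻¹ =
            y * x * y⁻¹ * x⁻¹ * (x * (y * ((r : commutator X) : X) * y⁻¹) * x⁻¹) *
              (y * x * y⁻¹ * x⁻¹)⁻¹
          group))
    have := huniq y hy hyS _ _ hν₀ hν₁ hyfix hyf
    exact hω (mul_eq_left.1 (DFunLike.congr_fun this ⟨a, ha⟩).symm)
  -- a character of the derived subgroup over the good extension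
  let νf : R → ℂ := fun r => (ν r : ℂ)
  have hνf : IsIrrCharacter R νf := by
    have := IsIrrCharacter.mul_linear (isIrrCharacter_one (G := R)) ((Units.coeHom ℂ).comp ν)
    simp only [Pi.one_apply, one_mul] at this
    exact this
  obtain ⟨η, hη, hηover⟩ := exists_over R hνf
  have hηR := restrict_invariant R hη hνf hηover fun d => funext fun r => by
    rw [CliffordChar.conjFun_apply]
    exact congrArg Units.val (hDfix ν hν d⁻¹ r
      ⟨d⁻¹ * r * d, by simpa using hRn.conj_mem _ r.2 d⁻¹⟩ (by simp))
  set c := classInner (fun r : R => η r) νf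
  have hηval : ∀ r : R, η r = c * (ν r : ℂ) := fun r => congrFun hηR r
  have hηJ : ∀ j : J'', η ((j : R) : commutator X) = c * μ' j := fun j => by
    rw [hηval]
    exact congrArg (fun y : ℂˣ => c * (y : ℂ)) (hν j)
  have hη1 : charDegree η ≠ 1 := by
    intro e1
    apply hμ
    refine Subtype.ext (MonoidHom.ext fun j => Units.ext ?_)
    obtain ⟨j, rfl⟩ := e.surjective j
    have h1 := hηJ j
    rw [show η ((j : R) : commutator X) = η 1 from
      (apply_commutator_of_linear hη e1 (mem_layer_iff.1 j.2)).trans (by first | rfl | simp)] at h1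
    have h2 := hηJ 1
    simp only [OneMemClass.coe_one] at h2
    rw [h1] at h2
    have h3 := mul_left_cancel₀ hηover h2
    show μ' j = _
    rw [h3]
    simp [μ', cfun]
  have hI : inertia (commutator X) η ≤ S₀.comap Abelianization.of := by
    intro s hs
    rw [mem_inertia_iff] at hs
    have hsT : s ∈ T := by
      rw [mem_inertia_iff]
      intro j
      obtain ⟨j, rfl⟩ := e.surjective j
      have hmem : ((e j : layer X) : X) ∈ commutator X := layer_le (e j).2
      have h1 := hs ((j : R) : commutator X)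
      rw [hηJ] at h1
      have hj' : s * (((j : R) : commutator X) : X) * s⁻¹ ∈ layer X :=
        (inferInstance : (layer X).Normal).conj_mem _ j.2 s
      let j' : J'' := ⟨⟨⟨s * (((j : R) : commutator X) : X) * s⁻¹, layer_le hj'⟩, hJR hj'⟩, hj'⟩
      exact mul_left_cancel₀ hηover ((hηJ j').symm.trans h1)
    by_contra hsS
    refine hgood ⟨hν, s, hsT, hsS, MonoidHom.ext fun r => Units.ext ?_⟩
    have h1 := hs (r : commutator X)
    rw [hηval] at h1
    refine mul_left_cancel₀ hηover (Eq.trans ?_ h1)
    show c * ((ν (cj s hsT r) : ℂˣ) : ℂ) = _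
    rw [← hηval]
    exact congrArg η (Subtype.ext (MulAut.conjNormal_apply _ _))
  obtain ⟨θ, hθ, hθover⟩ := exists_over (commutator X) hη
  obtain ⟨k, -, -, hdeg, -⟩ := degree_over (commutator X) hθ hη hθover
  have hd : S₀.index * charDegree η ∣ charDegree θ := by
    obtain ⟨t, ht⟩ := Subgroup.index_dvd_of_le hI
    rw [Subgroup.index_comap_of_surjective _ fun b => of_surjective b] at ht
    exact ⟨k * t, by rw [hdeg, ht]; ring⟩
  obtain ⟨θ₀, hθ₀⟩ := exists_deg_eq_index π hofπ hker v₀
  have hS1 : S₀.index ≠ 1 := fun e1 => by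
    obtain ⟨x, -, hx⟩ := h.moved
    refine smul_ne_of_moved (σ := σ) le_rfl hfpf (a := Abelianization.of x) ?_ hv₀
      (mem_stabilizer_iff.1 ((Subgroup.index_eq_one.1 e1 : stabilizer (Abelianization X) v₀ = ⊤).symm ▸
        Subgroup.mem_top _))
    rw [abAut_of]
    exact fun e' => hx (moved_iff.2 e')
  have hθne : charDegree θ ≠ 1 := fun e1 => hη1 (Nat.dvd_one.1 (e1 ▸ (dvd_mul_left _ _).trans hd))
  have heq := h.anti θ₀ ⟨θ, hθ⟩ (hθ₀ ▸ hS1) hθne (hθ₀ ▸ (dvd_mul_right _ _).trans hd)
  change charDegree (θ₀ : X → ℂ) = charDegree θ at heq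
  rw [← heq, hθ₀] at hd
  refine hη1 (Nat.dvd_one.1 ((Nat.mul_dvd_mul_iff_left (Nat.pos_of_ne_zero
    Subgroup.index_ne_zero_of_finite)).1 (hd.trans (mul_one _).symm.dvd)))

end Cfsg.Agent.NoDivDeg
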