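/-
The derived subgroup is abelian, so there is a single nonlinear degree.

Main result: `Data.exists_deg_of_not_dvd`.
-/
import Cfsg.Agent.Lib.NoDivDeg.Radical

set_option autoImplicit false
set_option linter.style.haveILetI false

namespace Cfsg.Agent.NoDivDeg

open Cfsg Cfsg.Agent.Char Cfsg.Agent.CharApp Cfsg.Agent.CharApp.DegreeSets
open MulAction
open scoped ComplexConjugate commutatorElement

universe u

variable {X : Type u} [Group X] [Finite X] {σ : MulAut X} {f q : ℕ}

theorem map_commutator_eq (σ : MulAut X) : (commutator X).map σ.toMonoidHom = commutator X := by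
  rw [commutator_def, Subgroup.map_commutator, Subgroup.map_top_of_surjective _ σ.surjective]

theorem map_layer_eq (σ : MulAut X) : (layer X).map σ.toMonoidHom = layer X := by
  rw [layer, Subgroup.map_commutator, map_commutator_eq]

theorem exists_invChar_ne_one (hnil : Group.IsNilpotent (commutator X)) (hne : layer X ≠ ⊥) :
    ∃ μ : invChars (layer X), μ ≠ 1 := by
  classical
  set D := commutator X
  set J3 : Subgroup X := ⁅layer X, D⁆
  haveI : J3.Normal := Subgroup.commutator_normal _ _
  have hlt : ¬ layer X ≤ J3 := by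
    intro hle
    obtain ⟨n, hn⟩ := Subgroup.nilpotent_iff_lowerCentralSeries.1 hnil
    refine hne (le_bot_iff.1 ?_)
    have hall : ∀ k, layer X ≤ ((⊤ : Subgroup D).lowerCentralSeries k).map D.subtype := by
      intro k
      induction k with
      | zero => rw [Subgroup.lowerCentralSeries_zero, ← MonoidHom.range_eq_map, Subgroup.range_subtype]; exact layer_le
      | succ k ih =>
        refine hle.trans ?_
        rw [Subgroup.lowerCentralSeries_succ, Subgroup.map_commutator, ← MonoidHom.range_eq_map,
          Subgroup.range_subtype]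
        exact Subgroup.commutator_mono ih le_rfl
    have := hall n
    rwa [hn, Subgroup.map_bot] at this
  obtain ⟨j, hj, hj'⟩ := SetLike.not_le_iff_exists.1 hlt
  have hab : ∀ u v : layer X ⧸ J3.subgroupOf (layer X), u * v = v * u := by
    intro u v
    induction u using QuotientGroup.induction_on with
    | H u => induction v using QuotientGroup.induction_on with
      | H v =>
        rw [← QuotientGroup.mk_mul, ← QuotientGroup.mk_mul, QuotientGroup.eq, Subgroup.mem_subgroupOf]
        simpa [commutatorElement_def, mul_assoc] using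
          Subgroup.commutator_mem_commutator (H₁ := layer X) (H₂ := D) ((layer X).inv_mem v.2)
            (D.inv_mem (layer_le u.2))
  obtain ⟨l, hl⟩ := TwoDegrees.exists_linear_sep hab
    (y := ((⟨j, hj⟩ : layer X) : layer X ⧸ J3.subgroupOf (layer X)))
    fun e => hj' ((QuotientGroup.eq_one_iff (⟨j, hj⟩ : layer X)).1 e)
  refine ⟨⟨(l.comp (QuotientGroup.mk' _)).toHomUnits, fun d hd i => Units.ext ?_⟩, fun e => hl ?_⟩
  · show l ((MulAut.conjNormal d⁻¹ i : layer X) : layer X ⧸ J3.subgroupOf (layer X)) =
      l ((i : layer X) : layer X ⧸ J3.subgroupOf (layer X))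
    congr 1
    rw [QuotientGroup.eq, Subgroup.mem_subgroupOf]
    have h3 := (inferInstance : J3.Normal).conj_mem _
      (J3.inv_mem (Subgroup.commutator_mem_commutator (H₁ := layer X) (H₂ := D)
        ((layer X).inv_mem i.2) (D.inv_mem hd))) 1
    simpa [commutatorElement_def, MulAut.conjNormal_apply, mul_assoc] using h3
  · have := congrArg (fun w : invChars (layer X) =>
      (((w : layer X →* ℂˣ) ⟨j, hj⟩ : ℂˣ) : ℂ)) e
    simpa using this

theorem pairing_eq_one_iff {μ : invChars (layer X)} : (∀ a b, pairing μ a b = 1) → μ = 1 := by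
  intro h
  refine Subtype.ext (MonoidHom.ext fun j => ?_)
  have hle : layer X ≤ ((μ : layer X →* ℂˣ).ker).map (layer X).subtype := by
    refine Subgroup.commutator_le.2 fun a ha b hb => ?_
    exact ⟨⟨_, bracket_mem_layer ha hb⟩, h ⟨a, ha⟩ ⟨b, hb⟩, rfl⟩
  obtain ⟨k, hk, hkj⟩ := hle j.2
  rw [← Subtype.ext hkj]
  exact hk

/-- The derived subgroup is abelian. -/
theorem Data.layer_eq_bot (h : Data X σ f q) (π : X →* X)
    (hofπ : ∀ x, Abelianization.of (π x) = Abelianization.of x)
    (hker : ∀ x ∈ commutator X, π x = 1)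
    (hfpf : ∀ x : X, σ x * x⁻¹ ∉ commutator X → ∀ d ∈ commutator X, x * d = d * x → d = 1)
    (hnil : Group.IsNilpotent (commutator X)) : layer X = ⊥ := by
  classical
  by_contra hne
  haveI := Fintype.ofFinite X
  haveI := Fintype.ofFinite (commutator X)
  haveI := Fintype.ofFinite (layer X)
  obtain ⟨μ, hμ⟩ := exists_invChar_ne_one hnil hne
  obtain ⟨r, hr, hd⟩ := Nat.exists_prime_and_dvd (fun e => hμ (orderOf_eq_one_iff.1 e))
  haveI := Fact.mk hr
  set μ₁ := μ ^ (orderOf μ / r)
  have hμ₁o : orderOf μ₁ = r := orderOf_pow_orderOf_div (orderOf_pos μ).ne' hd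
  have hμ₁ : μ₁ ≠ 1 := fun e => hr.ne_one (by rw [← hμ₁o, e, orderOf_one])
  -- the derived subgroup has exponent `r` modulo the layer
  have hexp : ∀ a : commutator X, ((a ^ r : commutator X) : X) ∈ layer X := by
    intro a
    refine h.mem_layer_of_pairing_eq_one π hofπ hker hfpf hμ₁ fun b => ?_
    rw [pairing_pow_left]
    unfold pairing
    rw [← MonoidHom.pow_apply, ← SubgroupClass.coe_pow, ← hμ₁o, pow_orderOf_eq_one]
    rfl
  have hV : IsPGroup r (invChars (commutator X)) := fun v => ⟨1, by
    rw [pow_one]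
    refine Subtype.ext (MonoidHom.ext fun a => ?_)
    rw [SubgroupClass.coe_pow, MonoidHom.pow_apply, ← map_pow]
    exact Abelianization.commutator_subset_ker (v : commutator X →* ℂˣ) (mem_layer_iff.1 (hexp a))⟩
  have hW : IsPGroup r (invChars (layer X)) := fun w => ⟨1, by
    rw [pow_one]
    refine pairing_eq_one_iff fun a b => ?_
    show ((w ^ r : invChars (layer X)) : layer X →* ℂˣ) _ = 1
    rw [SubgroupClass.coe_pow, MonoidHom.pow_apply]
    show pairing w a b ^ r = 1
    rw [← pairing_pow_left]
    exact layer_subgroupOf_le_radical w (hexp a) b⟩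
  -- fewer characters of the layer
  obtain ⟨a₀, ha₀⟩ : ∃ a : commutator X, (a : X) ∉ layer X := by
    by_contra hall
    push Not at hall
    refine hμ₁ (pairing_eq_one_iff fun a b => ?_)
    exact layer_subgroupOf_le_radical μ₁ (hall a) b
  let Φ : invChars (layer X) →* invChars (commutator X) :=
    { toFun := fun w => ⟨{ toFun := fun b => pairing w a₀ b
                           map_one' := mul_eq_left.1 (by rw [← pairing_mul_right, one_mul])
                           map_mul' := fun b b' => pairing_mul_right w a₀ b b' },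
        mem_invChars_commutator _⟩
      map_one' := Subtype.ext (MonoidHom.ext fun b => rfl)
      map_mul' := fun w w' => Subtype.ext (MonoidHom.ext fun b => rfl) }
  have hΦ : Function.Injective Φ := by
    rw [injective_iff_map_eq_one]
    intro w hw
    by_contra hw1
    refine ha₀ (h.mem_layer_of_pairing_eq_one π hofπ hker hfpf hw1 fun b => ?_)
    exact congrArg (fun v : invChars (commutator X) => (v : commutator X →* ℂˣ) b) hw
  have hΦs : ¬ Function.Surjective Φ := by
    intro hs
    obtain ⟨l, hl⟩ := TwoDegrees.exists_linear_sep (A := Abelianization (commutator X)) mul_comm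
      (y := Abelianization.of a₀) fun e => ha₀ (mem_layer_iff.2 ((QuotientGroup.eq_one_iff _).1 e))
    obtain ⟨w, hw⟩ := hs ⟨(l.comp Abelianization.of).toHomUnits, mem_invChars_commutator _⟩
    apply hl
    have h1 := congrArg (fun v : invChars (commutator X) => (((v : commutator X →* ℂˣ) a₀ : ℂˣ) : ℂ)) hw
    have h2 : pairing w a₀ a₀ = 1 := by
      unfold pairing
      rw [show (⟨⁅(a₀ : X), (a₀ : X)⁆, bracket_mem_layer a₀.2 a₀.2⟩ : layer X) = 1 from
        Subtype.ext (by simp [commutatorElement_def]), map_one]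
    change ((pairing w a₀ a₀ : ℂˣ) : ℂ) = l (Abelianization.of a₀) at h1
    rw [h2, Units.val_one] at h1
    exact h1.symm
  have hlt : Nat.card (invChars (layer X)) < Nat.card (invChars (commutator X)) := by
    haveI := Fintype.ofFinite (invChars (layer X))
    haveI := Fintype.ofFinite (invChars (commutator X))
    rw [Nat.card_eq_fintype_card, Nat.card_eq_fintype_card]
    exact Fintype.card_lt_of_injective_not_surjective Φ hΦ hΦs
  -- the counts
  have c1 := card_invChars h le_rfl (map_commutator_eq σ) hfpf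
  have c2 := card_invChars h layer_le (map_layer_eq σ) hfpf
  set k := ((abAut σ).toMonoidHom.eqLocus (MonoidHom.id _)).index with hk
  have hk2 : 2 ≤ k := by
    have h0 : k ≠ 0 := Subgroup.index_ne_zero_of_finite
    have h1 : k ≠ 1 := by
      intro e
      obtain ⟨x, -, hx⟩ := h.moved
      refine hx (moved_iff.2 ?_)
      have := (Subgroup.index_eq_one.1 e).symm ▸ Subgroup.mem_top (Abelianization.of x)
      exact this
    omega
  obtain ⟨A, hA⟩ := IsPGroup.iff_card.1 hV
  obtain ⟨C, hC⟩ := IsPGroup.iff_card.1 hW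
  obtain ⟨B, hB⟩ := IsPGroup.iff_card.1 (hV.to_subgroup
    ((sigmaW (map_commutator_eq σ)).toMonoidHom.eqLocus (MonoidHom.id _)))
  obtain ⟨E, hE⟩ := IsPGroup.iff_card.1 (hW.to_subgroup
    ((sigmaW (map_layer_eq σ)).toMonoidHom.eqLocus (MonoidHom.id _)))
  rw [hA, hB] at c1
  rw [hC, hE] at c2
  have hC1 : 1 < r ^ C := by
    rw [← hC]
    exact (Finite.one_lt_card_iff_nontrivial).2 ⟨μ₁, 1, hμ₁⟩
  have hA1 : 1 < r ^ A := by rw [← hA]; rw [← hC] at hC1; omega
  have hB0 : B ≠ 0 := fun e => by rw [e, pow_zero, Nat.sub_self, mul_zero] at c1; omega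
  have hE0 : E ≠ 0 := fun e => by rw [e, pow_zero, Nat.sub_self, mul_zero] at c2; omega
  have hAC := pow_eq_of_ratio hr.two_le hk2 c1 c2 hB0 hE0
  rw [hA, hC, hAC] at hlt
  exact lt_irrefl _ hlt

/-- With derived subgroup of order prime to `q` there is one nonlinear degree. -/
theorem Data.exists_deg_of_not_dvd (h : Data X σ f q) (hD : ¬ q ∣ Nat.card (commutator X)) :
    ∃ m : ℕ, ∀ θ : IrrCharacter X, charDegree (θ : X → ℂ) = 1 ∨ charDegree (θ : X → ℂ) = m := by
  by_cases hex : ∃ θ : IrrCharacter X, charDegree (θ : X → ℂ) ≠ 1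
  swap
  · push Not at hex
    exact ⟨1, fun θ => Or.inl (hex θ)⟩
  obtain ⟨θ, hθ⟩ := hex
  obtain ⟨π, hofπ, hker, -, hfpf⟩ := h.exists_complement hD
  have hnil := h.isNilpotent_commutator (h.not_dvd θ hθ) π hofπ hker hfpf
  have hbot := h.layer_eq_bot π hofπ hker hfpf hnil
  refine h.exists_deg_of_commutator_comm π hofπ hker hfpf fun a b => Subtype.ext ?_
  have := bracket_mem_layer a.2 b.2
  rw [hbot, Subgroup.mem_bot, commutatorElement_eq_one_iff_mul_comm] at this
  exact this

end Cfsg.Agent.NoDivDeg
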