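/-
A nonabelian `q`-factor group: all nonlinear degrees agree.

Main result: `exists_deg_of_dvd`.
-/
import Cfsg.Agent.Lib.CharApp.ThreeDegrees.DerivedLength
import Cfsg.Agent.Lib.CharExtend.Coprime

set_option autoImplicit false
set_option linter.style.haveILetI false

namespace Cfsg.Agent.NoDivDeg

open Cfsg Cfsg.Agent.Char Cfsg.Agent.CharApp Cfsg.Agent.CharApp.DegreeSets
open Cfsg.Agent.Codegree (kerSub mem_kerSub inflate)
open scoped ComplexConjugate

universe u

variable {X : Type u} [Group X] [Finite X]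

/-- A degree is at most the index of an abelian subgroup. -/
theorem deg_le_index_of_comm (A : Subgroup X) (hA : ∀ a b : A, a * b = b * a) (ψ : IrrCharacter X) :
    charDegree (ψ : X → ℂ) ≤ A.index := by
  classical
  haveI := Fintype.ofFinite X
  haveI := Fintype.ofFinite A
  obtain ⟨l, hl⟩ := exists_constituent (IsCharacter.restrict (IsIrrCharacter.isCharacter ψ.2) A)
    (by rw [OneMemClass.coe_one]; exact IsIrrCharacter.apply_one_ne_zero ψ.2)
  obtain ⟨m, hm⟩ := IsCharacter.classInner_nat (IsCharacter.indFun A (IsIrrCharacter.isCharacter l.2))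
    (IsIrrCharacter.isCharacter ψ.2)
  have hm0 : m ≠ 0 := fun e => hl (by
    rw [← classInner_conj_symm, ← frobenius_reciprocity A _ (IsIrrCharacter.isClassFunction ψ.2), hm, e,
      Nat.cast_zero, map_zero])
  have := classInner_nat_le_degree (IsCharacter.indFun A (IsIrrCharacter.isCharacter l.2)) ψ.2 hm
    (a := A.index) (by rw [indFun_one_apply, apply_one_eq_one_of_comm hA l, mul_one]) (apply_one ψ.2)
  exact le_trans (Nat.le_mul_of_pos_left _ (Nat.pos_of_ne_zero hm0)) this

/-- If all nonlinear degrees are divisible by `q`, form an antichain and `q` divides the order of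
the derived subgroup, then there is only one of them. -/
theorem exists_deg_of_dvd {q : ℕ} (hq : q.Prime)
    (hdvd : ∀ θ : IrrCharacter X, charDegree (θ : X → ℂ) ≠ 1 → q ∣ charDegree (θ : X → ℂ))
    (anti : ∀ θ θ' : IrrCharacter X, charDegree (θ : X → ℂ) ≠ 1 → charDegree (θ' : X → ℂ) ≠ 1 →
      charDegree (θ : X → ℂ) ∣ charDegree (θ' : X → ℂ) →
      charDegree (θ : X → ℂ) = charDegree (θ' : X → ℂ))
    (hD : q ∣ Nat.card (commutator X)) :
    ∃ m : ℕ, ∀ θ : IrrCharacter X, charDegree (θ : X → ℂ) = 1 ∨ charDegree (θ : X → ℂ) = m := by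
  classical
  haveI := Fact.mk hq
  haveI := Fintype.ofFinite X
  obtain ⟨L, hLn, hLco, k, hk⟩ := exists_normal_pComplement q hdvd
  haveI := hLn
  haveI := Fintype.ofFinite L
  have hnab : ¬ commutator X ≤ L := fun hle =>
    hq.not_dvd_one (hLco.gcd_eq_one ▸ Nat.dvd_gcd (hD.trans (Subgroup.card_dvd_of_le hle)) dvd_rfl)
  obtain ⟨ψ, hψ⟩ : ∃ ψ : IrrCharacter (X ⧸ L), charDegree (ψ : X ⧸ L → ℂ) ≠ 1 := by
    by_contra hh
    push Not at hh
    refine hnab ?_
    rw [← derivedSeries_one]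
    refine ThreeDegrees.derived_le_of_quotient L 1 ?_
    rw [derivedSeries_one, commutator_def, Subgroup.commutator_eq_bot_iff_le_centralizer]
    exact fun x _ y _ => comm_of_forall_degree_one (fun φ => by rw [apply_one φ.2, hh φ, Nat.cast_one]) y x
  set m := charDegree (ψ : X ⧸ L → ℂ)
  have hmX : charDegree (inflate L ψ : X → ℂ) = m := ThreeDegrees.deg_inflate L ψ
  have hm : m ∣ q ^ k := by
    rw [← hk, L.index_eq_card]
    exact Codegree.deg_dvd_card ψ
  have key : ∀ (θ : IrrCharacter X), charDegree (θ : X → ℂ) ≠ 1 →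
      (charDegree (θ : X → ℂ) ∣ q ^ k ∨ m ∣ charDegree (θ : X → ℂ)) →
      charDegree (θ : X → ℂ) = m := by
    intro θ hθ h
    rcases h with h | h
    · obtain ⟨i, -, hi⟩ := (Nat.dvd_prime_pow hq).1 h
      obtain ⟨j, -, hj⟩ := (Nat.dvd_prime_pow hq).1 hm
      rcases le_total i j with hij | hij
      · exact (anti θ (inflate L ψ) hθ (by rw [hmX]; exact hψ)
          (by rw [hmX, hi, hj]; exact pow_dvd_pow q hij)).trans hmX
      · exact (anti (inflate L ψ) θ (by rw [hmX]; exact hψ) hθ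
          (by rw [hmX, hi, hj]; exact pow_dvd_pow q hij)).symm.trans hmX
    · exact (anti (inflate L ψ) θ (by rw [hmX]; exact hψ) hθ (by rw [hmX]; exact h)).symm.trans hmX
  refine ⟨m, fun θ => or_iff_not_imp_left.2 fun hθ => key θ hθ ?_⟩
  obtain ⟨η, hη⟩ := exists_constituent (IsCharacter.restrict (IsIrrCharacter.isCharacter θ.2) L)
    (by rw [OneMemClass.coe_one]; exact IsIrrCharacter.apply_one_ne_zero θ.2)
  obtain ⟨e, -, -, hdeg, -⟩ := degree_over L θ.2 η.2 hη
  set T := inertia L (η : L → ℂ)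
  by_cases hd0 : T.index = 1 ∧ charDegree (η : L → ℂ) = 1
  · left
    have hT : T = ⊤ := Subgroup.index_eq_one.1 hd0.1
    obtain ⟨χ₀, hχ₀, hres⟩ := CharExtend.extends_of_coprime η.2
      (fun g x => (mem_inertia_iff L).1 (hT ▸ Subgroup.mem_top g : g ∈ T) x)
      (hk ▸ hLco.pow_right k)
    have hresf : (fun x : L => χ₀ x) = (η : L → ℂ) := funext hres
    obtain ⟨β, hβ, hβt, he⟩ := gallagher_exhaustive L hχ₀ (hresf ▸ η.2) θ.2 (by rw [hresf]; exact hη)
    have hβd : charDegree (θ : X → ℂ) = charDegree β := by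
      have h1 := apply_one θ.2
      rw [he, Pi.mul_apply, apply_one hβ, ← OneMemClass.coe_one L, hres 1, apply_one η.2, hd0.2,
        Nat.cast_one, one_mul, Nat.cast_inj] at h1
      exact h1.symm ▸ he ▸ rfl
    rw [hβd, ← hk]
    exact (Codegree.deg_dvd_index (⟨β, hβ⟩ : IrrCharacter X)).trans (Subgroup.index_dvd_of_le
      (K := kerSub ⟨β, hβ⟩) fun x hx => mem_kerSub.2 (hβt ⟨x, hx⟩))
  right
  haveI := Fintype.ofFinite T
  have hLT : L ≤ T := le_inertia L (IsIrrCharacter.isClassFunction η.2)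
  set L' := L.subgroupOf T
  haveI := Fintype.ofFinite L'
  let eL := Subgroup.subgroupOfEquivOfLe hLT
  have hη' : IsIrrCharacter L' (fun x => (η : L → ℂ) (eL x)) := IsIrrCharacter.comp_equiv η.2 eL
  obtain ⟨χT, hχT, hresT⟩ := CharExtend.extends_of_coprime hη'
    (fun g x => (mem_inertia_iff L).1 g.2 (eL x)) (by
      rw [Nat.card_congr eL.toEquiv]
      exact (hk ▸ hLco.pow_right k : (Nat.card L).Coprime L.index).coprime_dvd_right
        (Subgroup.relIndex_dvd_index_of_normal (H := L) (K := T)))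
  have hresTf : IsIrrCharacter L' (fun x : L' => χT x) := by rw [funext hresT]; exact hη'
  -- every irreducible character of `T / L` is linear
  have hTab : ∀ β : IrrCharacter (T ⧸ L'), charDegree (β : T ⧸ L' → ℂ) = 1 := by
    intro β
    have hirrOf : ∀ β : IrrCharacter (T ⧸ L'), ∃ φ : IrrCharacter X,
        charDegree (φ : X → ℂ) = T.index * charDegree (η : L → ℂ) * charDegree (β : T ⧸ L' → ℂ) := by
      intro β
      have hirr := gallagher_irr L' hχT hresTf (inflate L' β).2
        (fun x => mem_kerSub.1 (ThreeDegrees.le_kerSub_inflate L' β x.2))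
      have hres2 : (fun n : L => (χT * (inflate L' β : T → ℂ)) ⟨(n : X), hLT n.2⟩) =
          (charDegree (β : T ⧸ L' → ℂ) : ℂ) • (η : L → ℂ) := by
        funext n
        have h1 := hresT (eL.symm n)
        rw [MulEquiv.apply_symm_apply] at h1
        have h2 : (inflate L' β : T → ℂ) ⟨(n : X), hLT n.2⟩ = (charDegree (β : T ⧸ L' → ℂ) : ℂ) := by
          rw [Codegree.inflate_apply, (QuotientGroup.eq_one_iff _).2
            (Subgroup.mem_subgroupOf.2 n.2 : (⟨(n : X), hLT n.2⟩ : T) ∈ L'), apply_one β.2]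
        rw [Pi.mul_apply, h2, Pi.smul_apply, smul_eq_mul, mul_comm]
        exact congrArg _ h1
      obtain ⟨hind, -, -⟩ := clifford_correspondence L η.2 hirr (by
        rw [hres2, classInner_smul_left, classInner_irr_self η.2, mul_one]
        exact Nat.cast_ne_zero.2 (TwoClassChar.deg_pos β.2).ne')
      refine ⟨⟨_, hind⟩, ?_⟩
      have h1 := apply_one hind
      rw [indFun_one_apply, show (χT * (inflate L' β : T → ℂ)) 1 = _ from congrFun hres2 1,
        Pi.smul_apply, smul_eq_mul, apply_one η.2, ← Nat.cast_mul, ← Nat.cast_mul, Nat.cast_inj] at h1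
      show charDegree (indFun T (χT * (inflate L' β : T → ℂ))) = _
      rw [← h1]
      ring
    obtain ⟨φ, hφ⟩ := hirrOf β
    let one : IrrCharacter (T ⧸ L') := ⟨1, isIrrCharacter_one⟩
    obtain ⟨φ₀, hφ₀⟩ := hirrOf one
    rw [show charDegree (one : T ⧸ L' → ℂ) = 1 by simp [one, charDegree], mul_one] at hφ₀
    have hne : T.index * charDegree (η : L → ℂ) ≠ 1 := fun e1 => hd0 (mul_eq_one.1 e1)
    have hpos : 0 < T.index * charDegree (η : L → ℂ) := Nat.mul_pos
      (Nat.pos_of_ne_zero Subgroup.index_ne_zero_of_finite) (TwoClassChar.deg_pos η.2)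
    have h2 := anti φ₀ φ (hφ₀ ▸ hne) (hφ ▸ fun e1 => hne (mul_eq_one.1 e1).1)
      (hφ₀ ▸ hφ ▸ dvd_mul_right _ _)
    rw [hφ₀, hφ] at h2
    exact (Nat.eq_of_mul_eq_mul_left hpos ((mul_one _).trans h2)).symm
  -- so `m` divides the index of `T`
  have hab : ∀ a b : (T.map (QuotientGroup.mk' L)), a * b = b * a := by
    rintro ⟨_, a, ha, rfl⟩ ⟨_, b, hb, rfl⟩
    have h1 := comm_of_forall_degree_one (fun β => by rw [apply_one β.2, hTab β, Nat.cast_one])
      (((⟨a, ha⟩ : T)) : T ⧸ L') ((⟨b, hb⟩ : T) : T ⧸ L')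
    rw [← QuotientGroup.mk_mul, ← QuotientGroup.mk_mul, QuotientGroup.eq, Subgroup.mem_subgroupOf] at h1
    refine Subtype.ext ?_
    show QuotientGroup.mk' L a * QuotientGroup.mk' L b = QuotientGroup.mk' L b * QuotientGroup.mk' L a
    rw [← map_mul, ← map_mul]
    exact (QuotientGroup.eq).2 h1
  have hidx : (T.map (QuotientGroup.mk' L)).index = T.index :=
    Subgroup.index_map_eq T (QuotientGroup.mk'_surjective L) (by rw [QuotientGroup.ker_mk']; exact hLT)
  have hle := hidx ▸ deg_le_index_of_comm _ hab ψ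
  obtain ⟨i, -, hi⟩ := (Nat.dvd_prime_pow hq).1 hm
  obtain ⟨j, -, hj⟩ := (Nat.dvd_prime_pow hq).1 (hk ▸ Subgroup.index_dvd_of_le hLT)
  have hmle : q ^ i ≤ q ^ j := hi ▸ hj ▸ hle
  have hTm : m ∣ T.index := by
    rw [hi, hj]
    exact pow_dvd_pow q ((Nat.pow_le_pow_iff_right hq.one_lt).1 hmle)
  rw [hdeg]
  exact (hTm.mul_left e).mul_right _

end Cfsg.Agent.NoDivDeg
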