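/-
No divisibility among degrees and a disconnected degree graph: three degrees.

Main result: `NoDiv.card_eq_three`.
-/
import Cfsg.Agent.Lib.NoDivDeg.Twists
import Cfsg.Agent.Lib.NoDivDeg.Layer
import Cfsg.Agent.Lib.NoDivDeg.NonabSylow
import Cfsg.Agent.Lib.DegreeGraph.Basic

set_option autoImplicit false
set_option linter.style.haveILetI false

namespace Cfsg.Agent.NoDivDeg

open Cfsg Cfsg.Agent.Char Cfsg.Agent.CharApp Cfsg.Agent.CharApp.DegreeSets
open Cfsg.Agent.CharApp.TwoDegrees (FrobSection exists_max_section)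
open scoped ComplexConjugate

universe u

variable {G : Type u} [Group G] [Finite G]

theorem exists_coprime_factor (f : ℕ) (hf : 0 < f) : ∀ o : ℕ, 0 < o →
    ∃ b k : ℕ, b.Coprime f ∧ o ∣ b * f ^ k := by
  intro o
  induction o using Nat.strong_induction_on with
  | _ o ih =>
    intro ho
    by_cases hc : o.Coprime f
    · exact ⟨o, 0, hc, by simp⟩
    obtain ⟨r, hr, hro, hrf⟩ := Nat.Prime.not_coprime_iff_dvd.1 hc
    obtain ⟨o', rfl⟩ := hro
    have ho' : 0 < o' := Nat.pos_of_mul_pos_left ho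
    obtain ⟨b, k, hb, hd⟩ := ih o' (lt_mul_of_one_lt_left ho' hr.one_lt) ho'
    refine ⟨b, k + 1, hb, ?_⟩
    rw [pow_succ]
    calc r * o' ∣ f * (b * f ^ k) := Nat.mul_dvd_mul hrf hd
      _ = b * (f ^ k * f) := by ring

theorem card_components_le_one {q : ℕ} (hq : q ∈ degreePrimes G)
    (h : ∀ v : ↥(degreePrimes G), ((degreeGraph G).induce (degreePrimes G)).Reachable v ⟨q, hq⟩) :
    Nat.card ((degreeGraph G).induce (degreePrimes G)).ConnectedComponent ≤ 1 := by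
  haveI : Subsingleton ((degreeGraph G).induce (degreePrimes G)).ConnectedComponent := ⟨fun a b => by
    induction a using SimpleGraph.ConnectedComponent.ind with
    | _ v => induction b using SimpleGraph.ConnectedComponent.ind with
      | _ w => exact SimpleGraph.ConnectedComponent.sound ((h v).trans (h w).symm)⟩
  exact Finite.card_le_one_iff_subsingleton.2 inferInstance

/-- With two components, the section is of Frobenius type and `f` is prime to the other degrees. -/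
theorem NoDiv.exists_section [Group.IsSolvable G] (h : NoDiv G)
    (htwo : Nat.card ((degreeGraph G).induce (degreePrimes G)).ConnectedComponent = 2) :
    ∃ (K N : Subgroup G) (q : ℕ), FrobSection G N.index K N q ∧ N.index ≠ 1 ∧
      (∃ g : G, ∀ x : G, ∃ i : ℤ, (g ^ i)⁻¹ * x ∈ N) ∧
      (∃ χ : IrrCharacter G, charDegree (χ : G → ℂ) = N.index) ∧
      (∀ χ : IrrCharacter G, q ∣ charDegree (χ : G → ℂ) → (charDegree (χ : G → ℂ)).Coprime N.index) ∧
      (∃ χ : IrrCharacter G, q ∣ charDegree (χ : G → ℂ)) := by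
  classical
  have hG : ¬ commutator G ≤ ⊥ := by
    intro hle
    have : IsEmpty ↥(degreePrimes G) := ⟨fun ⟨p, hp, d, ⟨χ, hd⟩, hpd⟩ => by
      have h1 := DegreeGraph.degree_one_of_trivial χ fun x hx => by
        rw [le_bot_iff.1 hle, Subgroup.mem_bot] at hx; rw [hx]
      rw [h1] at hd
      exact hp.ne_one (Nat.dvd_one.1 (hd ▸ hpd))⟩
    haveI : IsEmpty ((degreeGraph G).induce (degreePrimes G)).ConnectedComponent :=
      ⟨fun C => C.ind fun v => this.false v⟩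
    simp at htwo
  obtain ⟨K, hKn, -, hKc, hKm⟩ := exists_max_section (⊥ : Subgroup G) hG
  haveI := hKn
  have hpos : ∀ χ : IrrCharacter G, ∀ p : ℕ, p.Prime → p ∣ charDegree (χ : G → ℂ) →
      charDegree (χ : G → ℂ) ≠ 1 := fun χ p hp hd e => hp.not_dvd_one (e ▸ hd)
  rcases section_cases K hKc hKm with ⟨p, hp, hpK⟩ | ⟨N, q, hs, hf1, hgen, χf, hχf⟩
  · exfalso
    obtain ⟨v⟩ : Nonempty ↥(degreePrimes G) := by
      by_contra hne
      rw [not_nonempty_iff] at hne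
      haveI : IsEmpty ((degreeGraph G).induce (degreePrimes G)).ConnectedComponent :=
        ⟨fun C => C.ind fun v => hne.false v⟩
      simp at htwo
    have hall : ∀ w : ↥(degreePrimes G), ∃ χ : IrrCharacter G,
        (w : ℕ) ∣ charDegree (χ : G → ℂ) ∧ p ∣ charDegree (χ : G → ℂ) := by
      rintro ⟨r, hr, d, ⟨χ, rfl⟩, hd⟩
      exact ⟨χ, hd, h.dvd_of_isPGroup_section hp K hpK hKc χ (hpos χ r hr hd)⟩
    obtain ⟨χ₀, -, hχ₀⟩ := hall v
    have hpmem : p ∈ degreePrimes G := ⟨hp, _, ⟨χ₀, rfl⟩, hχ₀⟩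
    have := card_components_le_one hpmem fun w => by
      obtain ⟨χ, h1, h2⟩ := hall w
      exact DegreeGraph.reachable_of_dvd w.2 hpmem ⟨χ, rfl⟩ h1 h2
    omega
  have hcase := h.eq_or_dvd hs hf1 χf hχf
  obtain ⟨χ₀, hχ₀⟩ : ∃ χ : IrrCharacter G, q ∣ charDegree (χ : G → ℂ) := by
    by_contra hno
    push Not at hno
    obtain ⟨r, hr, hrf⟩ := Nat.exists_prime_and_dvd hf1
    have hrmem : r ∈ degreePrimes G := ⟨hr, _, ⟨χf, rfl⟩, hχf ▸ hrf⟩
    have := card_components_le_one hrmem (by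
      rintro ⟨s, hs', d, ⟨χ, rfl⟩, hd⟩
      have e := (hcase χ (hpos χ s hs' hd)).resolve_right (hno χ)
      exact DegreeGraph.reachable_of_dvd _ hrmem ⟨χ, rfl⟩ hd (e ▸ hrf))
    omega
  refine ⟨K, N, q, hs, hf1, hgen, ⟨χf, hχf⟩, fun χ hχ => ?_, ⟨χ₀, hχ₀⟩⟩
  by_contra hc
  obtain ⟨r, hr, hr1, hr2⟩ := Nat.Prime.not_coprime_iff_dvd.1 hc
  have hqmem : q ∈ degreePrimes G := ⟨hs.prime, _, ⟨χ, rfl⟩, hχ⟩
  have hrmem : r ∈ degreePrimes G := ⟨hr, _, ⟨χ, rfl⟩, hr1⟩
  have := card_components_le_one hqmem (by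
    rintro ⟨s, hs', d, ⟨ψ, rfl⟩, hd⟩
    rcases hcase ψ (hpos ψ s hs' hd) with e | e
    · exact (DegreeGraph.reachable_of_dvd _ hrmem ⟨ψ, rfl⟩ hd (e ▸ hr2)).trans
        (DegreeGraph.reachable_of_dvd hrmem hqmem ⟨χ, rfl⟩ hr1 hχ)
    · exact DegreeGraph.reachable_of_dvd _ hqmem ⟨ψ, rfl⟩ hd e)
  omega

/-- With two components there are exactly three degrees. -/
theorem NoDiv.card_eq_three [Group.IsSolvable G] (h : NoDiv G)
    (htwo : Nat.card ((degreeGraph G).induce (degreePrimes G)).ConnectedComponent = 2) :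
    Nat.card ↥(charDegrees G) = 3 := by
  classical
  obtain ⟨K, N, q, hs, hf1, ⟨g₀, hg₀⟩, ⟨χf, hχf⟩, hco, χ₀, hχ₀⟩ := h.exists_section htwo
  haveI := hs.K_normal
  haveI := hs.N_normal
  haveI := Fintype.ofFinite G
  haveI := Fintype.ofFinite N
  haveI := Fact.mk hs.prime
  have hqf : ¬ q ∣ N.index := fun hd => hs.prime.not_dvd_one
    (hs.cop.gcd_eq_one ▸ Nat.dvd_gcd hd dvd_rfl)
  have hcyc : IsCyclic (G ⧸ N) := ⟨⟨(g₀ : G ⧸ N), fun y => by
    induction y using QuotientGroup.induction_on with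
    | H x =>
      obtain ⟨i, hi⟩ := hg₀ x
      exact Subgroup.mem_zpowers_iff.2 ⟨i, by rw [← QuotientGroup.mk_zpow]; exact QuotientGroup.eq.2 hi⟩⟩⟩
  -- characters of the kernel are invariant and extend
  have hinv : ∀ θ : IrrCharacter N, charDegree (θ : N → ℂ) ≠ 1 →
      (∀ (x : G) (n : N), (θ : N → ℂ) ⟨x * n * x⁻¹, hs.N_normal.conj_mem n n.2 x⟩ = (θ : N → ℂ) n) ∧
      ∃ χ : IrrCharacter G, charDegree (χ : G → ℂ) = charDegree (θ : N → ℂ) := by
    intro θ hθ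
    obtain ⟨χ, hχ, hover⟩ := exists_over N θ.2
    obtain ⟨e, he, -, hdeg, -⟩ := degree_over N hχ θ.2 hover
    have hqd : q ∣ charDegree χ :=
      (h.dvd_of_frobSection hs hf1 χf hχf θ hθ).trans (degree_dvd_of_over N hχ θ.2 hover)
    have ht : (inertia N (θ : N → ℂ)).index = 1 := by
      refine Nat.eq_one_of_dvd_coprimes (hco ⟨χ, hχ⟩ hqd) ?_
        (Subgroup.index_dvd_of_le (le_inertia N (IsIrrCharacter.isClassFunction θ.2)))
      show _ ∣ charDegree χ
      exact hdeg ▸ (dvd_mul_left _ e).mul_right _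
    have hall : ∀ (x : G) (n : N),
        (θ : N → ℂ) ⟨x * n * x⁻¹, hs.N_normal.conj_mem n n.2 x⟩ = (θ : N → ℂ) n := fun x =>
      (mem_inertia_iff N).1 (Subgroup.index_eq_one.1 ht ▸ Subgroup.mem_top x)
    obtain ⟨χh, hχh, hext⟩ := FullyRamified.exists_extension_of_cyclic hcyc θ.2 hall
    refine ⟨hall, ⟨_, hχh⟩, ?_⟩
    have h1 := apply_one hχh
    rw [← OneMemClass.coe_one N, hext 1, apply_one θ.2] at h1
    exact_mod_cast h1.symm
  have hdegN : ∀ χ : IrrCharacter G, charDegree (χ : G → ℂ) ≠ 1 →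
      charDegree (χ : G → ℂ) ≠ N.index → ∃ θ : IrrCharacter N, charDegree (θ : N → ℂ) ≠ 1 ∧
        charDegree (χ : G → ℂ) = charDegree (θ : N → ℂ) := by
    intro χ hχ hχf'
    obtain ⟨θ, hθ⟩ := exists_constituent (IsCharacter.restrict (IsIrrCharacter.isCharacter χ.2) N)
      (by rw [OneMemClass.coe_one]; exact IsIrrCharacter.apply_one_ne_zero χ.2)
    have hθ1 : charDegree (θ : N → ℂ) ≠ 1 := fun e => by
      have h1 := ThreeDegrees.dvd_mul_index N χ.2 θ.2 hθ
      rw [e, one_mul] at h1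
      exact hχf' ((h.eq_of_dvd hχ (χ' := χf) (hχf ▸ h1)).trans hχf)
    obtain ⟨-, χ', hχ'⟩ := hinv θ hθ1
    refine ⟨θ, hθ1, ?_⟩
    have := h.eq_of_dvd (χ := χ') (χ' := χ) (hχ' ▸ hθ1) (hχ' ▸ degree_dvd_of_over N χ.2 θ.2 hθ)
    rw [← this, hχ']
  -- a generator of `G` modulo `N` whose period has order dividing a power of the index
  obtain ⟨b, k, hb, hbk⟩ := exists_coprime_factor N.index
    (Nat.pos_of_ne_zero Subgroup.index_ne_zero_of_finite) _ (orderOf_pos (g₀ ^ N.index))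
  set g := g₀ ^ b
  have hgN : g ∉ N := by
    intro hg
    have h1 : g₀ ∈ N := mem_of_coprime_pow N hb hg (Subgroup.pow_index_mem N g₀)
    refine hf1 (Subgroup.index_eq_one.2 ((Subgroup.eq_top_iff' N).2 fun x => ?_))
    obtain ⟨i, hi⟩ := hg₀ x
    simpa using N.mul_mem (N.zpow_mem h1 i) hi
  have hgf : g ^ N.index ∈ N := Subgroup.pow_index_mem N g
  set σ : MulAut N := MulAut.conjNormal g
  have hNK : ∀ n : N, n ∈ commutator N → (n : G) ∈ K := by
    intro n hn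
    have hle : commutator N ≤ K.subgroupOf N := Subgroup.commutator_le.2 fun a _ b _ => by
      rw [Subgroup.mem_subgroupOf]
      simpa [commutatorElement_def] using hs.ab _ a.2 _ b.2
    exact hle hn
  have hdata : Data N σ N.index q := by
    refine ⟨hs.prime, fun θ hθ x => ?_, fun θ hθ => ?_, fun θ θ' hθ hθ' hd => ?_,
      fun θ hθ => h.dvd_of_frobSection hs hf1 χf hχf θ hθ, ⟨⟨g ^ N.index, hgf⟩, ?_, ⟨k, ?_⟩, ?_⟩, ?_⟩
    · exact (congrArg _ (Subtype.ext (MulAut.conjNormal_apply _ _))).trans ((hinv θ hθ).1 g x)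
    · obtain ⟨-, χ, hχ⟩ := hinv θ hθ
      rw [← hχ]
      exact hco χ (hχ ▸ h.dvd_of_frobSection hs hf1 χf hχf θ hθ)
    · obtain ⟨-, χ, hχ⟩ := hinv θ hθ
      obtain ⟨-, χ', hχ'⟩ := hinv θ' hθ'
      rw [← hχ, ← hχ'] at hd ⊢
      exact h.eq_of_dvd (hχ ▸ hθ) hd
    · refine Subtype.ext ?_
      simp only [σ, MulAut.conjNormal_apply]
      rw [← pow_succ', pow_succ, mul_inv_cancel_right]
    · refine Subtype.ext ?_
      rw [SubmonoidClass.coe_pow, OneMemClass.coe_one, ← pow_mul, ← pow_mul]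
      refine orderOf_dvd_iff_pow_eq_one.1 ?_
      obtain ⟨c, hc⟩ := hbk
      rw [orderOf_dvd_iff_pow_eq_one, show b * (N.index * N.index ^ k) = N.index * (b * N.index ^ k) by ring,
        pow_mul, hc, pow_mul, pow_orderOf_eq_one, one_pow]
    · intro x
      refine Subtype.ext ?_
      rw [← map_pow]
      exact MulAut.conjNormal_apply _ _
    · obtain ⟨x, hx, hxK⟩ := SetLike.not_le_iff_exists.1 hs.ne
      obtain ⟨j, m, hm, he⟩ := Nat.exists_eq_pow_mul_and_not_dvd (orderOf_pos x).ne' q hs.prime.ne_one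
      refine ⟨⟨x ^ m, N.pow_mem hx m⟩, ⟨j, Subtype.ext ?_⟩, fun hc => ?_⟩
      · rw [SubmonoidClass.coe_pow, OneMemClass.coe_one, ← pow_mul, mul_comm, ← he, pow_orderOf_eq_one]
      · refine hxK (mem_of_coprime_pow K ((hs.prime.coprime_iff_not_dvd.2 hm).symm) ?_ (hs.pow x hx))
        refine hs.fpf g hgN _ (N.pow_mem hx m) ?_
        have := hNK _ hc
        simpa [σ] using this
  obtain ⟨m, hm⟩ : ∃ m, ∀ θ : IrrCharacter N, charDegree (θ : N → ℂ) = 1 ∨ charDegree (θ : N → ℂ) = m := by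
    by_cases hD : q ∣ Nat.card (commutator N)
    · exact exists_deg_of_dvd hs.prime (fun θ hθ => h.dvd_of_frobSection hs hf1 χf hχf θ hθ)
        hdata.anti hD
    · exact hdata.exists_deg_of_not_dvd hD
  have hq1 : ∀ χ : IrrCharacter G, q ∣ charDegree (χ : G → ℂ) → charDegree (χ : G → ℂ) ≠ 1 :=
    fun χ hd e => hs.prime.not_dvd_one (e ▸ hd)
  have hχ₀f : charDegree (χ₀ : G → ℂ) ≠ N.index := fun e => hqf (e ▸ hχ₀)
  obtain ⟨θ₀, hθ₀, hdeg₀⟩ := hdegN χ₀ (hq1 χ₀ hχ₀) hχ₀f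
  have hm₀ : charDegree (χ₀ : G → ℂ) = m := hdeg₀.trans ((hm θ₀).resolve_left hθ₀)
  have hset : charDegrees G = ({1, N.index, m} : Set ℕ) := by
    ext d
    constructor
    · rintro ⟨χ, rfl⟩
      by_cases h1 : charDegree (χ : G → ℂ) = 1
      · exact Or.inl h1
      by_cases h2 : charDegree (χ : G → ℂ) = N.index
      · exact Or.inr (Or.inl h2)
      obtain ⟨θ, hθ, e⟩ := hdegN χ h1 h2
      exact Or.inr (Or.inr (e.trans ((hm θ).resolve_left hθ)))
    · rintro (rfl | rfl | rfl)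
      · exact ⟨⟨1, isIrrCharacter_one⟩, by simp [charDegree]⟩
      · exact ⟨χf, hχf⟩
      · exact ⟨χ₀, hm₀⟩
  rw [hset, Nat.card_coe_set_eq]
  refine Set.ncard_eq_three.2 ⟨1, N.index, m, Ne.symm hf1, ?_, ?_, rfl⟩
  · exact fun e => hq1 χ₀ hχ₀ (hm₀.trans e.symm)
  · exact fun e => hχ₀f (hm₀.trans e.symm)

end Cfsg.Agent.NoDivDeg
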