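/-
No divisibility among degrees: at most four degrees and derived length at most three.

Main results: `NoDiv.exists_four`.
-/
import Cfsg.Agent.Lib.NoDivDeg.TwoComponents
import Cfsg.Agent.Lib.NoDivDeg.CaseB
import Cfsg.Agent.Lib.NoDivDeg.CaseA

set_option autoImplicit false
set_option linter.style.haveILetI false
set_option linter.unusedSectionVars false

namespace Cfsg.Agent.NoDivDeg

open Cfsg Cfsg.Agent.Char Cfsg.Agent.CharApp Cfsg.Agent.CharApp.DegreeSets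
open Cfsg.Agent.CharApp.TwoDegrees (FrobSection exists_max_section)
open Cfsg.Agent.CharApp.ThreeDegrees (Deg3)
open scoped ComplexConjugate

universe u

variable {G : Type u} [Group G] [Finite G]

theorem exists_moved_of_frobSection {m q : ℕ} {K N : Subgroup G} (hs : FrobSection G m K N q)
    [N.Normal] {g : G} (hg : g ∉ N) :
    ∃ x : N, (∃ j, x ^ (q ^ j) = 1) ∧ MulAut.conjNormal g x * x⁻¹ ∉ commutator N := by
  haveI := Fact.mk hs.prime
  have hNK : ∀ n : N, n ∈ commutator N → (n : G) ∈ K := by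
    intro n hn
    have hle : commutator N ≤ K.subgroupOf N := Subgroup.commutator_le.2 fun a _ b _ => by
      rw [Subgroup.mem_subgroupOf]
      simpa [commutatorElement_def] using hs.ab _ a.2 _ b.2
    exact hle hn
  obtain ⟨x, hx, hxK⟩ := SetLike.not_le_iff_exists.1 hs.ne
  obtain ⟨j, l, hl, he⟩ := Nat.exists_eq_pow_mul_and_not_dvd (orderOf_pos x).ne' q hs.prime.ne_one
  refine ⟨⟨x ^ l, N.pow_mem hx l⟩, ⟨j, Subtype.ext ?_⟩, fun hc => ?_⟩
  · rw [SubmonoidClass.coe_pow, OneMemClass.coe_one, ← pow_mul, mul_comm, ← he, pow_orderOf_eq_one]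
  · refine hxK (mem_of_coprime_pow K ((hs.prime.coprime_iff_not_dvd.2 hl).symm) ?_ (hs.pow x hx))
    refine hs.fpf g hg _ (N.pow_mem hx l) ?_
    have := hNK _ hc
    simpa [MulAut.conjNormal_apply] using this

theorem not_mem_of_gen {N : Subgroup G} (hf1 : N.index ≠ 1) {g : G}
    (hg : ∀ x : G, ∃ i : ℤ, (g ^ i)⁻¹ * x ∈ N) : g ∉ N := fun h => by
  refine hf1 (Subgroup.index_eq_one.2 ((Subgroup.eq_top_iff' N).2 fun x => ?_))
  obtain ⟨i, hi⟩ := hg x
  simpa using N.mul_mem (N.zpow_mem h i) hi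

/-- Prime index of the kernel: three degrees. -/
theorem NoDiv.exists_deg3_of_prime [Group.IsSolvable G] (h : NoDiv G) {K N : Subgroup G} {q : ℕ}
    (hs : FrobSection G N.index K N q) (hf : N.index.Prime) {g₀ : G}
    (hg₀ : ∀ x : G, ∃ i : ℤ, (g₀ ^ i)⁻¹ * x ∈ N) (χf : IrrCharacter G)
    (hχf : charDegree (χf : G → ℂ) = N.index) : ∃ m, Deg3 G N.index m := by
  classical
  haveI := hs.K_normal
  haveI := hs.N_normal
  haveI := Fintype.ofFinite G
  haveI := Fintype.ofFinite N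
  have hf1 := hf.ne_one
  have hcyc : IsCyclic (G ⧸ N) := ⟨⟨(g₀ : G ⧸ N), fun y => by
    induction y using QuotientGroup.induction_on with
    | H x =>
      obtain ⟨i, hi⟩ := hg₀ x
      exact Subgroup.mem_zpowers_iff.2 ⟨i, by rw [← QuotientGroup.mk_zpow]; exact QuotientGroup.eq.2 hi⟩⟩⟩
  have hinv : ∀ θ : IrrCharacter N, charDegree (θ : N → ℂ) ≠ 1 →
      (∀ (x : G) (n : N), (θ : N → ℂ) ⟨x * n * x⁻¹, hs.N_normal.conj_mem n n.2 x⟩ = (θ : N → ℂ) n) ∧
      ∃ χ : IrrCharacter G, charDegree (χ : G → ℂ) = charDegree (θ : N → ℂ) := by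
    intro θ hθ
    obtain ⟨χ, hχ⟩ := exists_deg_of_cyclic hcyc θ
    rcases hf.eq_one_or_self_of_dvd _ (Subgroup.index_dvd_of_le
        (le_inertia N (IsIrrCharacter.isClassFunction θ.2))) with ht | ht
    · exact ⟨fun x => (mem_inertia_iff N).1 (Subgroup.index_eq_one.1 ht ▸ Subgroup.mem_top x),
        χ, by rw [hχ, ht, one_mul]⟩
    · exfalso
      rw [ht] at hχ
      have := h.eq_of_dvd (χ := χf) (χ' := χ) (hχf ▸ hf1) (hχf ▸ hχ ▸ dvd_mul_right _ _)
      rw [hχf, hχ] at this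
      exact hθ (Nat.eq_of_mul_eq_mul_left hf.pos ((mul_one _).trans this)).symm
  have hco : ∀ θ : IrrCharacter N, charDegree (θ : N → ℂ) ≠ 1 →
      (charDegree (θ : N → ℂ)).Coprime N.index := fun θ hθ => by
    rw [Nat.coprime_comm, hf.coprime_iff_not_dvd]
    intro hd
    obtain ⟨-, χ, hχ⟩ := hinv θ hθ
    have e := h.eq_of_dvd (χ := χf) (χ' := χ) (hχf ▸ hf1) (hχf ▸ hχ ▸ hd)
    rw [hχf, hχ] at e
    exact hs.prime.not_dvd_one (hs.cop.gcd_eq_one ▸ Nat.dvd_gcd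
      (e ▸ h.dvd_of_frobSection hs hf1 χf hχf θ hθ) dvd_rfl)
  obtain ⟨b, k, hb, hbk⟩ := exists_coprime_factor N.index hf.pos _ (orderOf_pos (g₀ ^ N.index))
  set g := g₀ ^ b
  have hgN : g ∉ N := fun hg =>
    not_mem_of_gen hf1 hg₀ (mem_of_coprime_pow N hb hg (Subgroup.pow_index_mem N g₀))
  set σ : MulAut N := MulAut.conjNormal g
  obtain ⟨x₀, hx₀q, hx₀⟩ := exists_moved_of_frobSection hs hgN
  have hdata : Data N σ N.index q := by
    refine ⟨hs.prime, fun θ hθ x => ?_, hco, fun θ θ' hθ hθ' hd => ?_,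
      fun θ hθ => h.dvd_of_frobSection hs hf1 χf hχf θ hθ,
      ⟨⟨g ^ N.index, Subgroup.pow_index_mem N g⟩, ?_, ⟨k, ?_⟩, ?_⟩, ⟨x₀, hx₀q, hx₀⟩⟩
    · exact (congrArg _ (Subtype.ext (MulAut.conjNormal_apply _ _))).trans ((hinv θ hθ).1 g x)
    · obtain ⟨-, χ, hχ⟩ := hinv θ hθ
      obtain ⟨-, χ', hχ'⟩ := hinv θ' hθ'
      rw [← hχ, ← hχ'] at hd ⊢
      exact h.eq_of_dvd (hχ ▸ hθ) hd
    · refine Subtype.ext ?_
      simp only [σ, MulAut.conjNormal_apply]
      rw [← pow_succ', pow_succ, mul_inv_cancel_right]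
    · refine Subtype.ext ?_
      rw [SubmonoidClass.coe_pow, OneMemClass.coe_one, ← pow_mul, ← pow_mul]
      refine orderOf_dvd_iff_pow_eq_one.1 ?_
      obtain ⟨c, hc⟩ := hbk
      rw [orderOf_dvd_iff_pow_eq_one, show b * (N.index * N.index ^ k) = N.index * (b * N.index ^ k) by ring,
        pow_mul, hc, pow_mul, pow_orderOf_eq_one, one_pow]
    · intro x
      refine Subtype.ext ?_
      rw [← map_pow]
      exact MulAut.conjNormal_apply _ _
  obtain ⟨m, hm⟩ : ∃ m, ∀ θ : IrrCharacter N, charDegree (θ : N → ℂ) = 1 ∨ charDegree (θ : N → ℂ) = m := by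
    by_cases hD : q ∣ Nat.card (commutator N)
    · exact exists_deg_of_dvd hs.prime (fun θ hθ => h.dvd_of_frobSection hs hf1 χf hχf θ hθ)
        hdata.anti hD
    · exact hdata.exists_deg_of_not_dvd hD
  refine ⟨m, fun χ => ?_⟩
  by_cases h1 : charDegree (χ : G → ℂ) = 1
  · exact Or.inl h1
  obtain ⟨θ, hθ⟩ := exists_constituent (IsCharacter.restrict (IsIrrCharacter.isCharacter χ.2) N)
    (by rw [OneMemClass.coe_one]; exact IsIrrCharacter.apply_one_ne_zero χ.2)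
  by_cases hθ1 : charDegree (θ : N → ℂ) = 1
  · have h2 := ThreeDegrees.dvd_mul_index N χ.2 θ.2 hθ
    rw [hθ1, one_mul] at h2
    exact Or.inr (Or.inl ((h.eq_of_dvd (χ' := χf) h1 (hχf ▸ h2)).trans hχf))
  · obtain ⟨-, χ', hχ'⟩ := hinv θ hθ1
    have h2 := h.eq_of_dvd (χ := χ') (χ' := χ) (hχ' ▸ hθ1) (hχ' ▸ degree_dvd_of_over N χ.2 θ.2 hθ)
    exact Or.inr (Or.inr (by rw [← h2, hχ', (hm θ).resolve_left hθ1]))

/-- **No divisibility among degrees**: at most four degrees, derived length at most three. -/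
theorem NoDiv.exists_four [Group.IsSolvable G] (h : NoDiv G) :
    (∃ a b c : ℕ, ∀ χ : IrrCharacter G, charDegree (χ : G → ℂ) = 1 ∨ charDegree (χ : G → ℂ) = a ∨
      charDegree (χ : G → ℂ) = b ∨ charDegree (χ : G → ℂ) = c) ∧ derivedSeries G 3 = ⊥ := by
  classical
  haveI := Fintype.ofFinite G
  have of3 : ∀ a b, Deg3 G a b →
      (∃ a b c : ℕ, ∀ χ : IrrCharacter G, charDegree (χ : G → ℂ) = 1 ∨ charDegree (χ : G → ℂ) = a ∨
        charDegree (χ : G → ℂ) = b ∨ charDegree (χ : G → ℂ) = c) ∧ derivedSeries G 3 = ⊥ :=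
    fun a b hab => ⟨⟨a, b, b, fun χ => by rcases hab χ with e | e | e <;> simp [e]⟩,
      ThreeDegrees.derivedSeries_three hab⟩
  by_cases hG : commutator G ≤ ⊥
  · refine of3 1 1 fun χ => Or.inl (DegreeGraph.degree_one_of_trivial χ fun x hx => ?_)
    rw [le_bot_iff.1 hG, Subgroup.mem_bot] at hx
    rw [hx]
  obtain ⟨K, hKn, -, hKc, hKm⟩ := exists_max_section (⊥ : Subgroup G) hG
  haveI := hKn
  rcases section_cases K hKc hKm with ⟨p, hp, hpK⟩ | ⟨N, q, hs, hf1, ⟨g₀, hg₀⟩, χf, hχf⟩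
  · haveI := Fact.mk hp
    have hpd : p ∣ Nat.card (commutator G) := by
      by_contra hpd
      exact hKc (TwoDegrees.dvd_card_of_isPGroup_quotient hpK _
        (Nat.coprime_comm.1 (hp.coprime_iff_not_dvd.2 hpd)))
    obtain ⟨m, hm⟩ := exists_deg_of_dvd hp (fun χ hχ => h.dvd_of_isPGroup_section hp K hpK hKc χ hχ)
      (fun θ θ' hθ _ hd => h.eq_of_dvd hθ hd) hpd
    exact of3 m m fun χ => by rcases hm χ with e | e <;> simp [e]
  haveI := hs.N_normal
  haveI := Fintype.ofFinite N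
  by_cases hf : N.index.Prime
  · obtain ⟨m, hm⟩ := h.exists_deg3_of_prime hs hf hg₀ χf hχf
    exact of3 _ _ hm
  have hctx : Ctx N g₀ N.index q :=
    ⟨h, rfl, hg₀, hf, hf1, hs.prime, hs.cop, ⟨χf, hχf⟩,
      fun θ hθ => h.dvd_of_frobSection hs hf1 χf hχf θ hθ,
      exists_moved_of_frobSection hs (not_mem_of_gen hf1 hg₀)⟩
  by_cases hD : q ∣ Nat.card (commutator N)
  swap
  · obtain ⟨d, hd⟩ := hctx.exists_deg3 hD
    exact of3 _ _ hd
  obtain ⟨⟨m₁, m₂, hm⟩, hab⟩ := hctx.exists_two_values hD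
  refine ⟨⟨N.index, m₁, m₂, fun χ => ?_⟩, ?_⟩
  · by_cases h1 : charDegree (χ : G → ℂ) = 1
    · exact Or.inl h1
    obtain ⟨θ, hθ⟩ := exists_constituent (IsCharacter.restrict (IsIrrCharacter.isCharacter χ.2) N)
      (by rw [OneMemClass.coe_one]; exact IsIrrCharacter.apply_one_ne_zero χ.2)
    by_cases hθ1 : charDegree (θ : N → ℂ) = 1
    · have h2 := ThreeDegrees.dvd_mul_index N χ.2 θ.2 hθ
      rw [hθ1, one_mul] at h2
      exact Or.inr (Or.inl ((h.eq_of_dvd (χ' := χf) h1 (hχf ▸ h2)).trans hχf))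
    · obtain ⟨χ', hχ'⟩ := hctx.exists_deg θ
      obtain ⟨e, -, -, hdeg, -⟩ := degree_over N χ.2 θ.2 hθ
      have h2 := h.eq_of_dvd (χ := χ') (χ' := χ)
        (fun e1 => hθ1 (mul_eq_one.1 (hχ'.symm.trans e1)).2) (by
          rw [hχ', hdeg, mul_assoc]
          exact dvd_mul_left _ _)
      rw [← h2, hχ']
      exact Or.inr (Or.inr (hm θ hθ1))
  · have h1 : derivedSeries G 1 ≤ N := (derivedSeries_one G).le.trans hs.comm_le
    refine le_bot_iff.1 ((ThreeDegrees.derived_le N 1 h1).2.trans (le_of_eq ?_))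
    rw [Subgroup.commutator_eq_bot_iff_le_centralizer]
    intro x hx y hy
    have hx' : (⟨x, derN_le hx⟩ : N) ∈ commutator N := coe_mem_derN.1 hx
    have hy' : (⟨y, derN_le hy⟩ : N) ∈ commutator N := coe_mem_derN.1 hy
    exact congrArg Subtype.val (hab _ hy' _ hx')

end Cfsg.Agent.NoDivDeg
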